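import Cfsg.Agent.Lib.ReeG2.Group
import Cfsg.Prelude.Def_LieTwisted

/-!
²G₂ as defined by the words is the fixed group; its intersections with U, H, B and N.
-/

set_option autoImplicit false
set_option linter.unusedSectionVars false

namespace CfsgLib.ReeG2

open Cfsg.Lie CfsgLib.Chev
open scoped Matrix

variable {K : Type*} [Field K]

theorem exists_theta [Fintype K] {m : ℕ} (hK : Fintype.card K = 3 ^ (2 * m + 1)) :
    ∃ _ : CharP K 3, ∃ θ : K ≃+* K, IsRee θ ∧ ∀ x, θ x = x ^ 3 ^ m := by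
  have hchar : CharP K 3 := by
    obtain ⟨p, hp⟩ := CharP.exists K
    obtain ⟨n, hn1, hn2⟩ := FiniteField.card K p
    have h : 3 ∣ p ^ (n : ℕ) := by rw [← hn2, hK]; exact dvd_pow_self 3 (by omega)
    rwa [(Nat.prime_dvd_prime_iff_eq Nat.prime_three hn1).mp (Nat.prime_three.dvd_of_dvd_pow h)]
  haveI : Fact (Nat.Prime 3) := ⟨Nat.prime_three⟩
  refine ⟨hchar, iterateFrobeniusEquiv K 3 m, fun x => ?_, fun x => iterateFrobeniusEquiv_def K 3 m x⟩
  simp only [iterateFrobeniusEquiv_def, ← pow_mul, ← pow_add]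
  rw [show 3 ^ (m + m) * 3 = Fintype.card K by rw [hK, ← pow_succ]; congr 1; omega]
  exact FiniteField.pow_card x

variable [CharP K 3] {θ : K ≃+* K} {e : ℕ}

theorem wordU_eq (hθe : ∀ x, θ x = x ^ e) (t u v : K) :
    (ru θ t u v : Matrix chevG2.Idx chevG2.Idx K) = chevG2.wordMat K (reeWordU e t u v) := by
  rw [← coe_wordGL hc (w := reeWordU e t u v) (by
    intro p hp
    simp [reeWordU, g2a, g2b, g2ab, g2aab, g2aaab, g2aaabb] at hp
    rcases hp with h | h | h | h | h | h <;> subst h <;> exact (show _ < 12 by norm_num))]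
  congr 1
  simp [ru, uu, rc, wordGL, reeWordU, g2a, g2b, g2ab, g2aab, g2aaab, g2aaabb, hθe, pow_succ, mul_assoc,
    pow_mul', ← pow_mul]
  ring_nf

theorem wordV_eq (hθe : ∀ x, θ x = x ^ e) (t u v : K) :
    ((n0 K * ru θ t u v * (n0 K)⁻¹ : GL chevG2.Idx K) : Matrix chevG2.Idx chevG2.Idx K) =
      chevG2.wordMat K (reeWordV e t u v) := by
  have hw : reeWordV e t u v = [(4, -t ^ e), (5, -t), (3, -(t ^ (e + 1) + u ^ e)),
      (2, -(t ^ (2 * e + 1) + v ^ e)), (1, -u), (0, -v)] := rfl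
  rw [hw, ← coe_wordGL hc (by
    intro p hp
    simp at hp
    rcases hp with h | h | h | h | h | h <;> subst h <;> exact (show _ < 12 by norm_num))]
  congr 1
  rw [ru, uu_conj_n0]
  simp [rc, wordGL, hθe, mul_assoc]
  ring_nf

theorem twistedG2_eq_genG (hθe : ∀ x, θ x = x ^ e) : twistedG2 K e = genG θ := by
  rw [twistedG2, ChevalleyDatum.genSubgroup, genG]
  congr 1
  ext g
  constructor
  · rintro ⟨w, ⟨t, u, v, rfl | rfl⟩, hg⟩
    · exact ⟨t, u, v, Or.inl (Units.ext (hg.trans (wordU_eq hθe t u v).symm))⟩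
    · exact ⟨t, u, v, Or.inr (Units.ext (hg.trans (wordV_eq hθe t u v).symm))⟩
  · rintro ⟨t, u, v, rfl | rfl⟩
    · exact ⟨_, ⟨t, u, v, Or.inl rfl⟩, wordU_eq hθe t u v⟩
    · exact ⟨_, ⟨t, u, v, Or.inr rfl⟩, wordV_eq hθe t u v⟩

/-- all the data of ²G₂(q) -/
theorem model [Fintype K] (hθ : IsRee θ) (hθe : ∀ x, θ x = x ^ e) : twistedG2 K e = fixG θ := by
  rw [twistedG2_eq_genG hθe, genG_eq hθ]

/-- hh as a homomorphism -/
noncomputable def hHom (θ : K ≃+* K) : Kˣ →* GL chevG2.Idx K where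
  toFun := hh θ
  map_one' := hh_one
  map_mul' a b := (hh_mul a b).symm

theorem hHom_injective : Function.Injective (hHom θ) := fun _ _ h => hh_injective h

variable (hθ : IsRee θ)
include hθ

theorem mem_pos_fix {g : GL chevG2.Idx K} :
    g ∈ chevG2.posUnipotent K ⊓ fixG θ ↔ ∃ t u v, g = ru θ t u v := by
  constructor
  · rintro ⟨h1, h2⟩
    obtain ⟨c, rfl⟩ := mem_pos.1 h1
    obtain ⟨t, u, v, rfl⟩ := (uu_mem_fixG_iff hθ).1 h2
    exact ⟨t, u, v, rfl⟩
  · rintro ⟨t, u, v, rfl⟩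
    exact ⟨ru_mem_pos t u v, ru_mem_fixG hθ t u v⟩

theorem diag_inf_fix : chevG2.diagonalSubgroup K ⊓ fixG θ = (hHom θ).range := by
  ext g
  constructor
  · rintro ⟨h1, h2⟩
    obtain ⟨a, b, rfl⟩ := mem_diag.1 h1
    exact ⟨a, by rw [(tor_mem_fixG_iff hθ).1 h2]; rfl⟩
  · rintro ⟨a, rfl⟩
    exact ⟨hh_mem_diag a, hh_mem_fixG hθ a⟩

theorem mem_borel_fix {g : GL chevG2.Idx K} :
    g ∈ chevG2.borelSubgroup K ⊓ fixG θ ↔ ∃ t u v a, g = ru θ t u v * hh θ a := by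
  constructor
  · rintro ⟨h1, h2⟩
    rcases fixG_cases hθ h2 with h | ⟨t, u, v, a, t', u', v', rfl⟩
    · exact h
    · exact absurd h1 (big_not_mem_borel t u v a t' u' v')
  · rintro ⟨t, u, v, a, rfl⟩
    exact ⟨small_mem_borel t u v a, mul_mem (ru_mem_fixG hθ _ _ _) (hh_mem_fixG hθ _)⟩

theorem mem_monomial_fix {g : GL chevG2.Idx K} :
    g ∈ chevG2.monomialSubgroup K ⊓ fixG θ ↔ ∃ a, g = hh θ a ∨ g = hh θ a * n0 K := by
  constructor
  · rintro ⟨h1, h2⟩
    rcases fixG_cases hθ h2 with ⟨t, u, v, a, rfl⟩ | ⟨t, u, v, a, t', u', v', rfl⟩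
    · refine ⟨a, Or.inl ?_⟩
      obtain ⟨b, c, e⟩ := mem_diag.1 (borel_inf_monomial hc (small_mem_borel t u v a) h1)
      obtain ⟨e1, -, -⟩ := borel_unique (u := rc θ t u v) (u' := rc θ 0 0 0)
        (a := a) (b := bb θ a) (a' := b) (b' := c)
        (by show ru θ t u v * hh θ a = ru θ 0 0 0 * _; rw [ru_zero, one_mul, e])
      rw [ru, e1, ← ru, ru_zero, one_mul]
    · obtain ⟨P, hB, hN, -⟩ := exists_bnPair hc hcomm (F := K)
      set g := ru θ t u v * hh θ a * n0 K * ru θ t' u' v' with hg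
      have hn0N : (⟨n0 K, n0_mem_group⟩ : ↥(chevG2.group K)) ∈ P.N := by
        rw [hN, Subgroup.mem_subgroupOf]; exact n0_mem_monomial
      have hgN : (⟨g, h2.1⟩ : ↥(chevG2.group K)) ∈ P.N := by
        rw [hN, Subgroup.mem_subgroupOf]; exact h1
      have hmem : (⟨g, h2.1⟩ : ↥(chevG2.group K)) ∈ CfsgLib.BN.cell P (CfsgLib.BN.wk P _ hn0N) := by
        refine (CfsgLib.BN.mem_cell_wk P _).2 ⟨⟨ru θ t u v * hh θ a,
          mul_mem (uu_mem_group _) (tor_mem_group _ _)⟩, ?_, ⟨ru θ t' u' v', uu_mem_group _⟩, ?_, rfl⟩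
        · rw [hB, Subgroup.mem_subgroupOf]; exact small_mem_borel t u v a
        · rw [hB, Subgroup.mem_subgroupOf]; exact Subgroup.mem_sup_left (ru_mem_pos t' u' v')
      have hw := CfsgLib.BN.eq_of_mem_cell P (CfsgLib.BN.self_mem_cell P hgN) hmem
      rw [CfsgLib.BN.wk_eq_iff, hB, Subgroup.mem_subgroupOf] at hw
      simp only [Subgroup.coe_mul, Subgroup.coe_inv] at hw
      obtain ⟨b, c, e⟩ := mem_diag.1 (borel_inf_monomial hc hw (mul_mem (inv_mem h1) n0_mem_monomial))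
      have e' : g = tor b c * n0 K := by
        have h3 : g = n0 K * (tor b c)⁻¹ := by rw [← e]; group
        rw [h3, tor_inv, ← mul_left_inj (n0 K)⁻¹, n0_conj_tor, inv_inv, inv_inv, mul_inv_cancel_right]
      have e'' : uu (rc θ t u v) * tor a (bb θ a) * n0 K * uu (rc θ t' u' v') =
          uu (rc θ 0 0 0) * tor b c * n0 K * uu (rc θ 0 0 0) := by
        change g = ru θ 0 0 0 * _ * _ * ru θ 0 0 0
        rw [ru_zero, one_mul, mul_one, e']
      obtain ⟨k1, -, -, k4⟩ := cell_unique e''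
      refine ⟨a, Or.inr ?_⟩
      show uu (rc θ t u v) * hh θ a * n0 K * uu (rc θ t' u' v') = _
      rw [k1, k4, ← ru, ru_zero, one_mul, mul_one]
  · rintro ⟨a, rfl | rfl⟩
    · exact ⟨diagonal_le_monomial hc (hh_mem_diag a), hh_mem_fixG hθ a⟩
    · exact ⟨mul_mem (diagonal_le_monomial hc (hh_mem_diag a)) n0_mem_monomial,
        mul_mem (hh_mem_fixG hθ a) (n0_mem_fixG hθ)⟩

end CfsgLib.ReeG2
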