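import Cfsg.Agent.Lib.ReeG2.Model
import Cfsg.Agent.Lib.BN.Basic

/-!
²G₂ as a group with a split (B, N)-pair of rank one.
-/

set_option autoImplicit false
set_option linter.unusedSectionVars false

namespace CfsgLib.ReeG2

open Cfsg.Lie CfsgLib.Chev
open scoped Matrix Pointwise

variable {K : Type*} [Field K] [CharP K 3] {θ : K ≃+* K}

/-- B¹ -/
noncomputable abbrev Bf (θ : K ≃+* K) : Subgroup ↥(fixG θ) :=
  (chevG2.borelSubgroup K ⊓ fixG θ).subgroupOf (fixG θ)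

/-- N¹ -/
noncomputable abbrev Nf (θ : K ≃+* K) : Subgroup ↥(fixG θ) :=
  (chevG2.monomialSubgroup K ⊓ fixG θ).subgroupOf (fixG θ)

/-- U¹ -/
noncomputable abbrev Uf (θ : K ≃+* K) : Subgroup ↥(fixG θ) :=
  (chevG2.posUnipotent K ⊓ fixG θ).subgroupOf (fixG θ)

/-- H¹ -/
noncomputable abbrev Hf (θ : K ≃+* K) : Subgroup ↥(fixG θ) :=
  (chevG2.diagonalSubgroup K ⊓ fixG θ).subgroupOf (fixG θ)

theorem bb_one : bb θ (1 : Kˣ) = 1 := by simp [bb]

theorem hh_comm (a b : Kˣ) : hh θ a * hh θ b = hh θ b * hh θ a := by rw [hh_mul, hh_mul, mul_comm]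

/-- the scalings on the three layers -/
theorem bb_eq_one {a : Kˣ} (h : bb θ a = 1) : a = 1 := by
  have h1 : θ (a : K) ^ 3 = (1 : K) ^ 3 := by rw [← coe_bb, h, one_pow]; rfl
  exact Units.ext (θ.injective (by rw [cube_inj h1, Units.val_one, map_one]))

variable (hθ : IsRee θ)
include hθ

theorem scale_u {a : Kˣ} (h : a ^ 3 * bb θ a = 1) : a = 1 ∨ a = -1 := by
  have h1 : ((a : K) * θ (a : K)) ^ 3 = (1 : K) ^ 3 := by
    have := congrArg Units.val h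
    simp only [Units.val_mul, Units.val_pow_eq_pow_val, coe_bb, Units.val_one] at this
    linear_combination this
  have h2 := cube_inj h1
  have h3 : θ (a : K) * θ (θ (a : K)) = 1 := by rw [← map_mul, h2, map_one]
  have h4 : θ (θ (a : K)) = a := mul_left_cancel₀
    (right_ne_zero_of_mul_eq_one h2) (h3.trans (h2.symm.trans (mul_comm _ _)))
  have h5 := hθ (a : K)
  rw [h4] at h5
  have h6 : (a : K) * a = 1 := mul_right_cancel₀ a.ne_zero (by linear_combination h5)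
  rcases mul_self_eq_one_iff.1 h6 with e | e
  · exact Or.inl (Units.ext e)
  · exact Or.inr (Units.ext e)

theorem scale_v {a : Kˣ} (h : a ^ 3 * bb θ a ^ 2 = 1) : a = 1 := by
  have h1 : ((a : K) * θ (a : K) ^ 2) ^ 3 = (1 : K) ^ 3 := by
    have := congrArg Units.val h
    simp only [Units.val_mul, Units.val_pow_eq_pow_val, coe_bb, Units.val_one] at this
    linear_combination this
  have h2 := cube_inj h1
  have h3 : θ (a : K) * θ (θ (a : K)) ^ 2 = 1 := by rw [← map_pow, ← map_mul, h2, map_one]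
  have h5 := hθ (a : K)
  have e1 : θ (a : K) ^ 3 * (a : K) ^ 2 = 1 := by
    calc θ (a : K) ^ 3 * (a : K) ^ 2 = (θ (a : K) * θ (θ (a : K)) ^ 2) ^ 3 := by rw [mul_pow, ← pow_mul, show 2 * 3 = 3 * 2 from rfl, pow_mul, h5]
      _ = 1 := by rw [h3, one_pow]
  have e2 : θ (a : K) * a = 1 := by
    calc θ (a : K) * a = (θ (a : K) * a) * ((a : K) * θ (a : K) ^ 2) := by rw [h2, mul_one]
      _ = 1 := by linear_combination e1
  have e3 : (θ (a : K) * a) ^ 2 = 1 := by rw [e2, one_pow]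
  refine Units.ext ?_
  calc (a : K) = a * ((a : K) * θ (a : K) ^ 2) := by rw [h2, mul_one]
    _ = (θ (a : K) * a) ^ 2 := by ring
    _ = 1 := e3

theorem mem_Bf {g : ↥(fixG θ)} : g ∈ Bf θ ↔ ∃ t u v a, (g : GL chevG2.Idx K) = ru θ t u v * hh θ a := by
  rw [Subgroup.mem_subgroupOf, mem_borel_fix hθ]

theorem mem_Uf {g : ↥(fixG θ)} : g ∈ Uf θ ↔ ∃ t u v, (g : GL chevG2.Idx K) = ru θ t u v := by
  rw [Subgroup.mem_subgroupOf, mem_pos_fix hθ]

theorem mem_Hf {g : ↥(fixG θ)} : g ∈ Hf θ ↔ ∃ a, (g : GL chevG2.Idx K) = hh θ a := by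
  rw [Subgroup.mem_subgroupOf, diag_inf_fix hθ]
  exact ⟨fun ⟨a, ha⟩ => ⟨a, ha.symm⟩, fun ⟨a, ha⟩ => ⟨a, ha.symm⟩⟩

theorem mem_Nf {g : ↥(fixG θ)} :
    g ∈ Nf θ ↔ ∃ a, (g : GL chevG2.Idx K) = hh θ a ∨ (g : GL chevG2.Idx K) = hh θ a * n0 K := by
  rw [Subgroup.mem_subgroupOf, mem_monomial_fix hθ]

/-- n₀ in the fixed group -/
noncomputable def nn : ↥(fixG θ) := ⟨n0 K, n0_mem_fixG hθ⟩

/-- a unipotent element in the fixed group -/
noncomputable def rg (t u v : K) : ↥(fixG θ) := ⟨ru θ t u v, ru_mem_fixG hθ t u v⟩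

/-- a torus element in the fixed group -/
noncomputable def hg (a : Kˣ) : ↥(fixG θ) := ⟨hh θ a, hh_mem_fixG hθ a⟩

theorem rg_mem_Bf (t u v : K) : rg hθ t u v ∈ Bf θ :=
  (mem_Bf hθ).2 ⟨t, u, v, 1, by rw [hh_one, mul_one]; rfl⟩

theorem hg_mem_Bf (a : Kˣ) : hg hθ a ∈ Bf θ :=
  (mem_Bf hθ).2 ⟨0, 0, 0, a, by rw [ru_zero, one_mul]; rfl⟩

theorem nn_mul_self : nn hθ * nn hθ = 1 := Subtype.ext n0_sq

theorem nn_not_mem : nn hθ ∉ Bf θ := fun h => n0_not_mem_borel (K := K) (Subgroup.mem_subgroupOf.1 h).1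

/-- the decomposition into two double cosets -/
theorem cases_fix (g : ↥(fixG θ)) : g ∈ Bf θ ∨ ∃ b ∈ Bf θ, ∃ b' ∈ Uf θ, g = b * nn hθ * b' := by
  rcases fixG_cases hθ g.2 with h | ⟨t, u, v, a, t', u', v', h⟩
  · exact Or.inl ((mem_Bf hθ).2 h)
  · exact Or.inr ⟨rg hθ t u v * hg hθ a, (mem_Bf hθ).2 ⟨t, u, v, a, rfl⟩, rg hθ t' u' v',
      (mem_Uf hθ).2 ⟨t', u', v', rfl⟩, Subtype.ext h⟩

theorem Uf_le_Bf : Uf θ ≤ Bf θ := by
  intro g hg'
  obtain ⟨t, u, v, e⟩ := (mem_Uf hθ).1 hg'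
  exact (mem_Bf hθ).2 ⟨t, u, v, 1, by rw [e, hh_one, mul_one]⟩

theorem cover (a : Kˣ) (g : ↥(fixG θ)) :
    g ∈ DoubleCoset.doubleCoset (hg hθ a) (Bf θ : Set ↥(fixG θ)) (Bf θ) ∪
      DoubleCoset.doubleCoset (hg hθ a * nn hθ) (Bf θ : Set ↥(fixG θ)) (Bf θ) := by
  rcases cases_fix hθ g with h | ⟨b, hb, b', hb', rfl⟩
  · left
    exact DoubleCoset.mem_doubleCoset.2 ⟨g, h, (hg hθ a)⁻¹, inv_mem (hg_mem_Bf hθ a), by group⟩
  · right
    exact DoubleCoset.mem_doubleCoset.2 ⟨b * (hg hθ a)⁻¹, mul_mem hb (inv_mem (hg_mem_Bf hθ a)), b',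
      Uf_le_Bf hθ hb', by group⟩

theorem mem_borel_neg_conj {t u v : K}
    (h : n0 K * ru θ t u v * (n0 K)⁻¹ ∈ chevG2.borelSubgroup K) : ru θ t u v = 1 := by
  have := borel_inf_neg hc h (uu_conj_n0_mem _)
  calc ru θ t u v = (n0 K)⁻¹ * (n0 K * ru θ t u v * (n0 K)⁻¹) * n0 K := by group
    _ = 1 := by rw [this]; group

omit hθ in
theorem ru_ne_one {t u v : K} (h : t ≠ 0 ∨ u ≠ 0 ∨ v ≠ 0) : ru θ t u v ≠ 1 := fun e => by
  obtain ⟨rfl, rfl, rfl⟩ := ru_injective (e.trans ru_zero.symm)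
  simp at h

/-- the (B, N)-pair of ²G₂ -/
noncomputable def pair : Cfsg.BNPair ↥(fixG θ) where
  B := Bf θ
  N := Nf θ
  S := {nn hθ}
  sup_eq_top := by
    rw [eq_top_iff]
    intro g _
    have hn : nn hθ ∈ Nf θ := (mem_Nf hθ).2 ⟨1, Or.inr (by rw [hh_one, one_mul]; rfl)⟩
    rcases cases_fix hθ g with h | ⟨b, hb, b', hb', rfl⟩
    · exact Subgroup.mem_sup_left h
    · exact mul_mem (mul_mem (Subgroup.mem_sup_left hb) (Subgroup.mem_sup_right hn))
        (Subgroup.mem_sup_left (Uf_le_Bf hθ hb'))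
  conj_mem := by
    rintro n hn t ⟨htB, htN⟩
    have hnm := (Subgroup.mem_subgroupOf.1 hn).1
    have htm := borel_inf_monomial hc (Subgroup.mem_subgroupOf.1 htB).1 (Subgroup.mem_subgroupOf.1 htN).1
    exact Subgroup.mem_subgroupOf.2 ⟨diagonal_le_borel hc (monomial_conj_diagonal hc hnm htm), (n * t * n⁻¹).2⟩
  subset := by
    intro s hs
    obtain rfl : s = nn hθ := hs
    exact (mem_Nf hθ).2 ⟨1, Or.inr (by rw [hh_one, one_mul]; rfl)⟩
  sq_mem := by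
    intro s hs
    obtain rfl : s = nn hθ := hs
    rw [nn_mul_self hθ]
    exact one_mem _
  inj := by
    intro s hs s' hs' _
    exact (Set.mem_singleton_iff.1 hs).trans (Set.mem_singleton_iff.1 hs').symm
  closure_sup := by
    refine le_antisymm (sup_le ((Subgroup.closure_le _).2 ?_) inf_le_right) fun n hn => ?_
    · intro s hs
      obtain rfl : s = nn hθ := hs
      exact (mem_Nf hθ).2 ⟨1, Or.inr (by rw [hh_one, one_mul]; rfl)⟩
    · obtain ⟨a, h | h⟩ := (mem_Nf hθ).1 hn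
      · exact Subgroup.mem_sup_right ⟨(mem_Bf hθ).2 ⟨0, 0, 0, a, by rw [ru_zero, one_mul, h]⟩, hn⟩
      · rw [show n = hg hθ a * nn hθ from Subtype.ext h]
        exact mul_mem (Subgroup.mem_sup_right ⟨hg_mem_Bf hθ a, (mem_Nf hθ).2 ⟨a, Or.inl rfl⟩⟩)
          (Subgroup.mem_sup_left (Subgroup.subset_closure rfl))
  mul_mem_union := by
    intro s hs n hn b _
    obtain rfl : s = nn hθ := hs
    obtain ⟨a, h | h⟩ := (mem_Nf hθ).1 hn
    · have e : nn hθ * n = hg hθ a⁻¹ * nn hθ := Subtype.ext (by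
        show n0 K * (n : GL chevG2.Idx K) = hh θ a⁻¹ * n0 K
        rw [h, n0_mul_hh])
      rw [e, show n = hg hθ a from Subtype.ext h]
      rcases cover hθ a (nn hθ * b * hg hθ a) with h' | h'
      · exact Or.inr h'
      · left
        obtain ⟨x, hx, y, hy, e'⟩ := DoubleCoset.mem_doubleCoset.1 h'
        exact DoubleCoset.mem_doubleCoset.2 ⟨x * hg hθ a * (hg hθ a⁻¹)⁻¹,
          mul_mem (mul_mem hx (hg_mem_Bf hθ a)) (inv_mem (hg_mem_Bf hθ _)), y, hy, by rw [e']; group⟩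
    · have e : nn hθ * n = hg hθ a⁻¹ := Subtype.ext (by
        show n0 K * (n : GL chevG2.Idx K) = hh θ a⁻¹
        rw [h, ← mul_assoc, n0_mul_hh, mul_assoc, n0_sq, mul_one])
      rw [e, show n = hg hθ a * nn hθ from Subtype.ext h]
      rcases cover hθ a (nn hθ * b * (hg hθ a * nn hθ)) with h' | h'
      · left
        obtain ⟨x, hx, y, hy, e'⟩ := DoubleCoset.mem_doubleCoset.1 h'
        exact DoubleCoset.mem_doubleCoset.2 ⟨x * hg hθ a * (hg hθ a⁻¹)⁻¹,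
          mul_mem (mul_mem hx (hg_mem_Bf hθ a)) (inv_mem (hg_mem_Bf hθ _)), y, hy, by rw [e']; group⟩
      · exact Or.inr h'
  conj_ne := by
    intro s hs hEq
    obtain rfl : s = nn hθ := hs
    have h : nn hθ * rg hθ 1 0 0 * nn hθ ∈ ((Bf θ : Subgroup _) : Set ↥(fixG θ)) :=
      hEq ▸ ⟨rg hθ 1 0 0, rg_mem_Bf hθ 1 0 0, rfl⟩
    have h' : n0 K * ru θ 1 0 0 * (n0 K)⁻¹ ∈ chevG2.borelSubgroup K := by
      rw [n0_inv]
      exact (Subgroup.mem_subgroupOf.1 h).1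
    exact ru_ne_one (Or.inl one_ne_zero) (mem_borel_neg_conj hθ h')

theorem core_trivial : (Bf θ).normalCore = ⊥ := by
  have key : ∀ g ∈ (Bf θ).normalCore, ∃ a, (g : GL chevG2.Idx K) = hh θ a := by
    intro g hg'
    obtain ⟨t, u, v, a, e⟩ := (mem_Bf hθ).1 (Subgroup.normalCore_le _ hg')
    have h2 := (Subgroup.mem_subgroupOf.1 (Subgroup.normalCore_le _
      ((Subgroup.normalCore_normal _).conj_mem g hg' (nn hθ)))).1
    refine ⟨a, ?_⟩
    have h3 : n0 K * ru θ t u v * (n0 K)⁻¹ ∈ chevG2.borelSubgroup K := by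
      have : n0 K * ru θ t u v * (n0 K)⁻¹ = (n0 K * (g : GL chevG2.Idx K) * (n0 K)⁻¹) * hh θ a := by
        rw [e, show n0 K * (ru θ t u v * hh θ a) * (n0 K)⁻¹ =
          (n0 K * ru θ t u v * (n0 K)⁻¹) * (n0 K * hh θ a * (n0 K)⁻¹) by group, n0_conj_hh, mul_assoc _ (hh θ a⁻¹),
          hh_mul, inv_mul_cancel, hh_one, mul_one]
      rw [this]
      exact mul_mem h2 (Subgroup.mem_sup_right (hh_mem_diag a))
    rw [e, mem_borel_neg_conj hθ h3, one_mul]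
  rw [eq_bot_iff]
  intro g hg'
  obtain ⟨a, e⟩ := key g hg'
  obtain ⟨b, e'⟩ := key _ ((Subgroup.normalCore_normal _).conj_mem g hg' (rg hθ 1 0 0))
  rw [Subgroup.mem_bot]
  apply Subtype.ext
  rw [e, OneMemClass.coe_one]
  have h1 : ru θ 1 0 0 * hh θ a * (ru θ 1 0 0)⁻¹ = hh θ b := by rw [← e, ← e']; rfl
  rw [ru_inv hθ, mul_assoc, ru_mul_hh hθ, ← mul_assoc, ru_mul hθ] at h1
  obtain ⟨k, -⟩ := small_unique (θ := θ) (h1.trans (show hh θ b = ru θ 0 0 0 * hh θ b by rw [ru_zero, one_mul]))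
  have : bb θ a = 1 := Units.ext (show (bb θ a : K) = 1 by linear_combination (-1 : K) * k)
  rw [bb_eq_one this, hh_one]

theorem borel_solvable : Group.IsSolvable ↥(Bf θ) := by
  let Z : Subgroup ↥(fixG θ) :=
    { carrier := {g | ∃ u v, (g : GL chevG2.Idx K) = ru θ 0 u v}
      mul_mem' := by
        rintro g k ⟨u, v, e⟩ ⟨u', v', e'⟩
        refine ⟨u + u', v + v', ?_⟩
        rw [Subgroup.coe_mul, e, e', ru_mul hθ]
        congr 1 <;> simp
      one_mem' := ⟨0, 0, by rw [ru_zero]; rfl⟩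
      inv_mem' := by
        rintro g ⟨u, v, e⟩
        refine ⟨-u, -v, ?_⟩
        rw [Subgroup.coe_inv, e, ru_inv hθ]
        congr 1 <;> simp }
  have hB : ⁅Bf θ, Bf θ⁆ ≤ Uf θ := by
    rw [Subgroup.commutator_le]
    intro g hg' k hk'
    obtain ⟨t, u, v, a, e⟩ := (mem_Bf hθ).1 hg'
    obtain ⟨x, y, z, b, e'⟩ := (mem_Bf hθ).1 hk'
    rw [Subgroup.mem_subgroupOf]
    have hc' : ∀ c t u v, hh θ c * ru θ t u v * (hh θ c)⁻¹ ∈ chevG2.posUnipotent K ⊓ fixG θ := fun c t u v => by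
      rw [hh_conj_ru hθ]; exact ⟨ru_mem_pos _ _ _, ru_mem_fixG hθ _ _ _⟩
    have hu : ∀ t u v, ru θ t u v ∈ chevG2.posUnipotent K ⊓ fixG θ := fun t u v =>
      ⟨ru_mem_pos _ _ _, ru_mem_fixG hθ _ _ _⟩
    simp only [commutatorElement_def, Subgroup.coe_mul, Subgroup.coe_inv, e, e']
    have : ru θ t u v * hh θ a * (ru θ x y z * hh θ b) * (ru θ t u v * hh θ a)⁻¹ * (ru θ x y z * hh θ b)⁻¹ =
        ru θ t u v * (hh θ a * ru θ x y z * (hh θ a)⁻¹) * (hh θ b * ru θ t u v * (hh θ b)⁻¹)⁻¹ *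
          (ru θ x y z)⁻¹ := by
      calc _ = ru θ t u v * (hh θ a * ru θ x y z * (hh θ a)⁻¹) * (hh θ a * hh θ b * (hh θ a)⁻¹) *
            (ru θ t u v)⁻¹ * (hh θ b)⁻¹ * (ru θ x y z)⁻¹ := by group
        _ = _ := by rw [show hh θ a * hh θ b * (hh θ a)⁻¹ = hh θ b by rw [hh_comm, mul_inv_cancel_right]]; group
    rw [this]
    exact mul_mem (mul_mem (mul_mem (hu _ _ _) (hc' _ _ _ _)) (inv_mem (hc' _ _ _ _))) (inv_mem (hu _ _ _))
  have hU : ⁅Uf θ, Uf θ⁆ ≤ Z := by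
    rw [Subgroup.commutator_le]
    intro g hg' k hk'
    obtain ⟨t, u, v, e⟩ := (mem_Uf hθ).1 hg'
    obtain ⟨x, y, z, e'⟩ := (mem_Uf hθ).1 hk'
    show ∃ u v, _
    simp only [commutatorElement_def, Subgroup.coe_mul, Subgroup.coe_inv, e, e', ru_inv hθ, ru_mul hθ]
    rw [show t + x + -t + -x = 0 by ring]
    exact ⟨_, _, rfl⟩
  have hZ : ⁅Z, Z⁆ ≤ ⊥ := by
    rw [Subgroup.commutator_le]
    rintro g ⟨u, v, e⟩ k ⟨u', v', e'⟩
    rw [Subgroup.mem_bot]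
    apply Subtype.ext
    simp only [commutatorElement_def, Subgroup.coe_mul, Subgroup.coe_inv, e, e', ru_inv hθ, ru_mul hθ,
      OneMemClass.coe_one]
    rw [← ru_zero (θ := θ)]
    congr 1 <;> simp
  refine ⟨⟨3, ?_⟩⟩
  have h0 : (derivedSeries ↥(Bf θ) 0).map (Bf θ).subtype ≤ Bf θ := Subgroup.map_subtype_le _
  have step : ∀ {n : ℕ} {A C : Subgroup ↥(fixG θ)}, (derivedSeries ↥(Bf θ) n).map (Bf θ).subtype ≤ A → ⁅A, A⁆ ≤ C →
      (derivedSeries ↥(Bf θ) (n + 1)).map (Bf θ).subtype ≤ C := fun {n A C} h hc' => by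
    rw [derivedSeries_succ, Subgroup.map_commutator]
    exact (Subgroup.commutator_mono h h).trans hc'
  have h3 := step (step (step h0 hB) hU) hZ
  rwa [le_bot_iff, Subgroup.map_eq_bot_iff_of_injective _ (Bf θ).subtype_injective] at h3

variable [Fintype K]

theorem exists_scale (hq : 3 < Fintype.card K) : ∃ a : Kˣ, a ^ 3 * bb θ a ≠ 1 := by
  classical
  by_contra h
  push Not at h
  have hle : Fintype.card Kˣ ≤ 2 := by
    refine (Fintype.card_le_of_injective (fun a : Kˣ => decide (a = 1)) fun x y e => ?_).trans (le_of_eq rfl)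
    rcases scale_u hθ (h x) with hx | hx <;> rcases scale_u hθ (h y) with hy | hy <;>
      simp only [hx, hy] at e ⊢ <;> simp_all
  rw [Fintype.card_units] at hle
  omega

theorem perfect (hq : 3 < Fintype.card K) : commutator ↥(fixG θ) = ⊤ := by
  set G' := commutator ↥(fixG θ)
  obtain ⟨a, ha⟩ := exists_scale hθ hq
  have comm : ∀ x y : ↥(fixG θ), x * y * x⁻¹ * y⁻¹ ∈ G' := fun x y =>
    Subgroup.commutator_mem_commutator (Subgroup.mem_top x) (Subgroup.mem_top y)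
  have hv : ∀ v, rg hθ 0 0 v ∈ G' := fun v => by
    have h := comm (hg hθ (-1)) (rg hθ 0 0 v)
    convert h using 1
    apply Subtype.ext
    show ru θ 0 0 v = hh θ (-1) * ru θ 0 0 v * (hh θ (-1))⁻¹ * (ru θ 0 0 v)⁻¹
    rw [neg_one_conj_ru hθ, ru_inv hθ, ru_mul hθ]
    congr 1 <;> simp [map_neg]
    linear_combination v * three (K := K)
  have hu : ∀ u, rg hθ 0 u 0 ∈ G' := fun u => by
    have hne : ((a : K) ^ 3 * bb θ a - 1) ≠ 0 := fun e => ha (Units.ext (by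
      simp only [Units.val_mul, Units.val_pow_eq_pow_val, Units.val_one]; linear_combination e))
    have h := comm (hg hθ a) (rg hθ 0 (u / ((a : K) ^ 3 * bb θ a - 1)) 0)
    convert h using 1
    apply Subtype.ext
    show ru θ 0 u 0 = hh θ a * ru θ 0 _ 0 * (hh θ a)⁻¹ * (ru θ 0 _ 0)⁻¹
    rw [hh_conj_ru hθ, ru_inv hθ, ru_mul hθ]
    congr 1 <;> simp [map_neg]
    field_simp
    ring
  have huv : ∀ u v, rg hθ 0 u v ∈ G' := fun u v => by
    convert mul_mem (hu u) (hv v) using 1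
    apply Subtype.ext
    show ru θ 0 u v = ru θ 0 u 0 * ru θ 0 0 v
    rw [ru_mul hθ]
    congr 1 <;> simp
  have hru : ∀ t u v, rg hθ t u v ∈ G' := fun t u v => by
    have h := comm (hg hθ (-1)) (rg hθ t 0 0)
    have ev : ∃ x y, hh θ (-1 : Kˣ) * ru θ t 0 0 * (hh θ (-1 : Kˣ))⁻¹ * (ru θ t 0 0)⁻¹ = ru θ t x y := by
      rw [neg_one_conj_ru hθ, ru_inv hθ, ru_mul hθ, show -t + -t = t by linear_combination (-t) * three (K := K)]
      exact ⟨_, _, rfl⟩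
    obtain ⟨x, y, ev⟩ := ev
    have e : hg hθ (-1) * rg hθ t 0 0 * (hg hθ (-1))⁻¹ * (rg hθ t 0 0)⁻¹ = rg hθ t x y := Subtype.ext ev
    rw [e] at h
    have ev' : ∃ x' y', (ru θ t x y)⁻¹ * ru θ t u v = ru θ 0 x' y' := by
      rw [ru_inv hθ, ru_mul hθ, neg_add_cancel]
      exact ⟨_, _, rfl⟩
    obtain ⟨x', y', ev'⟩ := ev'
    have e' : (rg hθ t x y)⁻¹ * rg hθ t u v = rg hθ 0 x' y' := Subtype.ext ev'
    have := mul_mem h (huv x' y')
    rwa [← e', mul_inv_cancel_left] at this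
  have hn : G'.Normal := inferInstanceAs (commutator ↥(fixG θ)).Normal
  rw [eq_top_iff]
  rintro g -
  have hle : genG θ ≤ G'.map (fixG θ).subtype := by
    rw [genG, Subgroup.closure_le]
    rintro x ⟨t, u, v, rfl | rfl⟩
    · exact ⟨_, hru t u v, rfl⟩
    · exact ⟨_, hn.conj_mem _ (hru t u v) (nn hθ), rfl⟩
  obtain ⟨z, hz, e⟩ := hle (show (g : GL chevG2.Idx K) ∈ genG θ by rw [genG_eq hθ]; exact g.2)
  rwa [show g = z from Subtype.ext e.symm]

theorem simple (hq : 3 < Fintype.card K) :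
    IsSimpleGroup ↥(fixG θ) ∧ ¬ IsMulCommutative ↥(fixG θ) := by
  haveI : Nontrivial ↥(fixG θ) :=
    ⟨⟨rg hθ 1 0 0, 1, fun e => ru_ne_one (Or.inl one_ne_zero) (congrArg Subtype.val e)⟩⟩
  refine ⟨CfsgLib.BN.isSimpleGroup (pair hθ) ?_ (borel_solvable hθ) (perfect hθ hq) (core_trivial hθ), ?_⟩
  · intro J hJ hne hne'
    exfalso
    obtain ⟨s, hs⟩ := hne
    obtain ⟨t, ht, htJ⟩ := hne'
    exact htJ ((Set.mem_singleton_iff.1 ht).trans (Set.mem_singleton_iff.1 (hJ hs)).symm ▸ hs)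
  · intro h
    have e := congrArg Subtype.val (mul_comm' (hg hθ (-1)) (rg hθ 1 0 0))
    have e' : hh θ (-1 : Kˣ) * ru θ 1 0 0 * (hh θ (-1 : Kˣ))⁻¹ = ru θ 1 0 0 := by
      rw [mul_inv_eq_iff_eq_mul]; exact e
    rw [neg_one_conj_ru hθ] at e'
    have := (ru_injective e').1
    exact one_ne_zero (α := K) (by linear_combination this + three (K := K))

theorem card_Uf : Nat.card ↥(chevG2.posUnipotent K ⊓ fixG θ) = Fintype.card K ^ 3 := by
  have f : (K × K × K) ≃ ↥(chevG2.posUnipotent K ⊓ fixG θ) :=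
    Equiv.ofBijective (fun p => ⟨ru θ p.1 p.2.1 p.2.2, (mem_pos_fix hθ).2 ⟨_, _, _, rfl⟩⟩)
      ⟨fun p q h => by
        obtain ⟨a, b, c⟩ := ru_injective (congrArg Subtype.val h)
        exact Prod.ext a (Prod.ext b c),
      fun g => by
        obtain ⟨t, u, v, e⟩ := (mem_pos_fix hθ).1 g.2
        exact ⟨(t, u, v), Subtype.ext e.symm⟩⟩
  rw [← Nat.card_congr f]
  simp only [Nat.card_eq_fintype_card, Fintype.card_prod]
  ring

theorem card_Hf : Nat.card ↥(chevG2.diagonalSubgroup K ⊓ fixG θ) = Fintype.card K - 1 := by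
  classical
  rw [diag_inf_fix hθ, ← Nat.card_congr (MonoidHom.ofInjective (hHom_injective (θ := θ))).toEquiv,
    Nat.card_eq_fintype_card, Fintype.card_units]

end CfsgLib.ReeG2
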