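import Cfsg.Agent.Lib.ReeG2.Struct

/-!
Orders in U¹ and H¹, Sylow 3-subgroups, stabilisers of three cosets of B¹.
-/

set_option autoImplicit false
set_option linter.unusedSectionVars false

namespace CfsgLib.ReeG2

open Cfsg.Lie CfsgLib.Chev
open scoped Matrix Pointwise

variable {K : Type*} [Field K] [CharP K 3] {θ : K ≃+* K} (hθ : IsRee θ)
include hθ

theorem ru_cube (t u v : K) : ru θ t u v ^ 3 = ru θ 0 0 (-(θ t ^ 3 * t ^ 2)) := by
  rw [pow_succ, sq, ru_mul hθ, ru_mul hθ]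
  congr 1
  · linear_combination t * three (K := K)
  · linear_combination (u - θ t ^ 3 * t) * three (K := K)
  · linear_combination (v - u * t) * three (K := K)

theorem ru_cube_eq_one {t u v : K} : ru θ t u v ^ 3 = 1 ↔ t = 0 := by
  rw [ru_cube hθ, ← ru_zero (θ := θ)]
  constructor
  · intro h
    have h1 := (ru_injective h).2.2
    rw [neg_eq_zero, mul_eq_zero] at h1
    rcases h1 with h1 | h1
    · exact (map_eq_zero θ).1 (pow_eq_zero_iff (n := 3) (by norm_num) |>.1 h1)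
    · exact pow_eq_zero_iff (n := 2) (by norm_num) |>.1 h1
  · rintro rfl; simp

theorem card_order_three [Fintype K] :
    Nat.card {u : ↥(chevG2.posUnipotent K ⊓ fixG θ) // orderOf u = 3} = Fintype.card K ^ 2 - 1 := by
  classical
  haveI : Fact (Nat.Prime 3) := ⟨Nat.prime_three⟩
  have key : ∀ u : ↥(chevG2.posUnipotent K ⊓ fixG θ),
      orderOf u = 3 ↔ ∃ x y : K, (x, y) ≠ (0, 0) ∧ (u : GL chevG2.Idx K) = ru θ 0 x y := by
    intro u
    obtain ⟨t, x, y, e⟩ := (mem_pos_fix hθ).1 u.2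
    rw [orderOf_eq_prime_iff]
    constructor
    · rintro ⟨h1, h2⟩
      have h3 : ru θ t x y ^ 3 = 1 := by rw [← e, ← SubmonoidClass.coe_pow, h1]; rfl
      obtain rfl := (ru_cube_eq_one hθ).1 h3
      refine ⟨x, y, fun h => h2 (Subtype.ext ?_), e⟩
      obtain ⟨rfl, rfl⟩ := Prod.mk.inj h
      rw [e, ru_zero]; rfl
    · rintro ⟨x', y', hne, e'⟩
      refine ⟨Subtype.ext ?_, fun h => hne ?_⟩
      · rw [SubmonoidClass.coe_pow, e', (ru_cube_eq_one hθ).2 rfl]; rfl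
      · obtain ⟨-, rfl, rfl⟩ := ru_injective ((e'.symm.trans (congrArg Subtype.val h)).trans ru_zero.symm)
        rfl
  let f : {p : K × K // p ≠ (0, 0)} → {u : ↥(chevG2.posUnipotent K ⊓ fixG θ) // orderOf u = 3} := fun p =>
    ⟨⟨ru θ 0 p.1.1 p.1.2, (mem_pos_fix hθ).2 ⟨_, _, _, rfl⟩⟩, (key _).2 ⟨_, _, p.2, rfl⟩⟩
  have hf : Function.Bijective f := by
    refine ⟨fun p q h => ?_, fun u => ?_⟩
    · obtain ⟨-, a, b⟩ := ru_injective (congrArg (fun z => ((z.1 : GL chevG2.Idx K))) h)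
      exact Subtype.ext (Prod.ext a b)
    · obtain ⟨x, y, hne, e⟩ := (key u.1).1 u.2
      exact ⟨⟨(x, y), hne⟩, Subtype.ext (Subtype.ext e.symm)⟩
  rw [← Nat.card_eq_of_bijective f hf, Nat.card_eq_fintype_card, Fintype.card_subtype_compl,
    Fintype.card_subtype_eq, Fintype.card_prod, sq]

theorem centralizer_hh {a : Kˣ} (h1 : a ≠ 1) (h2 : a ≠ -1) :
    (chevG2.posUnipotent K ⊓ fixG θ) ⊓ Subgroup.centralizer {hh θ a} = ⊥ := by
  rw [eq_bot_iff]
  rintro g ⟨hg, hgc⟩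
  obtain ⟨t, u, v, rfl⟩ := (mem_pos_fix hθ).1 hg
  have e : hh θ a * ru θ t u v * (hh θ a)⁻¹ = ru θ t u v := by
    rw [Subgroup.mem_centralizer_iff.1 hgc (hh θ a) rfl, mul_inv_cancel_right]
  rw [hh_conj_ru hθ] at e
  obtain ⟨k1, k2, k3⟩ := ru_injective e
  rw [Subgroup.mem_bot, ← ru_zero (θ := θ)]
  congr 1
  · by_contra ht
    exact h1 (bb_eq_one (θ := θ) (Units.ext (mul_right_cancel₀ ht (k1.trans (one_mul t).symm))))
  · by_contra hu
    rcases scale_u hθ (a := a) (Units.ext (by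
      simpa using mul_right_cancel₀ hu (k2.trans (one_mul u).symm))) with e | e
    · exact h1 e
    · exact h2 e
  · by_contra hv
    exact h1 (scale_v hθ (a := a) (Units.ext (by
      simpa using mul_right_cancel₀ hv (k3.trans (one_mul v).symm))))

theorem card_odd_order [Fintype K] {k : ℕ} (hk : Fintype.card K - 1 = 2 * k) (hodd : Odd k) :
    2 * Nat.card {h : ↥(chevG2.diagonalSubgroup K ⊓ fixG θ) // Odd (orderOf h)} = Fintype.card K - 1 := by
  classical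
  have key : ∀ a : Kˣ, Odd (orderOf a) ↔ a ∈ (powMonoidHom k : Kˣ →* Kˣ).ker := by
    intro a
    rw [MonoidHom.mem_ker, powMonoidHom_apply, ← orderOf_dvd_iff_pow_eq_one]
    have hd : orderOf a ∣ 2 * k := by rw [← hk, ← Fintype.card_units]; exact orderOf_dvd_card
    exact ⟨fun h => ((Nat.coprime_two_left.2 h).symm).dvd_of_dvd_mul_left hd, fun h => hodd.of_dvd_nat h⟩
  let e : Kˣ ≃ ↥(chevG2.diagonalSubgroup K ⊓ fixG θ) :=
    Equiv.ofBijective (fun a => ⟨hh θ a, hh_mem_diag a, hh_mem_fixG hθ a⟩)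
      ⟨fun a b h => hh_injective (congrArg Subtype.val h), fun g => by
        have h : (g : GL chevG2.Idx K) ∈ (hHom θ).range := diag_inf_fix hθ ▸ g.2
        obtain ⟨a, ha⟩ := h
        exact ⟨a, Subtype.ext ha⟩⟩
  have ho : ∀ a, orderOf (e a) = orderOf a := fun a => by
    rw [← orderOf_injective (Subgroup.subtype _) (Subgroup.subtype_injective _) (e a)]
    exact orderOf_injective (hHom θ) hHom_injective a
  have h1 : Nat.card {h : ↥(chevG2.diagonalSubgroup K ⊓ fixG θ) // Odd (orderOf h)} =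
      Nat.card (powMonoidHom k : Kˣ →* Kˣ).ker :=
    (Nat.card_congr (e.subtypeEquiv fun a => by rw [ho, key])).symm
  rw [h1, IsCyclic.card_powMonoidHom_ker, Nat.card_eq_fintype_card, Fintype.card_units, hk,
    Nat.gcd_eq_right (dvd_mul_left k 2)]

theorem ti_of_not_mem {g : ↥(fixG θ)} (hg' : g ∉ Bf θ) : Uf θ ⊓ MulAut.conj g • Uf θ = ⊥ := by
  rw [eq_bot_iff]
  intro x hx
  obtain ⟨hx1, hx2⟩ := Subgroup.mem_inf.1 hx
  rw [Subgroup.mem_pointwise_smul_iff_inv_smul_mem, MulAut.smul_def, MulAut.conj_inv_apply] at hx2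
  obtain ⟨t, u, v, e1⟩ := (mem_Uf hθ).1 hx1
  obtain ⟨t', u', v', e2⟩ := (mem_Uf hθ).1 hx2
  obtain h | ⟨p, q, r, a, p', q', r', eg⟩ := fixG_cases hθ g.2
  · exact absurd ((mem_Bf hθ).2 h) hg'
  simp only [Subgroup.coe_mul, Subgroup.coe_inv] at e2
  rw [eg, e1] at e2
  set w := ru θ p q r
  set w' := ru θ p' q' r'
  have hb : ∀ c t u v, (hh θ c)⁻¹ * ru θ t u v * hh θ c ∈ chevG2.posUnipotent K := fun c t u v => by
    have := hh_conj_ru hθ c⁻¹ t u v
    rw [← hh_inv, inv_inv] at this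
    rw [this]; exact ru_mem_pos _ _ _
  have e3 : n0 K * (w' * ru θ t' u' v' * w'⁻¹) * (n0 K)⁻¹ = (hh θ a)⁻¹ * (w⁻¹ * ru θ t u v * w) * hh θ a := by
    rw [← e2]; group
  have hU : (hh θ a)⁻¹ * (w⁻¹ * ru θ t u v * w) * hh θ a ∈ chevG2.borelSubgroup K := by
    refine Subgroup.mem_sup_left ?_
    simp only [w, ru_inv hθ, ru_mul hθ]
    exact hb _ _ _ _
  rw [← e3] at hU
  have hV : ∃ a b c, w' * ru θ t' u' v' * w'⁻¹ = ru θ a b c := by
    simp only [w', ru_inv hθ, ru_mul hθ]; exact ⟨_, _, _, rfl⟩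
  obtain ⟨x₁, x₂, x₃, hV⟩ := hV
  rw [hV] at hU e3
  rw [mem_borel_neg_conj hθ hU, mul_one, mul_inv_cancel] at e3
  rw [Subgroup.mem_bot]
  apply Subtype.ext
  rw [e1, OneMemClass.coe_one]
  calc ru θ t u v = w * hh θ a * ((hh θ a)⁻¹ * (w⁻¹ * ru θ t u v * w) * hh θ a) * (hh θ a)⁻¹ * w⁻¹ := by group
    _ = 1 := by rw [← e3]; group

theorem conj_Uf {b : ↥(fixG θ)} (hb : b ∈ Bf θ) : MulAut.conj b • Uf θ = Uf θ := by
  have key : ∀ b ∈ Bf θ, MulAut.conj b • Uf θ ≤ Uf θ := by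
    intro b hb x hx
    obtain ⟨y, hy, rfl⟩ := hx
    obtain ⟨t, u, v, a, e⟩ := (mem_Bf hθ).1 hb
    obtain ⟨t', u', v', e'⟩ := (mem_Uf hθ).1 hy
    rw [Subgroup.mem_subgroupOf, mem_pos_fix hθ]
    show ∃ t u v, (b * y * b⁻¹ : ↥(fixG θ)).1 = _
    simp only [Subgroup.coe_mul, Subgroup.coe_inv, e, e']
    rw [show ru θ t u v * hh θ a * ru θ t' u' v' * (ru θ t u v * hh θ a)⁻¹ =
      ru θ t u v * (hh θ a * ru θ t' u' v' * (hh θ a)⁻¹) * (ru θ t u v)⁻¹ by group, hh_conj_ru hθ, ru_inv hθ,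
      ru_mul hθ, ru_mul hθ]
    exact ⟨_, _, _, rfl⟩
  refine le_antisymm (key b hb) ?_
  have h := key b⁻¹ (inv_mem hb)
  intro x hx
  rw [Subgroup.mem_pointwise_smul_iff_inv_smul_mem, ← map_inv]
  exact h ⟨x, hx, rfl⟩

/-- U¹ as a Sylow 3-subgroup, and the trivial intersection property -/
theorem sylow_ti [Fintype K] {n : ℕ} (hq : Fintype.card K = 3 ^ n) (hn : 0 < n) (P Q : Sylow 3 ↥(fixG θ))
    (hPQ : P ≠ Q) : (P : Subgroup ↥(fixG θ)) ⊓ (Q : Subgroup ↥(fixG θ)) = ⊥ := by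
  classical
  haveI : Fact (Nat.Prime 3) := ⟨Nat.prime_three⟩
  have hU : Nat.card ↥(Uf θ) = 3 ^ (3 * n) := by
    rw [Nat.card_congr (Subgroup.subgroupOfEquivOfLe (show chevG2.posUnipotent K ⊓ fixG θ ≤ fixG θ from
      inf_le_right)).toEquiv, card_Uf hθ, hq, ← pow_mul, mul_comm]
  have hfac : (Nat.card ↥(fixG θ)).factorization 3 = 3 * n := by
    rw [card_fixG hθ, hq, ← pow_mul, mul_comm n 3, mul_assoc]
    have h3 : 3 ∣ 3 ^ n := dvd_pow_self 3 (by omega)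
    have h1 : 1 ≤ 3 ^ n := Nat.one_le_pow _ _ (by norm_num)
    have hp : ¬ 3 ∣ (3 ^ n - 1) * (3 ^ (3 * n) + 1) := by
      rw [Nat.prime_three.dvd_mul]
      have : 3 ∣ 3 ^ (3 * n) := dvd_pow_self 3 (by omega)
      rintro (h | h) <;> omega
    rw [Nat.factorization_mul (by positivity) (fun e => hp (by rw [e]; exact dvd_zero 3)), Finsupp.add_apply,
      Nat.Prime.factorization_pow Nat.prime_three, Finsupp.single_eq_same, Nat.factorization_eq_zero_of_not_dvd hp,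
      add_zero]
  let U : Sylow 3 ↥(fixG θ) := Sylow.ofCard (Uf θ) (by rw [hU, hfac])
  obtain ⟨x, hx⟩ := MulAction.exists_smul_eq ↥(fixG θ) U P
  obtain ⟨y, hy⟩ := MulAction.exists_smul_eq ↥(fixG θ) U Q
  subst hx hy
  have hUc : (U : Subgroup ↥(fixG θ)) = Uf θ := rfl
  simp only [Sylow.smul_def, Sylow.pointwise_smul_def, hUc]
  by_cases hB : x⁻¹ * y ∈ Bf θ
  · exfalso
    apply hPQ
    apply Sylow.ext
    simp only [Sylow.smul_def, Sylow.pointwise_smul_def, hUc]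
    conv_rhs => rw [show y = x * (x⁻¹ * y) by group, map_mul, mul_smul, conj_Uf hθ hB]
  · have h := congrArg (MulAut.conj x • ·) (ti_of_not_mem hθ hB)
    simp only [Subgroup.smul_inf, Subgroup.smul_bot, ← mul_smul, ← map_mul, mul_inv_cancel_left] at h
    exact h

/-- the stabilisers of three cosets -/
theorem stab_three [Fintype K] :
    (∀ x y z : ↥(fixG θ) ⧸ Bf θ, x ≠ y → x ≠ z → y ≠ z →
      Nat.card ↥(MulAction.stabilizer ↥(fixG θ) x ⊓ MulAction.stabilizer ↥(fixG θ) y ⊓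
        MulAction.stabilizer ↥(fixG θ) z) ≤ 2) ∧
    ∃ x y z : ↥(fixG θ) ⧸ Bf θ, x ≠ y ∧ x ≠ z ∧ y ≠ z ∧
      Nat.card ↥(MulAction.stabilizer ↥(fixG θ) x ⊓ MulAction.stabilizer ↥(fixG θ) y ⊓
        MulAction.stabilizer ↥(fixG θ) z) = 2 := by
  classical
  let o : ↥(fixG θ) ⧸ Bf θ := QuotientGroup.mk 1
  let p : K → K → K → ↥(fixG θ) ⧸ Bf θ := fun t u v => QuotientGroup.mk (rg hθ t u v * nn hθ)
  let St := fun x : ↥(fixG θ) ⧸ Bf θ => MulAction.stabilizer ↥(fixG θ) x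
  have hmk : ∀ g h : ↥(fixG θ), g • (QuotientGroup.mk h : ↥(fixG θ) ⧸ Bf θ) = QuotientGroup.mk (g * h) :=
    fun g h => rfl
  have hmem : ∀ g h : ↥(fixG θ), g ∈ St (QuotientGroup.mk h) ↔ h⁻¹ * g * h ∈ Bf θ := fun g h => by
    simp only [St, MulAction.mem_stabilizer_iff, hmk, QuotientGroup.eq, mul_inv_rev]
    rw [← inv_mem_iff (x := h⁻¹ * g⁻¹ * h)]
    simp [mul_assoc]
  have hpts : ∀ x : ↥(fixG θ) ⧸ Bf θ, x = o ∨ ∃ t u v, x = p t u v := by
    intro x
    obtain ⟨g, rfl⟩ := QuotientGroup.mk_surjective x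
    rcases cases_fix hθ g with h | ⟨b, hb, b', hb', rfl⟩
    · left; exact QuotientGroup.eq.2 (by simpa using h)
    · right
      obtain ⟨t, u, v, a, e⟩ := (mem_Bf hθ).1 hb
      refine ⟨t, u, v, QuotientGroup.eq.2 ?_⟩
      have : (b * nn hθ * b')⁻¹ * (rg hθ t u v * nn hθ) = b'⁻¹ * hg hθ a := Subtype.ext (by
        simp only [Subgroup.coe_mul, Subgroup.coe_inv, e]
        show ((ru θ t u v * hh θ a) * n0 K * _)⁻¹ * (ru θ t u v * n0 K) = _ * hh θ a
        calc _ = (b' : GL chevG2.Idx K)⁻¹ * ((n0 K)⁻¹ * (hh θ a)⁻¹ * n0 K) := by group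
          _ = _ := by
            rw [hh_inv, n0_inv, n0_mul_hh, inv_inv, mul_assoc (hh θ a), n0_sq, mul_one])
      rw [this]
      exact mul_mem (inv_mem (Uf_le_Bf hθ hb')) (hg_mem_Bf hθ a)
  have hstabH : ∀ g, g ∈ St o ⊓ St (p 0 0 0) ↔ ∃ a, (g : GL chevG2.Idx K) = hh θ a := by
    intro g
    rw [Subgroup.mem_inf, hmem, hmem]
    have e0 : rg hθ 0 0 0 = 1 := Subtype.ext ru_zero
    rw [e0]
    simp only [inv_one, one_mul, mul_one]
    constructor
    · rintro ⟨h1, h2⟩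
      obtain ⟨t, u, v, a, e⟩ := (mem_Bf hθ).1 h1
      refine ⟨a, ?_⟩
      have h3 : n0 K * ru θ t u v * (n0 K)⁻¹ ∈ chevG2.borelSubgroup K := by
        have h2' := (Subgroup.mem_subgroupOf.1 h2).1
        simp only [Subgroup.coe_mul, Subgroup.coe_inv, e] at h2'
        change (n0 K)⁻¹ * (ru θ t u v * hh θ a) * n0 K ∈ chevG2.borelSubgroup K at h2'
        rw [show (n0 K)⁻¹ * (ru θ t u v * hh θ a) * n0 K =
          ((n0 K)⁻¹ * ru θ t u v * n0 K) * ((n0 K)⁻¹ * hh θ a * n0 K) by group] at h2'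
        rw [n0_inv] at h2' ⊢
        have hd : n0 K * hh θ a * n0 K ∈ chevG2.borelSubgroup K := by
          have := n0_conj_hh (θ := θ) a
          rw [n0_inv] at this
          rw [this]; exact Subgroup.mem_sup_right (hh_mem_diag _)
        exact (Subgroup.mul_mem_cancel_right _ hd).1 h2'
      rw [e, mem_borel_neg_conj hθ h3, one_mul]
    · rintro ⟨a, e⟩
      refine ⟨(mem_Bf hθ).2 ⟨0, 0, 0, a, by rw [e, ru_zero, one_mul]⟩, ?_⟩
      refine (mem_Bf hθ).2 ⟨0, 0, 0, a⁻¹, ?_⟩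
      simp only [Subgroup.coe_mul, Subgroup.coe_inv, e, ru_zero, one_mul]
      show (n0 K)⁻¹ * hh θ a * n0 K = _
      rw [← n0_conj_hh, n0_inv]
  have hstab3 : ∀ t u v g, g ∈ St o ⊓ St (p 0 0 0) ⊓ St (p t u v) ↔
      ∃ a, (g : GL chevG2.Idx K) = hh θ a ∧
        (bb θ a : K) * t = t ∧ (a : K) ^ 3 * bb θ a * u = u ∧ (a : K) ^ 3 * (bb θ a : K) ^ 2 * v = v := by
    intro t u v g
    rw [Subgroup.mem_inf, hstabH]
    constructor
    · rintro ⟨⟨a, e⟩, h3⟩
      refine ⟨a, e, ?_⟩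
      rw [show g = hg hθ a from Subtype.ext e, MulAction.mem_stabilizer_iff] at h3
      simp only [p, hmk] at h3
      have h4 : (QuotientGroup.mk (hg hθ a * (rg hθ t u v * nn hθ)) : ↥(fixG θ) ⧸ Bf θ) =
          QuotientGroup.mk (rg hθ (bb θ a * t) ((a : K) ^ 3 * bb θ a * u) ((a : K) ^ 3 * (bb θ a : K) ^ 2 * v) *
            nn hθ) := by
        refine QuotientGroup.eq.2 ?_
        convert inv_mem (hg_mem_Bf hθ a⁻¹) using 1
        apply Subtype.ext
        simp only [Subgroup.coe_mul, Subgroup.coe_inv]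
        show (hh θ a * (ru θ t u v * n0 K))⁻¹ * (ru θ _ _ _ * n0 K) = (hh θ a⁻¹)⁻¹
        rw [← hh_conj_ru hθ, hh_inv, hh_inv, inv_inv, ← mul_assoc, ← hh_inv]
        calc _ = (n0 K)⁻¹ * (hh θ a)⁻¹ * n0 K := by group
          _ = _ := by rw [hh_inv, n0_inv, n0_mul_hh, inv_inv, mul_assoc, n0_sq, mul_one]
      rw [h4, QuotientGroup.eq] at h3
      have h5 := (Subgroup.mem_subgroupOf.1 h3).1
      simp only [Subgroup.coe_mul, Subgroup.coe_inv] at h5
      change (ru θ _ _ _ * n0 K)⁻¹ * (ru θ t u v * n0 K) ∈ chevG2.borelSubgroup K at h5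
      rw [show ∀ x y : GL chevG2.Idx K, (x * n0 K)⁻¹ * (y * n0 K) = (n0 K)⁻¹ * (x⁻¹ * y) * n0 K from
        fun x y => by group, ru_inv hθ, ru_mul hθ] at h5
      nth_rw 1 [n0_inv] at h5
      rw [show n0 K * ru θ _ _ _ * n0 K = n0 K * ru θ _ _ _ * (n0 K)⁻¹ by rw [n0_inv]] at h5
      have h6 := mem_borel_neg_conj hθ h5
      rw [← ru_mul hθ, ← ru_inv hθ, inv_mul_eq_one] at h6
      exact ru_injective h6
    · rintro ⟨a, e, h1, h2, h3⟩
      refine ⟨⟨a, e⟩, ?_⟩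
      rw [show g = hg hθ a from Subtype.ext e, MulAction.mem_stabilizer_iff]
      simp only [p, hmk]
      refine QuotientGroup.eq.2 ?_
      convert inv_mem (hg_mem_Bf hθ a⁻¹) using 1
      apply Subtype.ext
      simp only [Subgroup.coe_mul, Subgroup.coe_inv]
      show (hh θ a * (ru θ t u v * n0 K))⁻¹ * (ru θ t u v * n0 K) = (hh θ a⁻¹)⁻¹
      have hcj : hh θ a * ru θ t u v = ru θ t u v * hh θ a := by rw [ru_mul_hh hθ, h1, h2, h3]
      rw [← mul_assoc (hh θ a), hcj, hh_inv, inv_inv]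
      calc _ = (n0 K)⁻¹ * (hh θ a)⁻¹ * n0 K := by group
        _ = _ := by rw [hh_inv, n0_inv, n0_mul_hh, inv_inv, mul_assoc, n0_sq, mul_one]
  have conjcard : ∀ (g : ↥(fixG θ)) x y z, Nat.card ↥(St (g • x) ⊓ St (g • y) ⊓ St (g • z)) =
      Nat.card ↥(St x ⊓ St y ⊓ St z) := by
    intro g x y z
    simp only [St, MulAction.stabilizer_smul_eq_stabilizer_map_conj]
    rw [← Subgroup.map_inf _ _ _ (MulEquiv.injective _), ← Subgroup.map_inf _ _ _ (MulEquiv.injective _)]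
    exact (Nat.card_congr (Subgroup.equivMapOfInjective _ _ (MulEquiv.injective _)).toEquiv).symm
  have base : ∀ t u v, (t ≠ 0 ∨ u ≠ 0 ∨ v ≠ 0) → Nat.card ↥(St o ⊓ St (p 0 0 0) ⊓ St (p t u v)) ≤ 2 := by
    intro t u v hne
    let f : ↥(St o ⊓ St (p 0 0 0) ⊓ St (p t u v)) → Bool := fun g =>
      decide ((g : ↥(fixG θ)) = 1)
    refine (Nat.card_le_card_of_injective f ?_).trans (le_of_eq (show Nat.card Bool = 2 by simp))
    have two : ∀ g : ↥(St o ⊓ St (p 0 0 0) ⊓ St (p t u v)),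
        ((g : ↥(fixG θ)) : GL chevG2.Idx K) = 1 ∨ ((g : ↥(fixG θ)) : GL chevG2.Idx K) = hh θ (-1 : Kˣ) := by
      intro g
      obtain ⟨a, e, k1, k2, k3⟩ := (hstab3 t u v _).1 g.2
      rw [e]
      rcases hne with h | h | h
      · rw [bb_eq_one (θ := θ) (Units.ext (mul_right_cancel₀ h (k1.trans (one_mul t).symm))), hh_one]
        exact Or.inl rfl
      · rcases scale_u hθ (a := a) (Units.ext (by
          simpa using mul_right_cancel₀ h (k2.trans (one_mul u).symm))) with rfl | rfl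
        · exact Or.inl hh_one
        · exact Or.inr rfl
      · rw [scale_v hθ (a := a) (Units.ext (by simpa using mul_right_cancel₀ h (k3.trans (one_mul v).symm))),
          hh_one]
        exact Or.inl rfl
    intro g k h
    simp only [f, decide_eq_decide] at h
    apply Subtype.ext
    by_cases e : (g : ↥(fixG θ)) = 1
    · rw [e, h.1 e]
    · have e' : ¬ (k : ↥(fixG θ)) = 1 := fun q => e (h.2 q)
      apply Subtype.ext
      rcases two g with a | a
      · exact absurd (Subtype.ext a) e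
      · rcases two k with b | b
        · exact absurd (Subtype.ext b) e'
        · rw [a, b]
  have np : ∀ t u v t' u' v', p t u v = p t' u' v' → ru θ t u v = ru θ t' u' v' := by
    intro t u v t' u' v' h
    have h5 := (Subgroup.mem_subgroupOf.1 (QuotientGroup.eq.1 h)).1
    simp only [Subgroup.coe_mul, Subgroup.coe_inv] at h5
    change (ru θ t u v * n0 K)⁻¹ * (ru θ t' u' v' * n0 K) ∈ chevG2.borelSubgroup K at h5
    rw [show ∀ x y : GL chevG2.Idx K, (x * n0 K)⁻¹ * (y * n0 K) = (n0 K)⁻¹ * (x⁻¹ * y) * n0 K from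
      fun x y => by group, ru_inv hθ, ru_mul hθ] at h5
    nth_rw 1 [n0_inv] at h5
    rw [show n0 K * ru θ _ _ _ * n0 K = n0 K * ru θ _ _ _ * (n0 K)⁻¹ by rw [n0_inv]] at h5
    have h6 := mem_borel_neg_conj hθ h5
    rwa [← ru_mul hθ, ← ru_inv hθ, inv_mul_eq_one] at h6
  have hop : ∀ t u v, o ≠ p t u v := by
    intro t u v h
    have h5 := QuotientGroup.eq.1 h
    rw [inv_one, one_mul] at h5
    exact nn_not_mem hθ (by simpa using mul_mem (inv_mem (rg_mem_Bf hθ t u v)) h5)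
  refine ⟨fun x y z hxy hxz hyz => ?_, ⟨o, p 0 0 0, p 0 1 0, hop _ _ _, hop _ _ _, fun h => ?_, ?_⟩⟩
  · -- move x to o, then y to p 0 0 0
    obtain ⟨g, rfl⟩ : ∃ g : ↥(fixG θ), g • o = x := by
      obtain ⟨g, rfl⟩ := QuotientGroup.mk_surjective x
      exact ⟨g, by simp [o, hmk]⟩
    obtain ⟨y', rfl⟩ : ∃ y', g • y' = y := ⟨g⁻¹ • y, smul_inv_smul g y⟩
    obtain ⟨z', rfl⟩ : ∃ z', g • z' = z := ⟨g⁻¹ • z, smul_inv_smul g z⟩
    rw [conjcard]
    rcases hpts y' with rfl | ⟨t, u, v, rfl⟩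
    · exact absurd rfl hxy
    have ho : (rg hθ t u v) • o = o := by
      simp only [o, hmk, mul_one]; exact QuotientGroup.eq.2 (by simpa using inv_mem (rg_mem_Bf hθ t u v))
    have hp0 : (rg hθ t u v) • p 0 0 0 = p t u v := by
      simp only [p, hmk]
      rw [show rg hθ 0 0 0 = 1 from Subtype.ext ru_zero, one_mul]
    obtain ⟨z'', rfl⟩ : ∃ w, rg hθ t u v • w = z' := ⟨(rg hθ t u v)⁻¹ • z', smul_inv_smul _ _⟩
    have := conjcard (rg hθ t u v) o (p 0 0 0) z''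
    rw [ho, hp0] at this
    rw [this]
    rcases hpts z'' with rfl | ⟨t', u', v', rfl⟩
    · exact absurd (by rw [ho]) hxz
    · refine base t' u' v' ?_
      by_contra hz
      push Not at hz
      obtain ⟨rfl, rfl, rfl⟩ := hz
      exact hyz (by rw [hp0])
  · obtain ⟨-, h1, -⟩ := ru_injective (np _ _ _ _ _ _ h)
    exact zero_ne_one h1
  · refine le_antisymm (base 0 1 0 (Or.inr (Or.inl one_ne_zero))) ?_
    have hm : hg hθ (-1) ∈ St o ⊓ St (p 0 0 0) ⊓ St (p 0 1 0) :=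
      (hstab3 0 1 0 _).2 ⟨-1, rfl, by simp, by simp [bb_neg_one, pow_succ], by simp⟩
    have hne : hg hθ (-1) ≠ 1 := fun e => hh_ne_one (θ := θ) (a := (-1 : Kˣ)) (fun h => by
      have h2 : (-1 : K) = 1 := congrArg Units.val h
      exact one_ne_zero (α := K) (by linear_combination h2 + three (K := K))) (congrArg Subtype.val e)
    haveI : Nontrivial ↥(St o ⊓ St (p 0 0 0) ⊓ St (p 0 1 0)) :=
      ⟨⟨⟨_, hm⟩, 1, fun e => hne (congrArg Subtype.val e)⟩⟩
    exact Finite.one_lt_card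

end CfsgLib.ReeG2
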