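import Cfsg.Agent.Lib.ReeG2.Circle

/-!
The elements of ²G₂(q) sorted by the primes dividing their orders; the Singer tori.
-/

set_option autoImplicit false
set_option linter.unusedSectionVars false

namespace CfsgLib.ReeG2

open Cfsg.Lie CfsgLib.Chev
open scoped Matrix MatrixGroups Pointwise

/-- the conjugates of a set -/
def conjSet {G : Type*} [Group G] (X : Set G) : Set G := {y | ∃ g, ∃ x ∈ X, g * x * g⁻¹ = y}

/-- counting a trivial intersection set -/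
theorem card_conjSet {G : Type*} [Group G] (X : Set G) (N : Subgroup G)
    (hN : ∀ n ∈ N, ∀ x ∈ X, n * x * n⁻¹ ∈ X) (hsep : ∀ g, ∀ x ∈ X, g * x * g⁻¹ ∈ X → g ∈ N) :
    Nat.card ↥(conjSet X) = N.index * Nat.card ↥X := by
  let f : (G ⧸ N) × ↥X → ↥(conjSet X) := fun p => ⟨p.1.out * p.2 * p.1.out⁻¹, p.1.out, p.2, p.2.2, rfl⟩
  have hf : Function.Bijective f := by
    constructor
    · rintro ⟨c, x⟩ ⟨d, y⟩ h
      have h' : c.out * (x : G) * c.out⁻¹ = d.out * (y : G) * d.out⁻¹ := congrArg Subtype.val h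
      have hy : d.out⁻¹ * c.out * (x : G) * (d.out⁻¹ * c.out)⁻¹ = y := by
        calc _ = d.out⁻¹ * (c.out * (x : G) * c.out⁻¹) * d.out := by group
          _ = y := by rw [h']; group
      have hm := hsep _ x x.2 (hy ▸ y.2)
      have hcd : c = d := by
        rw [← QuotientGroup.out_eq' c, ← QuotientGroup.out_eq' d, eq_comm, QuotientGroup.eq]
        exact hm
      subst hcd
      exact Prod.ext rfl (Subtype.ext (mul_left_cancel (mul_right_cancel h')))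
    · rintro ⟨y, g, x, hx, rfl⟩
      set c : G ⧸ N := QuotientGroup.mk g
      have hn : c.out⁻¹ * g ∈ N := by
        rw [← QuotientGroup.eq, QuotientGroup.out_eq']
      refine ⟨(c, ⟨_, hN _ hn x hx⟩), Subtype.ext ?_⟩
      show c.out * (c.out⁻¹ * g * x * (c.out⁻¹ * g)⁻¹) * c.out⁻¹ = g * x * g⁻¹
      group
  rw [← Nat.card_eq_of_bijective f hf, Nat.card_prod]
  rfl

/-- a power of prime order -/
theorem exists_prime_power {G : Type*} [Group G] [Finite G] {x : G} {l : ℕ} (h : l ∣ orderOf x) :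
    orderOf (x ^ (orderOf x / l)) = l := orderOf_pow_orderOf_div (orderOf_pos x).ne' h

variable {K : Type*} [Field K] [Fintype K] [CharP K 3] {θ : K ≃+* K}

/-- some prime above three divides the order and the given number -/
def HasBig (k : ℕ) (x : ↥(fixG θ)) : Prop := ∃ l : ℕ, l.Prime ∧ 3 < l ∧ l ∣ orderOf x ∧ l ∣ k

variable (hθ : IsRee θ) (hq8 : Fintype.card K % 8 = 3)
include hθ

theorem orderOf_conj' (g x : ↥(fixG θ)) : orderOf (g * x * g⁻¹) = orderOf x :=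
  (SemiconjBy.orderOf_eq g (show g * x = g * x * g⁻¹ * g by group)).symm

theorem bigQ1_conj {x : ↥(fixG θ)} (h : HasBig (Fintype.card K - 1) x) :
    x ∈ conjSet {y | y ∈ Hf θ ∧ y * y ≠ 1} := by
  obtain ⟨l, hl, h3, hlx, hlq⟩ := h
  haveI : Fact l.Prime := ⟨hl⟩
  obtain ⟨g, b, hb1, hb2, hb⟩ := split_elem hθ (by omega) hlq (exists_prime_power hlx)
  have hc : g⁻¹ * x * g * hg hθ b = hg hθ b * (g⁻¹ * x * g) := by
    rw [← hb]
    calc g⁻¹ * x * g * (g⁻¹ * x ^ (orderOf x / l) * g) = g⁻¹ * (x * x ^ (orderOf x / l)) * g := by group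
      _ = g⁻¹ * (x ^ (orderOf x / l) * x) * g := by rw [(Commute.self_pow x _).eq]
      _ = _ := by group
  refine ⟨g, g⁻¹ * x * g, ⟨cent_hg hθ hb1 hb2 hc, fun e => ?_⟩, by group⟩
  have hx2 : x ^ 2 = 1 := by
    calc x ^ 2 = g * (g⁻¹ * x * g * (g⁻¹ * x * g)) * g⁻¹ := by rw [pow_two]; group
      _ = 1 := by rw [e]; group
  have := Nat.le_of_dvd two_pos (hlx.trans (orderOf_dvd_of_pow_eq_one hx2))
  omega

theorem pow_Hf {y : ↥(fixG θ)} (h : y ∈ Hf θ) : y ^ (Fintype.card K - 1) = 1 := by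
  rw [← card_Hf' hθ]
  exact orderOf_dvd_iff_pow_eq_one.1 (Subgroup.orderOf_dvd_natCard _ h)

theorem conjSet_pow {X : Set ↥(fixG θ)} {n : ℕ} (hX : ∀ y ∈ X, y ^ n = 1) {x : ↥(fixG θ)}
    (hx : x ∈ conjSet X) : x ^ n = 1 := by
  obtain ⟨g, y, hy, rfl⟩ := hx
  rw [conj_pow, hX y hy, mul_one, mul_inv_cancel]

include hq8

theorem half_pred_odd : ∃ k, Fintype.card K - 1 = 2 * k ∧ k % 2 = 1 :=
  ⟨(Fintype.card K - 1) / 2, by omega, by omega⟩

theorem setQ1_eq : {x : ↥(fixG θ) | HasBig (Fintype.card K - 1) x} = conjSet {y | y ∈ Hf θ ∧ y * y ≠ 1} := by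
  refine Set.Subset.antisymm (fun x hx => bigQ1_conj hθ hx) ?_
  rintro x ⟨g, y, ⟨hy, hy2⟩, rfl⟩
  obtain ⟨k, hk, hkodd⟩ := half_pred_odd hθ hq8
  have hd : orderOf y ∣ 2 * k := hk ▸ orderOf_dvd_of_pow_eq_one (pow_Hf hθ hy)
  set o := Nat.gcd (orderOf y) k
  have ho : o ≠ 1 := by
    intro e
    exact hy2 (by
      rw [← pow_two]
      exact orderOf_dvd_iff_pow_eq_one.1 ((Nat.Coprime.dvd_of_dvd_mul_right e) hd))
  obtain ⟨l, hl, hlo⟩ := Nat.exists_prime_and_dvd ho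
  have hlk : l ∣ k := hlo.trans (Nat.gcd_dvd_right _ _)
  have hlq : l ∣ Fintype.card K - 1 := hk ▸ dvd_mul_of_dvd_right hlk 2
  refine ⟨l, hl, ?_, by rw [orderOf_conj' hθ]; exact hlo.trans (Nat.gcd_dvd_left _ _), hlq⟩
  have h2 : l ≠ 2 := by rintro rfl; omega
  have h3 : l ≠ 3 := by
    rintro rfl
    have := three_dvd_q (K := K)
    omega
  have := hl.two_le
  omega

theorem bigQ2_conj {x : ↥(fixG θ)} (h : HasBig (Fintype.card K + 1) x) :
    x ∈ conjSet {y | y ∈ TT hθ ∧ y * y ≠ 1} := by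
  obtain ⟨l, hl, h3, hlx, hlq⟩ := h
  haveI : Fact l.Prime := ⟨hl⟩
  have ho := exists_prime_power hlx
  obtain ⟨g, hg'⟩ := exists_conj_mem (A2 hθ) (A2_index_prime hθ hq8 hl (by omega) hlq) ho
  have hy1 : g⁻¹ * x ^ (orderOf x / l) * g ≠ 1 := by
    intro e
    have : x ^ (orderOf x / l) = 1 := by
      calc x ^ (orderOf x / l) = g * (g⁻¹ * x ^ (orderOf x / l) * g) * g⁻¹ := by group
        _ = 1 := by rw [e]; group
    rw [this, orderOf_one] at ho
    exact hl.ne_one ho.symm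
  have hm : g⁻¹ * x * g ∈ TT hθ := by
    rw [← cent_A2 hθ hq8 hg' hy1, Subgroup.mem_centralizer_singleton_iff]
    calc g⁻¹ * x * g * (g⁻¹ * x ^ (orderOf x / l) * g) = g⁻¹ * (x * x ^ (orderOf x / l)) * g := by group
      _ = g⁻¹ * (x ^ (orderOf x / l) * x) * g := by rw [(Commute.self_pow x _).eq]
      _ = _ := by group
  refine ⟨g, g⁻¹ * x * g, ⟨hm, fun e => ?_⟩, by group⟩
  have hx2 : x ^ 2 = 1 := by
    calc x ^ 2 = g * (g⁻¹ * x * g * (g⁻¹ * x * g)) * g⁻¹ := by rw [pow_two]; group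
      _ = 1 := by rw [e]; group
  have := Nat.le_of_dvd two_pos (hlx.trans (orderOf_dvd_of_pow_eq_one hx2))
  omega

theorem pow_TT {y : ↥(fixG θ)} (h : y ∈ TT hθ) : y ^ (2 * kA K) = 1 := by
  rw [pow_mul, pow_two]
  exact (TT_sq hθ hq8 h).2

theorem setQ2_eq : {x : ↥(fixG θ) | HasBig (Fintype.card K + 1) x} = conjSet {y | y ∈ TT hθ ∧ y * y ≠ 1} := by
  refine Set.Subset.antisymm (fun x hx => bigQ2_conj hθ hq8 hx) ?_
  rintro x ⟨g, y, ⟨hy, hy2⟩, rfl⟩
  have hd : orderOf y ∣ 2 * kA K := orderOf_dvd_of_pow_eq_one (pow_TT hθ hq8 hy)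
  have hk4 := four_kA hq8
  have hkodd := kA_odd hq8
  set o := Nat.gcd (orderOf y) (kA K)
  have ho : o ≠ 1 := by
    intro e
    exact hy2 (by
      rw [← pow_two]
      exact orderOf_dvd_iff_pow_eq_one.1 ((Nat.Coprime.dvd_of_dvd_mul_right e) hd))
  obtain ⟨l, hl, hlo⟩ := Nat.exists_prime_and_dvd ho
  have hlk : l ∣ kA K := hlo.trans (Nat.gcd_dvd_right _ _)
  have hlq : l ∣ Fintype.card K + 1 := hk4 ▸ dvd_mul_of_dvd_right hlk 4
  refine ⟨l, hl, ?_, by rw [orderOf_conj' hθ]; exact hlo.trans (Nat.gcd_dvd_left _ _), hlq⟩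
  have h2 : l ≠ 2 := by rintro rfl; omega
  have h3 : l ≠ 3 := by
    rintro rfl
    have := three_dvd_q (K := K)
    omega
  have := hl.two_le
  omega

theorem big_excl1 {x : ↥(fixG θ)} (h : HasBig (Fintype.card K - 1) x) :
    ¬ HasBig (Fintype.card K + 1) x ∧ ¬ HasBig (nq K) x := by
  have hd := orderOf_dvd_of_pow_eq_one
    (conjSet_pow hθ (fun y (hy : y ∈ Hf θ ∧ y * y ≠ 1) => pow_Hf hθ hy.1) (bigQ1_conj hθ h))
  constructor
  · rintro ⟨l, hl, h3, hlx, hl'⟩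
    have := eq_two_of_dvd_pred_succ hl (hlx.trans hd) hl'
    omega
  · rintro ⟨l, hl, h3, hlx, hl'⟩
    exact not_dvd_nq_pred hl (hlx.trans hd) hl'

theorem big_excl2 {x : ↥(fixG θ)} (h : HasBig (Fintype.card K + 1) x) : ¬ HasBig (nq K) x := by
  have hd := orderOf_dvd_of_pow_eq_one
    (conjSet_pow hθ (fun y (hy : y ∈ TT hθ ∧ y * y ≠ 1) => pow_TT hθ hq8 hy.1) (bigQ2_conj hθ hq8 h))
  rintro ⟨l, hl, h3, hlx, hl'⟩
  refine not_dvd_nq_succ hl ?_ hl'
  exact (hlx.trans hd).trans ⟨2, by rw [four_kA hq8]; ring⟩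

omit hq8 in
theorem Uf_pow {y : ↥(fixG θ)} (h : y ∈ Uf θ) : y ^ 9 = 1 := by
  obtain ⟨t, u, v, e⟩ := (mem_Uf hθ).1 h
  refine Subtype.ext ?_
  rw [SubmonoidClass.coe_pow, e, show 9 = 3 * 3 from rfl, pow_mul, ru_cube hθ, (ru_cube_eq_one hθ).2 rfl]
  rfl

omit hq8 in
theorem setP_eq : {x : ↥(fixG θ) | x ≠ 1 ∧ x ^ 9 = 1} = conjSet {y | y ∈ Uf θ ∧ y ≠ 1} := by
  refine Set.Subset.antisymm (fun x hx => ?_) ?_
  · haveI : Fact (Nat.Prime 3) := ⟨Nat.prime_three⟩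
    obtain ⟨k, -, hk⟩ := (Nat.dvd_prime_pow Nat.prime_three).1
      (orderOf_dvd_of_pow_eq_one (show x ^ 3 ^ 2 = 1 from hx.2))
    obtain ⟨g, hg'⟩ := exists_conj_le 3 (Uf θ) (Uf_index_prime hθ) (Subgroup.zpowers x)
      (IsPGroup.of_card ((Nat.card_zpowers x).trans hk))
    refine ⟨g, g⁻¹ * x * g, ⟨hg' x (Subgroup.mem_zpowers x), fun e => hx.1 ?_⟩, by group⟩
    calc x = g * (g⁻¹ * x * g) * g⁻¹ := by group
      _ = 1 := by rw [e]; group
  · rintro x ⟨g, y, ⟨hy, hy1⟩, rfl⟩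
    exact ⟨fun e => hy1 (conj_eq_one_iff.1 e), by rw [conj_pow, Uf_pow hθ hy, mul_one, mul_inv_cancel]⟩

omit hq8 in
/-- a 3-element centralising a0 has order dividing three -/
theorem cent_three {u : ↥(fixG θ)} (h : u * a0 hθ = a0 hθ * u) (h9 : u ^ 9 = 1) :
    u ^ 3 = 1 ∧ (u = 1 ∨ ∃ c, c * a0 hθ = a0 hθ * c ∧ ∃ s : K, s ≠ 0 ∧ c⁻¹ * u * c = rg hθ 0 s 0) := by
  classical
  haveI : Fact (Nat.Prime 3) := ⟨Nat.prime_three⟩
  set C := Subgroup.centralizer ({a0 hθ} : Set ↥(fixG θ))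
  have hrg : ∀ s : K, rg hθ 0 s 0 ∈ C := fun s =>
    Subgroup.mem_centralizer_singleton_iff.2 ((mem_C0_iff hθ).1 (ru_u_mem hθ s))
  let S : Subgroup ↥C :=
    { carrier := {x | ∃ s : K, (x : ↥(fixG θ)) = rg hθ 0 s 0}
      one_mem' := ⟨0, Subtype.ext ru_zero.symm⟩
      mul_mem' := by
        rintro a b ⟨s, hs⟩ ⟨t, ht⟩
        refine ⟨s + t, ?_⟩
        rw [Subgroup.coe_mul, hs, ht]
        apply Subtype.ext
        show ru θ 0 s 0 * ru θ 0 t 0 = ru θ 0 (s + t) 0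
        rw [ru_mul hθ]
        congr 1 <;> simp
      inv_mem' := by
        rintro a ⟨s, hs⟩
        refine ⟨-s, ?_⟩
        rw [Subgroup.coe_inv, hs]
        apply Subtype.ext
        show (ru θ 0 s 0)⁻¹ = ru θ 0 (-s) 0
        rw [ru_inv hθ]
        congr 1 <;> simp }
  have hS : Nat.card ↥S = Fintype.card K := by
    let f : K → ↥S := fun s => ⟨⟨_, hrg s⟩, s, rfl⟩
    have hf : Function.Bijective f := by
      refine ⟨fun a b e => ?_, ?_⟩
      · exact (ru_injective (congrArg (fun z : ↥S => (((z : ↥C) : ↥(fixG θ)) : GL chevG2.Idx K)) e)).2.1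
      · rintro ⟨⟨x, hx⟩, s, hs⟩; exact ⟨s, Subtype.ext (Subtype.ext hs.symm)⟩
    rw [← Nat.card_eq_of_bijective f hf, Nat.card_eq_fintype_card]
  have hidx : ¬ 3 ∣ S.index := by
    have h := S.card_mul_index
    rw [hS, card_cent_a0 hθ, mul_assoc] at h
    rw [Nat.eq_of_mul_eq_mul_left Fintype.card_pos h, Nat.prime_three.dvd_mul]
    have := three_dvd_q (K := K)
    have : 0 < Fintype.card K := Fintype.card_pos
    omega
  have huC : u ∈ C := Subgroup.mem_centralizer_singleton_iff.2 h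
  have h9' : (⟨u, huC⟩ : ↥C) ^ 3 ^ 2 = 1 := Subtype.ext (by simpa using h9)
  obtain ⟨k, -, hk⟩ := (Nat.dvd_prime_pow Nat.prime_three).1 (orderOf_dvd_of_pow_eq_one h9')
  obtain ⟨⟨c, hc⟩, hc'⟩ := exists_conj_le 3 S hidx (Subgroup.zpowers ⟨u, huC⟩)
    (IsPGroup.of_card ((Nat.card_zpowers _).trans hk))
  obtain ⟨s, hs⟩ := hc' _ (Subgroup.mem_zpowers _)
  change c⁻¹ * u * c = rg hθ 0 s 0 at hs
  have hu : u = c * rg hθ 0 s 0 * c⁻¹ := by rw [← hs]; group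
  have h3 : rg hθ 0 s 0 ^ 3 = 1 := Subtype.ext (by
    show ru θ 0 s 0 ^ 3 = 1
    exact (ru_cube_eq_one hθ).2 rfl)
  refine ⟨by rw [hu, conj_pow, h3, mul_one, mul_inv_cancel], ?_⟩
  by_cases hs0 : s = 0
  · left
    rw [hu, hs0, show rg hθ (0 : K) 0 0 = 1 from Subtype.ext ru_zero, mul_one, mul_inv_cancel]
  · exact Or.inr ⟨c, Subgroup.mem_centralizer_singleton_iff.1 hc, s, hs0, hs⟩

/-- the set a0 times elements of order dividing three -/
def I6X : Set ↥(fixG θ) := {x | ∃ u, u * a0 hθ = a0 hθ * u ∧ u ^ 3 = 1 ∧ x = a0 hθ * u}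

omit hq8 in
theorem I6X_pow {x : ↥(fixG θ)} (hx : x ∈ I6X hθ) : x ^ 3 = a0 hθ := by
  obtain ⟨u, hu, h3, rfl⟩ := hx
  rw [Commute.mul_pow (hu.symm : Commute (a0 hθ) u), h3, mul_one, pow_succ, pow_two, a0_sq, one_mul]

theorem two_elem {x : ↥(fixG θ)} {k : ℕ} (h : x ^ 2 ^ k = 1) : x * x = 1 := by
  haveI : Fact (Nat.Prime 2) := ⟨Nat.prime_two⟩
  obtain ⟨j, -, hj⟩ := (Nat.dvd_prime_pow Nat.prime_two).1 (orderOf_dvd_of_pow_eq_one h)
  obtain ⟨S, hS⟩ := (IsPGroup.of_card (p := 2) ((Nat.card_zpowers x).trans hj)).exists_le_sylow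
  exact (sylow_two_elementary hθ hq8 S).2 x (hS (Subgroup.mem_zpowers x))

omit hq8 in
theorem setI_eq : {x : ↥(fixG θ) | x ^ 6 = 1 ∧ x ^ 3 ≠ 1} = conjSet (I6X hθ) := by
  refine Set.Subset.antisymm (fun x hx => ?_) ?_
  · obtain ⟨g, hg'⟩ := invol_conj hθ hx.2 (by rw [← pow_add]; exact hx.1)
    set y := g⁻¹ * x * g
    have hy3 : y ^ 3 = a0 hθ := by
      rw [show y = g⁻¹ * x * g⁻¹⁻¹ by rw [inv_inv], conj_pow, ← hg']
      group
    have hy : y * a0 hθ = a0 hθ * y := by rw [← hy3]; exact (Commute.self_pow y 3).eq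
    refine ⟨g, y, ⟨a0 hθ * y, ?_, ?_, by rw [← mul_assoc, a0_sq, one_mul]⟩, by simp only [y]; group⟩
    · rw [mul_assoc, hy]
    · rw [Commute.mul_pow (hy.symm : Commute (a0 hθ) y), hy3, pow_succ, pow_two, a0_sq, one_mul, a0_sq]
  · rintro x ⟨g, y, hy, rfl⟩
    constructor
    · rw [conj_pow, show 6 = 3 * 2 from rfl, pow_mul, I6X_pow hθ hy, pow_two, a0_sq, mul_one, mul_inv_cancel]
    · rw [conj_pow, I6X_pow hθ hy]
      exact fun e => a0_ne_one hθ (conj_eq_one_iff.1 e)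

/-- every element is of one of the kinds -/
theorem classify {x : ↥(fixG θ)} (hx : x ≠ 1) :
    (x ≠ 1 ∧ x ^ 9 = 1) ∨ (x ^ 6 = 1 ∧ x ^ 3 ≠ 1) ∨ HasBig (Fintype.card K - 1) x ∨
      HasBig (Fintype.card K + 1) x ∨ HasBig (nq K) x := by
  classical
  by_cases hbig : ∃ l : ℕ, l.Prime ∧ 3 < l ∧ l ∣ orderOf x
  · obtain ⟨l, hl, h3, hlx⟩ := hbig
    rcases prime_cases hθ hl (hlx.trans (orderOf_dvd_natCard x)) with h | h | ⟨-, h | h | h⟩
    · omega
    · omega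
    · exact Or.inr (Or.inr (Or.inl ⟨l, hl, h3, hlx, h⟩))
    · exact Or.inr (Or.inr (Or.inr (Or.inl ⟨l, hl, h3, hlx, h⟩)))
    · exact Or.inr (Or.inr (Or.inr (Or.inr ⟨l, hl, h3, hlx, h⟩)))
  · push Not at hbig
    set n := orderOf x
    have hn0 : n ≠ 0 := (orderOf_pos x).ne'
    obtain ⟨a, m, hm2, hn⟩ := Nat.exists_eq_pow_mul_and_not_dvd hn0 2 (by norm_num)
    obtain ⟨c, hc⟩ : ∃ c, m = 3 ^ c := by
      refine ⟨m.primeFactorsList.length, Nat.eq_prime_pow_of_unique_prime_dvd (fun e => hm2 (by simp [e])) ?_⟩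
      intro d hd hdm
      have hle : d ≤ 3 := by
        by_contra h
        push Not at h
        exact hbig d hd h (hn ▸ dvd_mul_of_dvd_right hdm _)
      have h2 : d ≠ 2 := fun e => hm2 (e ▸ hdm)
      have := hd.two_le
      omega
    subst hc
    -- the two part
    have hx2 : (x ^ 3 ^ c) * (x ^ 3 ^ c) = 1 := two_elem hθ hq8 (k := a) (by
      rw [← pow_mul, mul_comm, ← hn, pow_orderOf_eq_one])
    -- the three part
    haveI : Fact (Nat.Prime 3) := ⟨Nat.prime_three⟩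
    set w := x ^ 2 ^ a
    have hw : w ^ 3 ^ c = 1 := by rw [← pow_mul, ← hn, pow_orderOf_eq_one]
    obtain ⟨j, -, hj⟩ := (Nat.dvd_prime_pow Nat.prime_three).1 (orderOf_dvd_of_pow_eq_one hw)
    obtain ⟨g, hg'⟩ := exists_conj_le 3 (Uf θ) (Uf_index_prime hθ) (Subgroup.zpowers w)
      (IsPGroup.of_card ((Nat.card_zpowers w).trans hj))
    have hw9 : w ^ 9 = 1 := by
      have h := Uf_pow hθ (hg' w (Subgroup.mem_zpowers w))
      rw [show g⁻¹ * w * g = g⁻¹ * w * g⁻¹⁻¹ by rw [inv_inv], conj_pow] at h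
      exact conj_eq_one_iff.1 h
    have hc2 : c ≤ 2 := by
      by_contra h
      push Not at h
      have hd : n ∣ 2 ^ a * 9 := orderOf_dvd_of_pow_eq_one (by rw [pow_mul]; exact hw9)
      rw [hn] at hd
      have h27 : 3 ^ c ∣ 3 ^ 2 := (Nat.mul_dvd_mul_iff_left (by positivity)).1 hd
      have := (Nat.pow_dvd_pow_iff_le_right (by norm_num)).1 h27
      omega
    have hx18 : x ^ (2 * 3 ^ c) = 1 := by rw [mul_comm, pow_mul, pow_two]; exact hx2
    by_cases h : x ^ 3 ^ c = 1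
    · left
      refine ⟨hx, ?_⟩
      rw [show 9 = 3 ^ c * 3 ^ (2 - c) by rw [← pow_add, Nat.add_sub_cancel' hc2]; norm_num, pow_mul, h, one_pow]
    · right; left
      have h6 : x ^ 6 = 1 := by
        obtain ⟨g, hgc⟩ := invol_conj hθ h hx2
        set y := g⁻¹ * x * g
        have hy : y ^ 3 ^ c = a0 hθ := by
          rw [show y = g⁻¹ * x * g⁻¹⁻¹ by rw [inv_inv], conj_pow, ← hgc]
          group
        have hya : y * a0 hθ = a0 hθ * y := by rw [← hy]; exact (Commute.self_pow y _).eq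
        have hu : (a0 hθ * y) ^ 3 ^ c = 1 := by
          rw [Commute.mul_pow (hya.symm : Commute (a0 hθ) y), hy]
          conv_lhs =>
            arg 1
            rw [← Nat.div_add_mod (3 ^ c) 2, show 3 ^ c % 2 = 1 by rw [Nat.pow_mod]; simp, pow_succ, pow_mul,
              pow_two, a0_sq, one_pow, one_mul]
          exact a0_sq hθ
        have hu9 : (a0 hθ * y) ^ 9 = 1 := by
          rw [show 9 = 3 ^ c * 3 ^ (2 - c) by rw [← pow_add, Nat.add_sub_cancel' hc2]; norm_num, pow_mul, hu,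
            one_pow]
        have h3 := (cent_three hθ (by rw [mul_assoc, hya]) hu9).1
        have hy6 : y ^ 6 = 1 := by
          have e : y = a0 hθ * (a0 hθ * y) := by rw [← mul_assoc, a0_sq, one_mul]
          rw [e, Commute.mul_pow (show Commute (a0 hθ) (a0 hθ * y) by
            show _ = _; rw [mul_assoc, hya]), show 6 = 3 * 2 from rfl, pow_mul (a0 hθ * y), h3, one_pow,
            mul_one, pow_mul', pow_two, a0_sq, one_pow]
        rw [show x = g * y * g⁻¹ by simp only [y]; group, conj_pow, hy6, mul_one, mul_inv_cancel]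
      refine ⟨h6, fun e => h ?_⟩
      rcases Nat.eq_zero_or_pos c with rfl | hcpos
      · exfalso
        rw [pow_zero, pow_one] at h hx2
        exact h (by
          calc x = x ^ 3 * (x * x)⁻¹ := by group
            _ = 1 := by rw [e, hx2, inv_one, one_mul])
      · exact orderOf_dvd_iff_pow_eq_one.1 ((orderOf_dvd_of_pow_eq_one e).trans (dvd_pow_self 3 hcpos.ne'))

omit hq8 in
theorem Nf_conj {n y : ↥(fixG θ)} (hn : n ∈ Nf θ) (hy : y ∈ Hf θ) : n * y * n⁻¹ ∈ Hf θ := by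
  obtain ⟨b, e⟩ := (mem_Hf hθ).1 hy
  obtain ⟨a, ha | ha⟩ := (mem_Nf hθ).1 hn
  · refine (mem_Hf hθ).2 ⟨b, ?_⟩
    rw [Subgroup.coe_mul, Subgroup.coe_mul, Subgroup.coe_inv, ha, e, hh_mul, hh_inv, hh_mul, mul_right_comm,
      mul_inv_cancel, one_mul]
  · refine (mem_Hf hθ).2 ⟨b⁻¹, ?_⟩
    rw [Subgroup.coe_mul, Subgroup.coe_mul, Subgroup.coe_inv, ha, e,
      show hh θ a * n0 K * hh θ b * (hh θ a * n0 K)⁻¹ = hh θ a * (n0 K * hh θ b * (n0 K)⁻¹) * (hh θ a)⁻¹ by group,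
      n0_conj_hh, hh_mul, hh_inv, hh_mul, mul_right_comm, mul_inv_cancel, one_mul]

omit hq8 in
theorem ru_fixed {b : Kˣ} (h1 : b ≠ 1) (h2 : b ≠ -1) {t u v : K} (e1 : (bb θ b : K) * t = t)
    (e2 : (b : K) ^ 3 * bb θ b * u = u) (e3 : (b : K) ^ 3 * (bb θ b : K) ^ 2 * v = v) :
    t = 0 ∧ u = 0 ∧ v = 0 := by
  refine ⟨by_contra fun ht => h1 (bb_eq_one (θ := θ) ?_), by_contra fun hu => ?_, by_contra fun hv => h1 (scale_v hθ ?_)⟩
  · exact Units.ext (mul_right_cancel₀ ht (e1.trans (one_mul t).symm))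
  · rcases scale_u hθ (Units.ext (mul_right_cancel₀ hu (by push_cast; rw [one_mul]; exact e2)) : b ^ 3 * bb θ b = 1) with g | g
    · exact h1 g
    · exact h2 g
  · exact Units.ext (mul_right_cancel₀ hv (by push_cast; rw [one_mul]; exact e3))

omit hq8 in
theorem Hf_sq_iff {b : Kˣ} (h : hg hθ b * hg hθ b ≠ 1) : b ≠ 1 ∧ b ≠ -1 := by
  constructor <;> rintro rfl <;> apply h <;> refine Subtype.ext ?_
  · show hh θ (1 : Kˣ) * hh θ 1 = 1
    rw [hh_one, one_mul]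
  · show hh θ (-1 : Kˣ) * hh θ (-1) = 1
    rw [hh_mul, neg_mul_neg, one_mul, hh_one]

omit hq8 in
theorem sep_Hf {g y : ↥(fixG θ)} (hy : y ∈ Hf θ) (hy2 : y * y ≠ 1) (h : g * y * g⁻¹ ∈ Hf θ) : g ∈ Nf θ := by
  obtain ⟨b, eb⟩ := (mem_Hf hθ).1 hy
  obtain rfl : y = hg hθ b := Subtype.ext eb
  obtain ⟨b', eb'⟩ := (mem_Hf hθ).1 h
  obtain ⟨h1, h2⟩ := Hf_sq_iff hθ hy2
  have hy2' : hg hθ b' * hg hθ b' ≠ 1 := fun e => hy2 (by
    have e' : g * hg hθ b * g⁻¹ = hg hθ b' := Subtype.ext eb'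
    calc hg hθ b * hg hθ b = g⁻¹ * ((g * hg hθ b * g⁻¹) * (g * hg hθ b * g⁻¹)) * g := by group
      _ = 1 := by rw [e', e]; group)
  obtain ⟨h1', h2'⟩ := Hf_sq_iff hθ hy2'
  have hcm : (g : GL chevG2.Idx K) * hh θ b = hh θ b' * g := by
    rw [← eb', Subgroup.coe_mul, Subgroup.coe_mul, Subgroup.coe_inv]
    show (g : GL chevG2.Idx K) * hh θ b = g * hh θ b * (g : GL chevG2.Idx K)⁻¹ * g
    group
  rcases fixG_cases hθ g.2 with ⟨t, u, v, c, e⟩ | ⟨t, u, v, c, t', u', v', e⟩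
  · rw [e, mul_assoc, hh_mul, ← mul_assoc, ru_mul_hh hθ, mul_assoc, hh_mul] at hcm
    obtain ⟨a1, a2, a3, -⟩ := small_unique hcm
    obtain ⟨rfl, rfl, rfl⟩ := ru_fixed hθ h1' h2' a1.symm a2.symm a3.symm
    exact (mem_Nf hθ).2 ⟨c, Or.inl (by rw [e, ru_zero, one_mul])⟩
  · rw [e] at hcm
    have e' : ru θ t u v * hh θ (c * b⁻¹) * n0 K * ((hh θ b)⁻¹ * ru θ t' u' v' * (hh θ b)⁻¹⁻¹) =
        hh θ b' * ru θ t u v * (hh θ b')⁻¹ * hh θ (b' * c) * n0 K * ru θ t' u' v' := by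
      refine Eq.trans ?_ (hcm.trans ?_)
      · rw [← hh_mul, ← n0_conj_hh]
        group
      · rw [← hh_mul]
        group
    rw [hh_inv, hh_conj_ru hθ, hh_conj_ru hθ] at e'
    obtain ⟨a1, a2, a3, -, a5, a6, a7⟩ := big_unique e'
    obtain ⟨rfl, rfl, rfl⟩ := ru_fixed hθ h1' h2' a1.symm a2.symm a3.symm
    obtain ⟨rfl, rfl, rfl⟩ := ru_fixed hθ (inv_ne_one.2 h1)
      (fun g => h2 (by rw [← inv_inv b, g, inv_neg, inv_one])) a5 a6 a7
    exact (mem_Nf hθ).2 ⟨c, Or.inr (by rw [e, ru_zero, one_mul, mul_one])⟩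

omit hq8 in
theorem card_Nf : Nat.card ↥(Nf θ) = 2 * (Fintype.card K - 1) := by
  classical
  let f : Bool × Kˣ → ↥(Nf θ) := fun p =>
    ⟨hg hθ p.2 * cond p.1 (nn hθ) 1, (mem_Nf hθ).2 ⟨p.2, by
      cases p.1
      · exact Or.inl (by simp [hg])
      · exact Or.inr rfl⟩⟩
  have hn0 : ∀ a b : Kˣ, hh θ a ≠ hh θ b * n0 K := fun a b e => big_not_mem_borel (θ := θ) 0 0 0 b 0 0 0 (by
    rw [ru_zero, one_mul, mul_one, ← e]
    exact Subgroup.mem_sup_right (hh_mem_diag a))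
  have hf : Function.Bijective f := by
    constructor
    · rintro ⟨s, a⟩ ⟨t, b⟩ h
      have h' := congrArg (fun z : ↥(Nf θ) => ((z : ↥(fixG θ)) : GL chevG2.Idx K)) h
      rcases s with _ | _ <;> rcases t with _ | _ <;> simp [f, hg, nn] at h'
      · rw [hh_injective h']
      · exact absurd h' (hn0 a b)
      · exact absurd h'.symm (hn0 b a)
      · rw [hh_injective h']
    · rintro ⟨x, hx⟩
      obtain ⟨a, e | e⟩ := (mem_Nf hθ).1 hx
      · exact ⟨(false, a), Subtype.ext (Subtype.ext (by simp [f, hg, e]))⟩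
      · exact ⟨(true, a), Subtype.ext (Subtype.ext (by simp [f, hg, nn, e]))⟩
  rw [← Nat.card_eq_of_bijective f hf, Nat.card_prod]
  simp [Nat.card_eq_fintype_card, Fintype.card_units]

theorem cardQ1 : Nat.card ↥{x : ↥(fixG θ) | HasBig (Fintype.card K - 1) x} =
    (Nf θ).index * (Fintype.card K - 3) := by
  classical
  rw [setQ1_eq hθ hq8, card_conjSet _ (Nf θ)]
  · congr 1
    let f : {b : Kˣ // b ≠ 1 ∧ b ≠ -1} → ↥{y | y ∈ Hf θ ∧ y * y ≠ 1} := fun b =>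
      ⟨hg hθ b.1, (mem_Hf hθ).2 ⟨b.1, rfl⟩, fun e => by
        have e' : hh θ b.1 * hh θ b.1 = 1 := congrArg Subtype.val e
        rw [hh_mul, ← hh_one (θ := θ)] at e'
        rcases mul_self_eq_one_iff.1 (show (b.1 : K) * b.1 = 1 from congrArg Units.val (hh_injective e')) with g | g
        · exact b.2.1 (Units.ext g)
        · exact b.2.2 (Units.ext g)⟩
    have hf : Function.Bijective f := by
      refine ⟨fun a b h => Subtype.ext (hh_injective
        (congrArg (fun z : ↥{y | y ∈ Hf θ ∧ y * y ≠ 1} => ((z : ↥(fixG θ)) : GL chevG2.Idx K)) h)), ?_⟩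
      rintro ⟨y, hy, hy2⟩
      obtain ⟨b, e⟩ := (mem_Hf hθ).1 hy
      obtain rfl : y = hg hθ b := Subtype.ext e
      exact ⟨⟨b, Hf_sq_iff hθ hy2⟩, rfl⟩
    rw [← Nat.card_eq_of_bijective f hf, Nat.card_eq_fintype_card, Fintype.card_subtype]
    rw [show (Finset.univ.filter fun b : Kˣ => b ≠ 1 ∧ b ≠ -1) = Finset.univ \ {1, -1} by ext; simp,
      Finset.card_sdiff_of_subset (Finset.subset_univ _), Finset.card_univ, Fintype.card_units,
      Finset.card_pair (fun e : (1 : Kˣ) = -1 => neg_one_ne_one (congrArg Units.val e).symm)]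
    omega
  · rintro n hn x ⟨hx, hx2⟩
    refine ⟨Nf_conj hθ hn hx, fun e => hx2 ?_⟩
    exact conj_eq_one_iff.1 (by rw [← e]; group : n * (x * x) * n⁻¹ = 1)
  · rintro g x ⟨hx, hx2⟩ ⟨h, -⟩
    exact sep_Hf hθ hx hx2 h

theorem cardQ2 : Nat.card ↥{x : ↥(fixG θ) | HasBig (Fintype.card K + 1) x} =
    (Subgroup.normalizer (VV hθ : Set ↥(fixG θ))).index * (Fintype.card K - 3) := by
  classical
  rw [setQ2_eq hθ hq8, card_conjSet _ (Subgroup.normalizer (VV hθ : Set ↥(fixG θ)))]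
  · congr 1
    rw [Nat.card_coe_set_eq, show {y | y ∈ TT hθ ∧ y * y ≠ 1} = (TT hθ : Set ↥(fixG θ)) \ (VV hθ : Set ↥(fixG θ)) by
      ext y
      exact ⟨fun h => ⟨h.1, fun g => h.2 g.2⟩, fun h => ⟨h.1, fun g => h.2 ⟨h.1, g⟩⟩⟩,
      Set.ncard_sdiff (show (VV hθ : Set ↥(fixG θ)) ⊆ TT hθ from fun x hx => hx.1) (Set.toFinite _),
      ← Nat.card_coe_set_eq, ← Nat.card_coe_set_eq, SetLike.coe_sort_coe, SetLike.coe_sort_coe, card_TT hθ hq8,
      card_VV hθ hq8]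
    omega
  · rintro n hn x ⟨hx, hx2⟩
    refine ⟨NV_TT hθ hq8 hn hx, fun e => hx2 ?_⟩
    exact conj_eq_one_iff.1 (by rw [← e]; group : n * (x * x) * n⁻¹ = 1)
  · rintro g x ⟨hx, hx2⟩ ⟨h, -⟩
    have hy := TT_sq hθ hq8 hx
    have hgy : g * (x * x) * g⁻¹ ∈ A2 hθ := by
      rw [show g * (x * x) * g⁻¹ = (g * x * g⁻¹) * (g * x * g⁻¹) by group]
      exact TT_sq hθ hq8 h
    refine mem_normalizer_of_conj fun v hv => ⟨?_, ?_⟩
    · rw [← cent_A2 hθ hq8 hgy (fun e => hx2 (conj_eq_one_iff.1 e)), Subgroup.mem_centralizer_singleton_iff]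
      have hc : v * (x * x) = (x * x) * v := TT_comm hθ hv.1 hy.1
      calc g * v * g⁻¹ * (g * (x * x) * g⁻¹) = g * (v * (x * x)) * g⁻¹ := by group
        _ = g * ((x * x) * v) * g⁻¹ := by rw [hc]
        _ = _ := by group
    · calc g * v * g⁻¹ * (g * v * g⁻¹) = g * (v * v) * g⁻¹ := by group
        _ = 1 := by rw [hv.2]; group

omit hq8 in
theorem cardP : Nat.card ↥{x : ↥(fixG θ) | x ≠ 1 ∧ x ^ 9 = 1} =
    (Bf θ).index * (Fintype.card K ^ 3 - 1) := by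
  classical
  rw [setP_eq hθ, card_conjSet _ (Bf θ)]
  · congr 1
    rw [Nat.card_coe_set_eq, show {y | y ∈ Uf θ ∧ y ≠ 1} = (Uf θ : Set ↥(fixG θ)) \ {1} by ext; simp,
      Set.ncard_sdiff_singleton_of_mem (one_mem _), ← Nat.card_coe_set_eq, SetLike.coe_sort_coe, card_Uf' hθ]
  · rintro n hn x ⟨hx, hx1⟩
    refine ⟨?_, fun e => hx1 (conj_eq_one_iff.1 e)⟩
    rw [← conj_Uf hθ hn]
    exact ⟨x, hx, rfl⟩
  · rintro g x ⟨hx, hx1⟩ ⟨h, -⟩
    by_contra hg'
    have hm : g * x * g⁻¹ ∈ Uf θ ⊓ MulAut.conj g • Uf θ := ⟨h, x, hx, rfl⟩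
    rw [ti_of_not_mem hθ hg', Subgroup.mem_bot] at hm
    exact hx1 (conj_eq_one_iff.1 hm)

omit hq8 in
theorem cardI : Nat.card ↥{x : ↥(fixG θ) | x ^ 6 = 1 ∧ x ^ 3 ≠ 1} =
    (Subgroup.centralizer ({a0 hθ} : Set ↥(fixG θ))).index * Fintype.card K ^ 2 := by
  classical
  set C := Subgroup.centralizer ({a0 hθ} : Set ↥(fixG θ))
  rw [setI_eq hθ, card_conjSet _ C]
  · congr 1
    set BC := (Bf θ).subgroupOf C
    let X : Set ↥C := {x | (x : ↥(fixG θ)) ∈ Uf θ ∧ x ≠ 1}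
    have hconj : {x : ↥C | x ≠ 1 ∧ x ^ 3 = 1} = conjSet X := by
      refine Set.Subset.antisymm ?_ ?_
      · rintro ⟨x, hx⟩ ⟨hx1, hx3⟩
        have hx3' : x ^ 3 = 1 := congrArg Subtype.val hx3
        rcases (cent_three hθ (Subgroup.mem_centralizer_singleton_iff.1 hx)
          (by rw [show 9 = 3 * 3 from rfl, pow_mul, hx3', one_pow])).2 with e | ⟨c, hc, s, hs0, hs⟩
        · exact absurd (Subtype.ext e) hx1
        · have hsC : rg hθ 0 s 0 ∈ C :=
            Subgroup.mem_centralizer_singleton_iff.2 ((mem_C0_iff hθ).1 (ru_u_mem hθ s))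
          refine ⟨⟨c, Subgroup.mem_centralizer_singleton_iff.2 hc⟩, ⟨_, hsC⟩, ⟨(mem_Uf hθ).2 ⟨0, s, 0, rfl⟩,
            fun e => hs0 ?_⟩, Subtype.ext (by show c * rg hθ 0 s 0 * c⁻¹ = x; rw [← hs]; group)⟩
          have e' : ru θ 0 s 0 = ru θ 0 0 0 := by
            rw [ru_zero]; exact congrArg (fun z : ↥C => ((z : ↥(fixG θ)) : GL chevG2.Idx K)) e
          exact (ru_injective e').2.1
      · rintro x ⟨g, y, ⟨hy, hy1⟩, rfl⟩
        refine ⟨fun e => hy1 (conj_eq_one_iff.1 e), ?_⟩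
        have h3 : y ^ 3 = 1 := Subtype.ext (by
          rw [SubmonoidClass.coe_pow]
          exact (cent_three hθ (Subgroup.mem_centralizer_singleton_iff.1 y.2) (Uf_pow hθ hy)).1)
        rw [conj_pow, h3, mul_one, mul_inv_cancel]
    have hcard : Nat.card ↥(conjSet X) = BC.index * Nat.card ↥X := by
      refine card_conjSet X BC (fun n hn x hx => ⟨?_, fun e => hx.2 (conj_eq_one_iff.1 e)⟩) ?_
      · rw [Subgroup.coe_mul, Subgroup.coe_mul, Subgroup.coe_inv, ← conj_Uf hθ (Subgroup.mem_subgroupOf.1 hn)]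
        exact ⟨x, hx.1, rfl⟩
      · rintro g x ⟨hx, hx1⟩ ⟨h, -⟩
        rw [Subgroup.mem_subgroupOf]
        by_contra hg'
        have hm : ((g * x * g⁻¹ : ↥C) : ↥(fixG θ)) ∈ Uf θ ⊓ MulAut.conj (g : ↥(fixG θ)) • Uf θ :=
          ⟨h, _, hx, rfl⟩
        rw [ti_of_not_mem hθ hg', Subgroup.mem_bot] at hm
        exact hx1 (conj_eq_one_iff.1 (Subtype.ext hm))
    have hBC : Nat.card ↥BC = Fintype.card K * (Fintype.card K - 1) := by
      let f : K × Kˣ → ↥BC := fun p => ⟨⟨rg hθ 0 p.1 0 * hg hθ p.2, mul_mem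
          (Subgroup.mem_centralizer_singleton_iff.2 ((mem_C0_iff hθ).1 (ru_u_mem hθ p.1)))
          (Subgroup.mem_centralizer_singleton_iff.2 ((mem_C0_iff hθ).1 (hh_mem_C0 hθ p.2)))⟩,
        Subgroup.mem_subgroupOf.2 (mul_mem (rg_mem_Bf hθ _ _ _) (hg_mem_Bf hθ _))⟩
      have hf : Function.Bijective f := by
        refine ⟨fun a b h => ?_, ?_⟩
        · obtain ⟨-, h2, -, h4⟩ := small_unique
            (congrArg (fun z : ↥BC => (((z : ↥C) : ↥(fixG θ)) : GL chevG2.Idx K)) h)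
          exact Prod.ext h2 h4
        · rintro ⟨⟨x, hx⟩, hxB⟩
          obtain ⟨t, u, v, a, e⟩ := (mem_Bf hθ).1 (Subgroup.mem_subgroupOf.1 hxB)
          rcases C0_cases hθ ((mem_C0_iff hθ).2 (Subgroup.mem_centralizer_singleton_iff.1 hx)) with
            ⟨u', c, e'⟩ | ⟨u', c, u'', e'⟩
          · exact ⟨(u', c), Subtype.ext (Subtype.ext (Subtype.ext e'.symm))⟩
          · exfalso
            refine big_not_mem_borel (θ := θ) 0 u' 0 c 0 u'' 0 ?_
            rw [← e', show ((⟨x, hx⟩ : ↥C) : ↥(fixG θ)).1 = ru θ t u v * hh θ a from e]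
            exact small_mem_borel t u v a
      rw [← Nat.card_eq_of_bijective f hf]
      simp [Nat.card_eq_fintype_card, Fintype.card_units]
    have hX : Nat.card ↥X = Fintype.card K - 1 := by
      let f : {s : K // s ≠ 0} → ↥X := fun s => ⟨⟨rg hθ 0 s.1 0,
        Subgroup.mem_centralizer_singleton_iff.2 ((mem_C0_iff hθ).1 (ru_u_mem hθ s.1))⟩,
        (mem_Uf hθ).2 ⟨0, s.1, 0, rfl⟩, fun e => s.2 (ru_injective
          ((congrArg (fun z : ↥C => ((z : ↥(fixG θ)) : GL chevG2.Idx K)) e).trans ru_zero.symm)).2.1⟩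
      have hf : Function.Bijective f := by
        refine ⟨fun a b h => Subtype.ext (ru_injective
          (congrArg (fun z : ↥X => (((z : ↥C) : ↥(fixG θ)) : GL chevG2.Idx K)) h)).2.1, ?_⟩
        rintro ⟨⟨x, hx⟩, hxU, hx1⟩
        obtain ⟨t, u, v, e⟩ := (mem_Uf hθ).1 hxU
        rcases C0_cases hθ ((mem_C0_iff hθ).2 (Subgroup.mem_centralizer_singleton_iff.1 hx)) with
          ⟨u', c, e'⟩ | ⟨u', c, u'', e'⟩
        · have e'' : ru θ t u v * hh θ 1 = ru θ 0 u' 0 * hh θ c := by rw [hh_one, mul_one, ← e']; exact e.symm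
          obtain ⟨rfl, rfl, rfl, rfl⟩ := small_unique e''
          refine ⟨⟨u, fun h0 => hx1 (Subtype.ext (Subtype.ext ?_))⟩, Subtype.ext (Subtype.ext (Subtype.ext e.symm))⟩
          show (x : GL chevG2.Idx K) = 1
          rw [show (x : GL chevG2.Idx K) = ru θ 0 u 0 from e, h0, ru_zero]
        · exfalso
          refine big_not_mem_borel (θ := θ) 0 u' 0 c 0 u'' 0 ?_
          rw [← e', show ((⟨x, hx⟩ : ↥C) : ↥(fixG θ)).1 = ru θ t u v from e]
          exact Subgroup.mem_sup_left (ru_mem_pos t u v)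
      rw [← Nat.card_eq_of_bijective f hf, Nat.card_eq_fintype_card, Fintype.card_subtype_compl,
        Fintype.card_subtype_eq]
    have hidx : BC.index = Fintype.card K + 1 := by
      have h := BC.card_mul_index
      rw [hBC, card_cent_a0 hθ] at h
      exact Nat.eq_of_mul_eq_mul_left (mul_pos Fintype.card_pos (by have := Fintype.one_lt_card (α := K); omega)) h
    let f : ↥{x : ↥C | x ^ 3 = 1} → ↥(I6X hθ) := fun u =>
      ⟨a0 hθ * u.1.1, u.1.1, Subgroup.mem_centralizer_singleton_iff.1 u.1.2,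
        congrArg Subtype.val u.2, rfl⟩
    have hf : Function.Bijective f := by
      refine ⟨fun a b h => Subtype.ext (Subtype.ext (mul_left_cancel (congrArg Subtype.val h))), ?_⟩
      rintro ⟨_, u, hu, h3, rfl⟩
      exact ⟨⟨⟨u, Subgroup.mem_centralizer_singleton_iff.2 hu⟩, Subtype.ext h3⟩, rfl⟩
    rw [← Nat.card_eq_of_bijective f hf, Nat.card_coe_set_eq,
      show {x : ↥C | x ^ 3 = 1} = insert 1 {x : ↥C | x ≠ 1 ∧ x ^ 3 = 1} by
        ext x; by_cases hx : x = 1 <;> simp [hx],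
      Set.ncard_insert_of_notMem (by simp), ← Nat.card_coe_set_eq, hconj, hcard, hidx, hX]
    obtain ⟨s, hs⟩ : ∃ s, Fintype.card K = s + 1 := ⟨_, (Nat.succ_pred_eq_of_pos Fintype.card_pos).symm⟩
    rw [hs, Nat.add_sub_cancel]
    ring
  · rintro n hn x ⟨u, hu, h3, rfl⟩
    have hn' := Subgroup.mem_centralizer_singleton_iff.1 hn
    refine ⟨n * u * n⁻¹, Subgroup.mem_centralizer_singleton_iff.1
      (mul_mem (mul_mem hn (Subgroup.mem_centralizer_singleton_iff.2 hu)) (inv_mem hn)),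
      by rw [conj_pow, h3, mul_one, mul_inv_cancel], ?_⟩
    rw [show n * (a0 hθ * u) * n⁻¹ = (n * a0 hθ) * u * n⁻¹ by group, hn']
    group
  · rintro g x hx hgx
    have h := I6X_pow hθ hgx
    rw [conj_pow, I6X_pow hθ hx, mul_inv_eq_iff_eq_mul] at h
    exact Subgroup.mem_centralizer_singleton_iff.2 h

/-- the equation for the remaining elements -/
theorem card_rest : 3 * nq K * Nat.card ↥{x : ↥(fixG θ) | HasBig (nq K) x} =
    Nat.card ↥(fixG θ) * (Fintype.card K * Fintype.card K - 2 * Fintype.card K) := by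
  classical
  set P := {x : ↥(fixG θ) | x ≠ 1 ∧ x ^ 9 = 1} with hP
  set I := {x : ↥(fixG θ) | x ^ 6 = 1 ∧ x ^ 3 ≠ 1} with hI
  set S1 := {x : ↥(fixG θ) | HasBig (Fintype.card K - 1) x} with hS1
  set S2 := {x : ↥(fixG θ) | HasBig (Fintype.card K + 1) x} with hS2
  set R := {x : ↥(fixG θ) | HasBig (nq K) x} with hR
  have huniv : (Set.univ : Set ↥(fixG θ)) = insert 1 (P ∪ (I ∪ (S1 ∪ (S2 ∪ R)))) := by
    refine (Set.eq_univ_of_forall fun x => ?_).symm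
    by_cases hx : x = 1
    · exact Or.inl hx
    · exact Or.inr (classify hθ hq8 hx)
  have hnb : ∀ {x : ↥(fixG θ)} {k n : ℕ}, x ^ n = 1 → (∀ l : ℕ, l.Prime → l ∣ n → l ≤ 3) → ¬ HasBig k x := by
    rintro x k n hx hn ⟨l, hl, h3, hlx, -⟩
    have := hn l hl (hlx.trans (orderOf_dvd_of_pow_eq_one hx))
    omega
  have h9 : ∀ l : ℕ, l.Prime → l ∣ 9 → l ≤ 3 := fun l hl h =>
    Nat.le_of_dvd (by norm_num) (hl.dvd_of_dvd_pow (show l ∣ 3 ^ 2 by simpa using h))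
  have h6 : ∀ l : ℕ, l.Prime → l ∣ 6 → l ≤ 3 := fun l hl h => by
    rcases hl.dvd_mul.1 (show l ∣ 2 * 3 by simpa using h) with g | g
    · exact (Nat.le_of_dvd (by norm_num) g).trans (by norm_num)
    · exact Nat.le_of_dvd (by norm_num) g
  have h1 : (1 : ↥(fixG θ)) ∉ P ∪ (I ∪ (S1 ∪ (S2 ∪ R))) := by
    rintro (h | h | h | h | h)
    · exact h.1 rfl
    · exact h.2 (one_pow 3)
    all_goals exact hnb (one_pow 9) h9 h
  have d1 : Disjoint P (I ∪ (S1 ∪ (S2 ∪ R))) := Set.disjoint_left.2 fun x hx h => by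
    rcases h with h | h | h | h
    · refine h.2 ?_
      calc x ^ 3 = x ^ 9 * (x ^ 6)⁻¹ := by group
        _ = 1 := by rw [hx.2, h.1, inv_one, one_mul]
    all_goals exact hnb hx.2 h9 h
  have d2 : Disjoint I (S1 ∪ (S2 ∪ R)) := Set.disjoint_left.2 fun x hx h => by
    rcases h with h | h | h
    all_goals exact hnb hx.1 h6 h
  have d3 : Disjoint S1 (S2 ∪ R) := Set.disjoint_left.2 fun x hx h => by
    rcases h with h | h
    · exact (big_excl1 hθ hq8 hx).1 h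
    · exact (big_excl1 hθ hq8 hx).2 h
  have d4 : Disjoint S2 R := Set.disjoint_left.2 fun x hx h => big_excl2 hθ hq8 hx h
  have hsum : Nat.card ↥(fixG θ) = 1 + (Nat.card ↥P + (Nat.card ↥I + (Nat.card ↥S1 + (Nat.card ↥S2 + Nat.card ↥R)))) := by
    rw [← Set.ncard_univ, huniv, Set.ncard_insert_of_notMem h1, Set.ncard_union_eq d1, Set.ncard_union_eq d2,
      Set.ncard_union_eq d3, Set.ncard_union_eq d4, Nat.card_coe_set_eq, Nat.card_coe_set_eq, Nat.card_coe_set_eq,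
      Nat.card_coe_set_eq, Nat.card_coe_set_eq, add_comm]
  rw [cardP hθ, cardI hθ, cardQ1 hθ hq8, cardQ2 hθ hq8] at hsum
  have iB := (Bf θ).card_mul_index
  have iC := (Subgroup.centralizer ({a0 hθ} : Set ↥(fixG θ))).card_mul_index
  have iN := (Nf θ).card_mul_index
  have iV := (Subgroup.normalizer (VV hθ : Set ↥(fixG θ))).card_mul_index
  rw [card_Bf hθ] at iB
  rw [card_cent_a0 hθ] at iC
  rw [card_Nf hθ] at iN
  rw [card_NV hθ hq8] at iV
  rw [card_eq hθ] at iB iC iN iV hsum ⊢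
  generalize hg : Nat.card ↥R = rest at hsum ⊢
  generalize (Bf θ).index = nB at hsum iB
  generalize (Subgroup.centralizer ({a0 hθ} : Set ↥(fixG θ))).index = nC at hsum iC
  generalize (Nf θ).index = nN at hsum iN
  generalize (Subgroup.normalizer (VV hθ : Set ↥(fixG θ))).index = nV at hsum iV
  obtain ⟨s, hs⟩ : ∃ s, Fintype.card K = s + 3 := ⟨Fintype.card K - 3, by omega⟩
  have hN : nq K = (s + 2) * (s + 2) + (s + 2) + 1 := nq_eq (s + 2) (by omega)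
  rw [hs] at iB iC iN iV hsum ⊢
  rw [hN] at iB iC iN iV hsum ⊢
  rw [show s + 3 - 1 = s + 2 by omega] at iB iC iN iV hsum ⊢
  rw [show s + 3 - 3 = s by omega] at hsum
  rw [show (s + 3) * (s + 3) - 2 * (s + 3) = (s + 3) * (s + 1) by
    rw [show (s + 3) * (s + 3) = (s + 3) * (s + 1) + 2 * (s + 3) by ring, Nat.add_sub_cancel]]
  set N := (s + 2) * (s + 2) + (s + 2) + 1 with hNdef
  have eB : nB = (s + 4) * N := Nat.eq_of_mul_eq_mul_left (show 0 < (s + 3) ^ 3 * (s + 2) by positivity)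
    (iB.trans (by ring))
  have eC : nC = (s + 3) ^ 2 * N := Nat.eq_of_mul_eq_mul_left
    (show 0 < (s + 3) * (s + 2) * (s + 3 + 1) by positivity) (iC.trans (by ring))
  have eN : 2 * nN = (s + 3) ^ 3 * ((s + 4) * N) := Nat.eq_of_mul_eq_mul_left (show 0 < s + 2 by omega)
    ((show (s + 2) * (2 * nN) = 2 * (s + 2) * nN by ring).trans (iN.trans (by ring)))
  have eV : 6 * nV = (s + 3) ^ 3 * ((s + 2) * N) := Nat.eq_of_mul_eq_mul_left (show 0 < s + 4 by omega)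
    ((show (s + 4) * (6 * nV) = 6 * (s + 3 + 1) * nV by ring).trans (iV.trans (by ring)))
  subst eB eC
  obtain ⟨p, hp⟩ : ∃ p, (s + 3) ^ 3 = p + 1 := ⟨(s + 3) ^ 3 - 1, (Nat.succ_pred_eq_of_pos (by positivity)).symm⟩
  rw [show (s + 3) ^ 3 - 1 = p by omega] at hsum
  zify at hsum eN eV hp hNdef ⊢
  have hp' : (p : ℤ) = ((s : ℤ) + 3) ^ 3 - 1 := by linarith
  rw [hp'] at hsum
  rw [hNdef] at hsum eN eV ⊢
  refine mul_left_cancel₀ (show (2 : ℤ) ≠ 0 by norm_num) ?_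
  linear_combination (-6 * (((s : ℤ) + 2) * ((s : ℤ) + 2) + ((s : ℤ) + 2) + 1)) * hsum
    - 3 * (((s : ℤ) + 2) * ((s : ℤ) + 2) + ((s : ℤ) + 2) + 1) * (s : ℤ) * eN
    - (((s : ℤ) + 2) * ((s : ℤ) + 2) + ((s : ℤ) + 2) + 1) * (s : ℤ) * eV

end CfsgLib.ReeG2
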