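import Cfsg.Agent.Lib.ReeG2.Count

/-!
The two classes of cyclic tori of orders q + 1 ± r, their normalisers, and the orders of elements.
-/

set_option autoImplicit false
set_option linter.unusedSectionVars false

namespace CfsgLib.ReeG2

open Cfsg.Lie CfsgLib.Chev
open scoped Matrix MatrixGroups Pointwise

/-- the arithmetic of two classes -/
theorem two_classes_arith {q a b n m : ℕ} (hn : n ∣ 6) (hm : m ∣ 6) (hn6 : n ≤ 6) (hm6 : m ≤ 6) (h7a : 6 ≤ a)
    (h7b : 6 ≤ b) (hqq : 2 * q ≤ q * q) (hab : (a + 1) * (b + 1) = q * q - q + 1)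
    (hlt : q * q - 2 * q < (a + 1) * (b + 1))
    (e2 : 3 * (a * (m * (b + 1)) + b * (n * (a + 1))) = n * m * (q * q - 2 * q)) :
    n = 6 ∧ m = 6 ∧ a + 1 + (b + 1) = 2 * q + 2 := by
  have hsub2 : q * q - 2 * q + 2 * q = q * q := Nat.sub_add_cancel hqq
  have hsub1 : q * q - q + q = q * q := Nat.sub_add_cancel (Nat.le_mul_self q)
  generalize q * q - 2 * q = D at e2 hlt hsub2
  generalize q * q - q = E at hab hsub1
  generalize q * q = Q at hsub1 hsub2
  have hX : 6 * ((a + 1) * (b + 1)) ≤ 7 * (a * (b + 1)) := by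
    rw [← mul_assoc, ← mul_assoc]; exact Nat.mul_le_mul_right _ (by omega)
  have hY : 6 * ((a + 1) * (b + 1)) ≤ 7 * (b * (a + 1)) := by
    rw [mul_comm (a + 1) (b + 1), ← mul_assoc, ← mul_assoc]; exact Nat.mul_le_mul_right _ (by omega)
  have eX : a * (m * (b + 1)) = m * (a * (b + 1)) := by ring
  have eY : b * (n * (a + 1)) = n * (b * (a + 1)) := by ring
  rw [eX, eY] at e2
  have eS : a * (b + 1) + b * (a + 1) + (a + 1) + (b + 1) = 2 * ((a + 1) * (b + 1)) := by ring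
  generalize (a + 1) * (b + 1) = P at hab hlt hX hY eS
  generalize a * (b + 1) = X at e2 hX eS
  generalize b * (a + 1) = Y at e2 hY eS
  have hnm : n = 6 ∧ m = 6 := by
    interval_cases n <;> interval_cases m <;> omega
  obtain ⟨rfl, rfl⟩ := hnm
  exact ⟨rfl, rfl, by omega⟩

variable {K : Type*} [Field K] [Fintype K] [CharP K 3] {θ : K ≃+* K}

/-- the centraliser of an element of prime order dividing q² - q + 1 -/
def IsSinger (A : Subgroup ↥(fixG θ)) : Prop :=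
  ∃ (l : ℕ) (z : ↥(fixG θ)), l.Prime ∧ l ∣ nq K ∧ orderOf z = l ∧ A = Subgroup.centralizer {z}

/-- the nontrivial conjugates of a subgroup -/
def orb (A : Subgroup ↥(fixG θ)) : Set ↥(fixG θ) := conjSet {y | y ∈ A ∧ y ≠ 1}

theorem seven_le {r : ℕ} (hr : r.Prime) (h : r ∣ nq K) : 7 ≤ r := by
  haveI : Fact r.Prime := ⟨hr⟩
  have h6 := order_q_mod (K := K) h
  have hne : (Fintype.card K : ZMod r) ≠ 0 := fun e => by
    rw [e, orderOf_zero] at h6
    exact absurd h6 (by norm_num)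
  have := ZMod.orderOf_dvd_card_sub_one hne
  rw [h6] at this
  have h2 := hr.two_le
  have := Nat.le_of_dvd (by omega) this
  omega

variable (hθ : IsRee θ) (hq8 : Fintype.card K % 8 = 3)
include hθ hq8

theorem IsSinger.prime_dvd {A : Subgroup ↥(fixG θ)} (hA : IsSinger A) {r : ℕ} (hr : r.Prime)
    (h : r ∣ Nat.card ↥A) : r ∣ nq K := by
  obtain ⟨l, z, hl, hlN, hz, rfl⟩ := hA
  haveI : Fact l.Prime := ⟨hl⟩
  haveI : Fact r.Prime := ⟨hr⟩
  obtain ⟨h3, hq1⟩ := singer_cent_prime hθ hlN hz hr h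
  rcases prime_cases hθ hr (h.trans (Subgroup.card_subgroup_dvd_card _)) with g | g | ⟨-, g | g | g⟩
  · omega
  · omega
  · exact absurd g hq1
  · exfalso
    obtain ⟨⟨w, hwm⟩, hw⟩ := exists_prime_orderOf_dvd_card' r h
    rw [Subgroup.orderOf_mk] at hw
    obtain ⟨x, hx⟩ := exists_conj_mem (A2 hθ) (A2_index_prime hθ hq8 hr (by omega) g) hw
    have hx1 : x⁻¹ * w * x ≠ 1 := fun e => by
      have : w = 1 := by
        calc w = x * (x⁻¹ * w * x) * x⁻¹ := by group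
          _ = 1 := by rw [e]; group
      rw [this, orderOf_one] at hw
      exact hr.ne_one hw.symm
    have hzT : x⁻¹ * z * x ∈ TT hθ := by
      rw [← cent_A2 hθ hq8 hx hx1, Subgroup.mem_centralizer_singleton_iff]
      have hc := Subgroup.mem_centralizer_singleton_iff.1 hwm
      calc x⁻¹ * z * x * (x⁻¹ * w * x) = x⁻¹ * (z * w) * x := by group
        _ = x⁻¹ * (w * z) * x := by rw [hc]
        _ = _ := by group
    have hd := Subgroup.orderOf_dvd_natCard (TT hθ) hzT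
    rw [SemiconjBy.orderOf_eq x (show x * (x⁻¹ * z * x) = z * x by group), hz, card_TT hθ hq8] at hd
    exact not_dvd_nq_succ hl hd hlN
  · exact g

theorem IsSinger.comm {A : Subgroup ↥(fixG θ)} (hA : IsSinger A) : IsCyclic ↥A ∧
    ∀ x ∈ A, ∀ y ∈ A, x * y = y * x := by
  obtain ⟨l, z, hl, hlN, hz, rfl⟩ := hA
  haveI : Fact l.Prime := ⟨hl⟩
  have hcy := singer_cent_cyclic hθ hlN hz
  refine ⟨hcy, fun x hx y hy => ?_⟩
  haveI := hcy
  obtain ⟨g, hg'⟩ := IsCyclic.exists_generator (α := ↥(Subgroup.centralizer ({z} : Set ↥(fixG θ))))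
  obtain ⟨i, hi⟩ := Subgroup.mem_zpowers_iff.1 (hg' ⟨x, hx⟩)
  obtain ⟨j, hj⟩ := Subgroup.mem_zpowers_iff.1 (hg' ⟨y, hy⟩)
  have := ((Commute.refl g).zpow_zpow i j).eq
  rw [hi, hj] at this
  exact congrArg Subtype.val this

theorem IsSinger.cent_eq {A : Subgroup ↥(fixG θ)} (hA : IsSinger A) {w : ↥(fixG θ)} (hw : w ∈ A) (hw1 : w ≠ 1) :
    Subgroup.centralizer ({w} : Set ↥(fixG θ)) = A := by
  have hab := (hA.comm hθ hq8).2
  have hpd : ∀ r : ℕ, r.Prime → r ∣ orderOf w → r ∣ nq K := fun r hr h =>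
    hA.prime_dvd hθ hq8 hr (h.trans (Subgroup.orderOf_dvd_natCard _ hw))
  obtain ⟨l, z, hl, hlN, hz, rfl⟩ := hA
  refine le_antisymm (fun x hx => ?_) fun x hx => Subgroup.mem_centralizer_singleton_iff.2 (hab x hx w hw)
  obtain ⟨r, hr, hrw⟩ := Nat.exists_prime_and_dvd (fun e => hw1 (orderOf_eq_one_iff.1 e) : orderOf w ≠ 1)
  set y := w ^ (orderOf w / r)
  have hy : orderOf y = r := exists_prime_power hrw
  have hS : IsSinger (Subgroup.centralizer ({y} : Set ↥(fixG θ))) := ⟨r, y, hr, hpd r hr hrw, hy, rfl⟩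
  have hxy : x ∈ Subgroup.centralizer ({y} : Set ↥(fixG θ)) := by
    rw [Subgroup.mem_centralizer_singleton_iff] at hx ⊢
    exact (Commute.pow_right hx _).eq
  have hzy : z ∈ Subgroup.centralizer ({y} : Set ↥(fixG θ)) := by
    rw [Subgroup.mem_centralizer_singleton_iff]
    have h := Subgroup.mem_centralizer_singleton_iff.1 hw
    exact (Commute.pow_right (h.symm : Commute z w) _).eq
  exact Subgroup.mem_centralizer_singleton_iff.2 ((hS.comm hθ hq8).2 x hxy z hzy)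

theorem IsSinger.sep {A : Subgroup ↥(fixG θ)} (hA : IsSinger A) {g x : ↥(fixG θ)} (hx : x ∈ A) (hx1 : x ≠ 1)
    (h : g * x * g⁻¹ ∈ A) : g ∈ Subgroup.normalizer (A : Set ↥(fixG θ)) := by
  refine mem_normalizer_of_conj fun v hv => ?_
  rw [← hA.cent_eq hθ hq8 h (fun e => hx1 (conj_eq_one_iff.1 e)), Subgroup.mem_centralizer_singleton_iff]
  have hc : v * x = x * v := (hA.comm hθ hq8).2 v hv x hx
  calc g * v * g⁻¹ * (g * x * g⁻¹) = g * (v * x) * g⁻¹ := by group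
    _ = g * (x * v) * g⁻¹ := by rw [hc]
    _ = _ := by group

theorem card_orb {A : Subgroup ↥(fixG θ)} (hA : IsSinger A) :
    Nat.card ↥(orb A) = (Subgroup.normalizer (A : Set ↥(fixG θ))).index * (Nat.card ↥A - 1) := by
  classical
  rw [orb, card_conjSet _ (Subgroup.normalizer (A : Set ↥(fixG θ)))]
  · congr 1
    rw [Nat.card_coe_set_eq, show {y | y ∈ A ∧ y ≠ 1} = (A : Set ↥(fixG θ)) \ {1} by ext; simp,
      Set.ncard_sdiff_singleton_of_mem (one_mem _), ← Nat.card_coe_set_eq, SetLike.coe_sort_coe]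
  · rintro n hn x ⟨hx, hx1⟩
    exact ⟨(Subgroup.mem_normalizer_iff.1 hn x).1 hx, fun e => hx1 (conj_eq_one_iff.1 e)⟩
  · rintro g x ⟨hx, hx1⟩ ⟨h, -⟩
    exact hA.sep hθ hq8 hx hx1 h

theorem IsSinger.index_prime {A : Subgroup ↥(fixG θ)} (hA : IsSinger A) {r : ℕ} (hr : r.Prime)
    (h : r ∣ Nat.card ↥A) : ¬ r ∣ A.index := by
  haveI : Fact r.Prime := ⟨hr⟩
  obtain ⟨⟨y, hy⟩, hy'⟩ := exists_prime_orderOf_dvd_card' r h
  rw [Subgroup.orderOf_mk] at hy'
  obtain ⟨P, hP⟩ := (IsPGroup.of_card (p := r) (n := 1)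
    (by rw [Nat.card_zpowers, hy', pow_one] : Nat.card ↥(Subgroup.zpowers y) = r ^ 1)).exists_le_sylow
  haveI := singer_sylow_cyclic hθ (hA.prime_dvd hθ hq8 hr h) P
  obtain ⟨g, hg'⟩ := IsCyclic.exists_generator (α := ↥(P : Subgroup ↥(fixG θ)))
  have hy1 : y ≠ 1 := fun e => hr.ne_one (by rw [← hy', e, orderOf_one])
  have hle : (P : Subgroup ↥(fixG θ)) ≤ A := by
    rw [← hA.cent_eq hθ hq8 hy hy1]
    intro x hx
    rw [Subgroup.mem_centralizer_singleton_iff]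
    obtain ⟨i, hi⟩ := Subgroup.mem_zpowers_iff.1 (hg' ⟨x, hx⟩)
    obtain ⟨j, hj⟩ := Subgroup.mem_zpowers_iff.1 (hg' ⟨y, hP (Subgroup.mem_zpowers y)⟩)
    have := ((Commute.refl g).zpow_zpow i j).eq
    rw [hi, hj] at this
    exact congrArg Subtype.val this
  exact fun hd => P.not_dvd_index (hd.trans (Subgroup.index_dvd_of_le hle))

theorem IsSinger.card_dvd {A : Subgroup ↥(fixG θ)} (hA : IsSinger A) : Nat.card ↥A ∣ nq K := by
  have hd : Nat.card ↥A ∣ Fintype.card K ^ 3 * ((Fintype.card K - 1) * ((Fintype.card K + 1) * nq K)) :=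
    card_eq hθ ▸ Subgroup.card_subgroup_dvd_card A
  have hc : ∀ k : ℕ, (∀ r : ℕ, r.Prime → r ∣ k → ¬ r ∣ nq K) → (Nat.card ↥A).Coprime k := fun k hk =>
    Nat.coprime_of_dvd fun r hr h1 h2 => hk r hr h2 (hA.prime_dvd hθ hq8 hr h1)
  have h1 := (hc _ fun r hr h => not_dvd_nq_self hr (hr.dvd_of_dvd_pow h)).dvd_of_dvd_mul_left hd
  have h2 := (hc _ fun r hr h => not_dvd_nq_pred hr h).dvd_of_dvd_mul_left h1
  exact (hc _ fun r hr h => not_dvd_nq_succ hr h).dvd_of_dvd_mul_left h2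

theorem IsSinger.seven_le_card {A : Subgroup ↥(fixG θ)} (hA : IsSinger A) : 7 ≤ Nat.card ↥A := by
  obtain ⟨l, z, hl, hlN, hz, hAe⟩ := hA
  have h : l ∣ Nat.card ↥A :=
    hz ▸ Subgroup.orderOf_dvd_natCard A (hAe ▸ Subgroup.mem_centralizer_singleton_iff.2 rfl)
  exact (seven_le hl hlN).trans (Nat.le_of_dvd Nat.card_pos h)

theorem IsSinger.normalizer_card {A : Subgroup ↥(fixG θ)} (hA : IsSinger A) :
    ∃ n, n ∣ 6 ∧ Nat.card ↥(Subgroup.normalizer (A : Set ↥(fixG θ))) = n * Nat.card ↥A := by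
  classical
  have hcy := (hA.comm hθ hq8).1
  have hpd := fun r hr h => hA.prime_dvd hθ hq8 (r := r) hr h
  have hab := (hA.comm hθ hq8).2
  obtain ⟨l, z, hl, hlN, hz, rfl⟩ := hA
  haveI := hcy
  haveI : Fact l.Prime := ⟨hl⟩
  set A := Subgroup.centralizer ({z} : Set ↥(fixG θ))
  have hzA : z ∈ A := Subgroup.mem_centralizer_singleton_iff.2 rfl
  set N := Subgroup.normalizer (A : Set ↥(fixG θ))
  have hAN : A ≤ N := Subgroup.le_normalizer
  have hq6 := order_q_mod (K := K) hlN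
  have hzl : z ^ l = 1 := hz ▸ pow_orderOf_eq_one z
  have hmod : ∀ a b : ℕ, (a : ZMod l) = b → z ^ a = z ^ b := fun a b e => by
    rw [pow_eq_pow_mod a hzl, (ZMod.natCast_eq_natCast_iff' a b l).1 e, ← pow_eq_pow_mod b hzl]
  let S : Subgroup (ZMod l)ˣ :=
    { carrier := {k | ∃ x ∈ N, x * z * x⁻¹ = z ^ (k : ZMod l).val}
      one_mem' := ⟨1, one_mem _, by simp [ZMod.val_one]⟩
      mul_mem' := by
        rintro a b ⟨x, hx, ex⟩ ⟨y, hy, ey⟩
        refine ⟨x * y, mul_mem hx hy, ?_⟩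
        calc x * y * z * (x * y)⁻¹ = x * (y * z * y⁻¹) * x⁻¹ := by group
          _ = (x * z * x⁻¹) ^ (b : ZMod l).val := by rw [ey, conj_pow]
          _ = z ^ ((a * b : (ZMod l)ˣ) : ZMod l).val := by
            rw [ex, ← pow_mul]
            exact hmod _ _ (by simp only [Nat.cast_mul, ZMod.natCast_zmod_val, Units.val_mul])
      inv_mem' := by
        rintro a ⟨x, hx, ex⟩
        refine ⟨x⁻¹, inv_mem hx, ?_⟩
        have h1 : z = x⁻¹ * z ^ (a : ZMod l).val * x := by rw [← ex]; group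
        calc x⁻¹ * z * x⁻¹⁻¹ = x⁻¹ * (z ^ ((a : ZMod l).val * ((a⁻¹ : (ZMod l)ˣ) : ZMod l).val)) * x⁻¹⁻¹ := by
              rw [hmod _ 1 (by rw [Nat.cast_mul, ZMod.natCast_zmod_val, ZMod.natCast_zmod_val, Nat.cast_one, ← Units.val_mul,
                mul_inv_cancel, Units.val_one]), pow_one]
          _ = (x⁻¹ * z ^ (a : ZMod l).val * x⁻¹⁻¹) ^ ((a⁻¹ : (ZMod l)ˣ) : ZMod l).val := by rw [conj_pow, pow_mul]
          _ = _ := by rw [inv_inv, ← h1] }
  have horb : ∀ x ∈ N, ∃ k : ↥S, x * z * x⁻¹ = z ^ ((k : (ZMod l)ˣ) : ZMod l).val := by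
    intro x hx
    have hm : x * z * x⁻¹ ∈ Subgroup.zpowers z := mem_of_pow_card (A := A)
      (Subgroup.zpowers_le.2 hzA) ((Subgroup.mem_normalizer_iff.1 hx z).1 hzA)
      (by rw [Nat.card_zpowers, hz, conj_pow, hzl, mul_one, mul_inv_cancel])
    obtain ⟨i, hi⟩ := (Submonoid.mem_powers_iff _ _).1
      ((isOfFinOrder_of_finite z).mem_powers_iff_mem_zpowers.2 hm)
    have hi0 : (i : ZMod l) ≠ 0 := fun e => by
      rw [hmod i 0 (by simpa using e), pow_zero, eq_comm, conj_eq_one_iff] at hi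
      rw [hi, orderOf_one] at hz
      exact hl.ne_one hz.symm
    refine ⟨⟨Units.mk0 _ hi0, x, hx, ?_⟩, ?_⟩ <;>
      · exact hi.symm.trans (hmod _ _ (by simp only [ZMod.natCast_zmod_val, Units.val_mk0]))
  have hS6 : Nat.card ↥S ∣ 6 := by
    have hqu : (Fintype.card K : ZMod l) ≠ 0 := fun e => by
      rw [e, orderOf_zero] at hq6
      exact absurd hq6 (by norm_num)
    have hle : S ≤ Subgroup.zpowers (Units.mk0 _ hqu) := by
      rintro k ⟨x, hx, ex⟩
      obtain ⟨i, hi⟩ := Eig7.aut_bound (rho (θ := θ)) (rho_injective hθ) hq6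
        (fun e => not_three_dvd_nq (K := K) (e ▸ hlN)) hz ex
      refine ⟨-(i : ℤ), ?_⟩
      show Units.mk0 _ hqu ^ (-(i : ℤ)) = k
      rw [zpow_neg, zpow_natCast, inv_eq_iff_mul_eq_one]
      apply Units.ext
      simp only [Units.val_mul, Units.val_pow_eq_pow_val, Units.val_mk0, Units.val_one]
      rw [ZMod.natCast_val, ZMod.cast_id, mul_comm] at hi
      exact hi
    refine (Subgroup.card_dvd_of_le hle).trans ?_
    rw [Nat.card_zpowers, ← orderOf_units, Units.val_mk0, hq6]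
  refine ⟨Nat.card ↥S, hS6, ?_⟩
  have hstab : N ⊓ Subgroup.centralizer {z} = A := inf_eq_right.2 hAN
  rw [card_orbit_conj N z, hstab]
  congr 1
  let f : ↥S → {y : ↥(fixG θ) // ∃ m ∈ N, m * z * m⁻¹ = y} := fun k => ⟨z ^ ((k : (ZMod l)ˣ) : ZMod l).val, k.2⟩
  refine (Nat.card_eq_of_bijective f ⟨fun a b h => ?_, ?_⟩).symm
  · have h' : z ^ ((a : (ZMod l)ˣ) : ZMod l).val = z ^ ((b : (ZMod l)ˣ) : ZMod l).val := congrArg Subtype.val h
    rw [pow_eq_pow_iff_modEq, hz, ← ZMod.natCast_eq_natCast_iff] at h'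
    simp only [ZMod.natCast_val, ZMod.cast_id, id_eq] at h'
    exact Subtype.ext (Units.ext h')
  · rintro ⟨y, m, hm, rfl⟩
    obtain ⟨k, hk⟩ := horb m hm
    exact ⟨k, Subtype.ext hk.symm⟩

theorem rest_mem {y : ↥(fixG θ)} (h : HasBig (nq K) y) :
    ∃ A : Subgroup ↥(fixG θ), IsSinger A ∧ y ∈ A ∧ y ≠ 1 := by
  obtain ⟨l, hl, h3, hly, hlN⟩ := h
  refine ⟨_, ⟨l, y ^ (orderOf y / l), hl, hlN, exists_prime_power hly, rfl⟩,
    Subgroup.mem_centralizer_singleton_iff.2 (Commute.self_pow y _).eq, fun e => ?_⟩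
  rw [e, orderOf_one, Nat.dvd_one] at hly
  exact hl.ne_one hly

theorem orb_subset {A : Subgroup ↥(fixG θ)} (hA : IsSinger A) :
    orb A ⊆ {x : ↥(fixG θ) | HasBig (nq K) x} := by
  rintro x ⟨g, y, ⟨hy, hy1⟩, rfl⟩
  obtain ⟨l, hl, hly⟩ := Nat.exists_prime_and_dvd (fun e => hy1 (orderOf_eq_one_iff.1 e) : orderOf y ≠ 1)
  have hlN := hA.prime_dvd hθ hq8 hl (hly.trans (Subgroup.orderOf_dvd_natCard _ hy))
  exact ⟨l, hl, by have := seven_le hl hlN; omega, by rw [orderOf_conj' hθ]; exact hly, hlN⟩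

theorem orb_disjoint {A B : Subgroup ↥(fixG θ)} (hA : IsSinger A) (hB : IsSinger B) {z : ↥(fixG θ)}
    (hz : z ∈ orb B) (hzA : z ∉ orb A) : Disjoint (orb A) (orb B) := by
  refine Set.disjoint_left.2 fun x hx hx' => hzA ?_
  obtain ⟨g, a, ⟨ha, ha1⟩, rfl⟩ := hx
  obtain ⟨h, b, ⟨hb, hb1⟩, e⟩ := hx'
  obtain ⟨k, c, ⟨hc, hc1⟩, rfl⟩ := hz
  set u := g⁻¹ * h
  have hab : u * b * u⁻¹ = a := by
    calc u * b * u⁻¹ = g⁻¹ * (h * b * h⁻¹) * g := by simp only [u]; group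
      _ = a := by rw [e]; group
  have hcA : u * c * u⁻¹ ∈ A := by
    rw [← hA.cent_eq hθ hq8 ha ha1, Subgroup.mem_centralizer_singleton_iff, ← hab]
    have hcb : c * b = b * c := (hB.comm hθ hq8).2 c hc b hb
    calc u * c * u⁻¹ * (u * b * u⁻¹) = u * (c * b) * u⁻¹ := by group
      _ = u * (b * c) * u⁻¹ := by rw [hcb]
      _ = _ := by group
  exact ⟨k * u⁻¹, _, ⟨hcA, fun g' => hc1 (conj_eq_one_iff.1 g')⟩, by group⟩

/-- the cover gives the full prime powers -/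
theorem nq_dvd_of_cover {L : List (Subgroup ↥(fixG θ))} (hL : ∀ A ∈ L, IsSinger A)
    (hcov : ∀ x : ↥(fixG θ), HasBig (nq K) x → ∃ A ∈ L, x ∈ orb A) :
    nq K ∣ (L.map fun A : Subgroup ↥(fixG θ) => Nat.card ↥A).prod := by
  rw [Nat.dvd_iff_prime_pow_dvd_dvd]
  intro r e hr he
  by_cases he0 : e = 0
  · subst he0; simp
  haveI : Fact r.Prime := ⟨hr⟩
  have hrN : r ∣ nq K := (dvd_pow_self r he0).trans he
  have heG : r ^ e ∣ Nat.card ↥(fixG θ) := by
    rw [card_eq hθ]; exact he.trans (dvd_mul_of_dvd_right (dvd_mul_of_dvd_right (dvd_mul_left _ _) _) _)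
  obtain ⟨z, hz⟩ := exists_prime_orderOf_dvd_card' r ((dvd_pow_self r he0).trans heG)
  obtain ⟨A, hAL, g, y, ⟨hy, hy1⟩, hgy⟩ := hcov z ⟨r, hr, by have := seven_le hr hrN; omega, hz ▸ dvd_rfl, hrN⟩
  have hrA : r ∣ Nat.card ↥A := by
    rw [← hz, ← hgy, orderOf_conj' hθ]
    exact Subgroup.orderOf_dvd_natCard _ hy
  have hco : (r ^ e).Coprime A.index :=
    ((Nat.Prime.coprime_iff_not_dvd hr).2 ((hL A hAL).index_prime hθ hq8 hr hrA)).pow_left _
  rw [← A.card_mul_index] at heG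
  exact (hco.dvd_of_dvd_mul_right heG).trans (List.dvd_prod (List.mem_map.2 ⟨A, hAL, rfl⟩))

/-- the two classes of tori -/
theorem singer_tori (hq : 3 < Fintype.card K) : ∃ A B : Subgroup ↥(fixG θ), IsSinger A ∧ IsSinger B ∧
    Nat.card ↥A + Nat.card ↥B = 2 * Fintype.card K + 2 ∧ Nat.card ↥A * Nat.card ↥B = nq K ∧
    Nat.card ↥(Subgroup.normalizer (A : Set ↥(fixG θ))) = 6 * Nat.card ↥A ∧
    Nat.card ↥(Subgroup.normalizer (B : Set ↥(fixG θ))) = 6 * Nat.card ↥B ∧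
    ∀ x : ↥(fixG θ), HasBig (nq K) x → x ∈ orb A ∨ x ∈ orb B := by
  classical
  set q := Fintype.card K with hqdef
  set R := {x : ↥(fixG θ) | HasBig (nq K) x}
  set G0 := Nat.card ↥(fixG θ)
  have hG : 0 < G0 := Nat.card_pos
  have hrest := card_rest hθ hq8
  rw [← hqdef, Nat.card_coe_set_eq] at hrest
  change 3 * nq K * R.ncard = G0 * (q * q - 2 * q) at hrest
  have hqq : 2 * q ≤ q * q := Nat.mul_le_mul_right q (by omega)
  have hlt : q * q - 2 * q < nq K := by show q * q - 2 * q < q * q - q + 1; omega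
  have hpos : 0 < q * q - 2 * q := by nlinarith [Nat.sub_add_cancel hqq]
  have key : ∀ A : Subgroup ↥(fixG θ), IsSinger A → ∃ n, n ∣ 6 ∧
      Nat.card ↥(Subgroup.normalizer (A : Set ↥(fixG θ))) = n * Nat.card ↥A ∧
      (orb A).ncard * (n * Nat.card ↥A) = G0 * (Nat.card ↥A - 1) ∧ G0 ≤ 7 * (orb A).ncard := by
    intro A hA
    obtain ⟨n, hn, hN⟩ := hA.normalizer_card hθ hq8
    have h := (Subgroup.normalizer (A : Set ↥(fixG θ))).card_mul_index
    have e : (orb A).ncard * (n * Nat.card ↥A) = G0 * (Nat.card ↥A - 1) := by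
      rw [← Nat.card_coe_set_eq, card_orb hθ hq8 hA, ← hN]
      calc _ = Nat.card ↥(Subgroup.normalizer (A : Set ↥(fixG θ))) *
            (Subgroup.normalizer (A : Set ↥(fixG θ))).index * (Nat.card ↥A - 1) := by ring
        _ = _ := by rw [h]
    refine ⟨n, hn, hN, e, ?_⟩
    have h7 := hA.seven_le_card hθ hq8
    have hn6 := Nat.le_of_dvd (by norm_num) hn
    obtain ⟨a, ha⟩ : ∃ a, Nat.card ↥A = a + 1 := ⟨_, (Nat.sub_add_cancel (by omega)).symm⟩
    rw [ha, Nat.add_sub_cancel] at e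
    have ha0 : 0 < a := by omega
    refine Nat.le_of_mul_le_mul_right ?_ ha0
    calc G0 * a = (orb A).ncard * (n * (a + 1)) := e.symm
      _ ≤ (orb A).ncard * (7 * a) := Nat.mul_le_mul_left _ (by nlinarith)
      _ = 7 * (orb A).ncard * a := by ring
  -- R is not empty
  have hRne : R.Nonempty := by
    rw [← Set.ncard_pos]
    by_contra h
    rw [Nat.eq_zero_of_not_pos h, mul_zero] at hrest
    exact (Nat.mul_pos hG hpos).ne hrest
  obtain ⟨z, hz⟩ := hRne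
  obtain ⟨A, hA, hzA, hz1⟩ := rest_mem hθ hq8 hz
  obtain ⟨n, hn, hNA, eA, -⟩ := key A hA
  by_cases hone : ∀ x ∈ R, x ∈ orb A
  · exfalso
    have hRA : R = orb A := Set.Subset.antisymm hone (orb_subset hθ hq8 hA)
    have ha : Nat.card ↥A = nq K := Nat.dvd_antisymm (hA.card_dvd hθ hq8)
      (by simpa using nq_dvd_of_cover hθ hq8 (L := [A]) (by simpa using hA) (fun x hx => ⟨A, by simp, hone x hx⟩))
    rw [ha] at eA
    rw [hRA] at hrest
    have e2 : 3 * (nq K - 1) = n * (q * q - 2 * q) := by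
      refine Nat.eq_of_mul_eq_mul_left hG ?_
      calc G0 * (3 * (nq K - 1)) = 3 * ((orb A).ncard * (n * nq K)) := by rw [eA]; ring
        _ = n * (3 * nq K * (orb A).ncard) := by ring
        _ = G0 * (n * (q * q - 2 * q)) := by rw [hrest]; ring
    have hN1 : nq K - 1 = q * q - q := by
      show Fintype.card K * Fintype.card K - Fintype.card K + 1 - 1 = _
      rw [Nat.add_sub_cancel]
    rw [hN1] at e2
    have hsub1 := Nat.sub_add_cancel (Nat.le_mul_self q)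
    have hsub2 := Nat.sub_add_cancel hqq
    have hn6 := Nat.le_of_dvd (by norm_num) hn
    interval_cases n <;> norm_num at hn <;> nlinarith
  push Not at hone
  obtain ⟨z', hz', hz'A⟩ := hone
  obtain ⟨B, hB, hz'B, hz'1⟩ := rest_mem hθ hq8 hz'
  obtain ⟨m, hm, hNB, eB, -⟩ := key B hB
  have mem_self : ∀ {x : ↥(fixG θ)} {C : Subgroup ↥(fixG θ)}, x ∈ C → x ≠ 1 → x ∈ orb C :=
    fun {x C} h h' => ⟨1, x, ⟨h, h'⟩, by simp⟩
  have dAB : Disjoint (orb A) (orb B) := orb_disjoint hθ hq8 hA hB (mem_self hz'B hz'1) hz'A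
  have hcov : ∀ x ∈ R, x ∈ orb A ∨ x ∈ orb B := by
    intro x hx
    by_contra hne
    push Not at hne
    obtain ⟨C, hC, hxC, hx1⟩ := rest_mem hθ hq8 hx
    have dAC := orb_disjoint hθ hq8 hA hC (mem_self hxC hx1) hne.1
    have dBC := orb_disjoint hθ hq8 hB hC (mem_self hxC hx1) hne.2
    obtain ⟨-, -, -, -, gA⟩ := key A hA
    obtain ⟨-, -, -, -, gB⟩ := key B hB
    obtain ⟨-, -, -, -, gC⟩ := key C hC
    have hsub : (orb A ∪ orb B) ∪ orb C ⊆ R :=
      Set.union_subset (Set.union_subset (orb_subset hθ hq8 hA) (orb_subset hθ hq8 hB)) (orb_subset hθ hq8 hC)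
    have hle := Set.ncard_le_ncard hsub
    rw [Set.ncard_union_eq (Set.disjoint_union_left.2 ⟨dAC, dBC⟩), Set.ncard_union_eq dAB] at hle
    have hh : 21 * nq K * R.ncard = 7 * (G0 * (q * q - 2 * q)) := by rw [← hrest]; ring
    have hh2 : 9 * nq K * G0 ≤ 21 * nq K * R.ncard := by
      calc 9 * nq K * G0 = 3 * nq K * (G0 + G0 + G0) := by ring
        _ ≤ 3 * nq K * (7 * R.ncard) := Nat.mul_le_mul_left _ (by omega)
        _ = _ := by ring
    nlinarith [Nat.mul_lt_mul_of_pos_left hlt hG]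
  have hRAB : R = orb A ∪ orb B :=
    Set.Subset.antisymm hcov (Set.union_subset (orb_subset hθ hq8 hA) (orb_subset hθ hq8 hB))
  have hab : Nat.card ↥A * Nat.card ↥B = nq K := by
    refine Nat.dvd_antisymm ?_ (by
      simpa using nq_dvd_of_cover hθ hq8 (L := [A, B]) (by simp [hA, hB]) (fun x hx => by
        rcases hcov x hx with h | h
        · exact ⟨A, by simp, h⟩
        · exact ⟨B, by simp, h⟩))
    refine Nat.Coprime.mul_dvd_of_dvd_of_dvd (Nat.coprime_of_dvd fun r hr h1 h2 => ?_)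
      (hA.card_dvd hθ hq8) (hB.card_dvd hθ hq8)
    haveI : Fact r.Prime := ⟨hr⟩
    obtain ⟨⟨w, hw⟩, hw'⟩ := exists_prime_orderOf_dvd_card' r h2
    rw [Subgroup.orderOf_mk] at hw'
    have hw1 : w ≠ 1 := fun e => hr.ne_one (by rw [← hw', e, orderOf_one])
    obtain ⟨g, hg'⟩ := exists_conj_mem A (hA.index_prime hθ hq8 hr h1) hw'
    have hwA : w ∈ orb A := ⟨g, _, ⟨hg', fun e => hw1 (by
      calc w = g * (g⁻¹ * w * g) * g⁻¹ := by group
        _ = 1 := by rw [e]; group)⟩, by group⟩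
    exact Set.disjoint_left.1 dAB hwA (mem_self hw hw1)
  rw [hRAB, Set.ncard_union_eq dAB] at hrest
  obtain ⟨a, ha⟩ : ∃ a, Nat.card ↥A = a + 1 := ⟨_, (Nat.sub_add_cancel Nat.card_pos).symm⟩
  obtain ⟨b, hb⟩ : ∃ b, Nat.card ↥B = b + 1 := ⟨_, (Nat.sub_add_cancel Nat.card_pos).symm⟩
  rw [ha, Nat.add_sub_cancel] at eA
  rw [hb, Nat.add_sub_cancel] at eB
  rw [ha, hb] at hab
  have e2 : 3 * (a * (m * (b + 1)) + b * (n * (a + 1))) = n * m * (q * q - 2 * q) := by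
    refine Nat.eq_of_mul_eq_mul_left hG ?_
    calc G0 * (3 * (a * (m * (b + 1)) + b * (n * (a + 1))))
        = 3 * ((G0 * a) * (m * (b + 1)) + (G0 * b) * (n * (a + 1))) := by ring
      _ = 3 * (((orb A).ncard * (n * (a + 1))) * (m * (b + 1)) +
            ((orb B).ncard * (m * (b + 1))) * (n * (a + 1))) := by rw [eA, eB]
      _ = n * m * (3 * nq K * ((orb A).ncard + (orb B).ncard)) := by rw [← hab]; ring
      _ = G0 * (n * m * (q * q - 2 * q)) := by rw [hrest]; ring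
  have h7a : 6 ≤ a := by have := hA.seven_le_card hθ hq8; omega
  have h7b : 6 ≤ b := by have := hB.seven_le_card hθ hq8; omega
  have hltab : q * q - 2 * q < (a + 1) * (b + 1) := hab ▸ hlt
  have hn6 := Nat.le_of_dvd (by norm_num) hn
  have hm6 := Nat.le_of_dvd (by norm_num) hm
  obtain ⟨rfl, rfl, hsum⟩ := two_classes_arith hn hm (Nat.le_of_dvd (by norm_num) hn) (Nat.le_of_dvd (by norm_num) hm)
    h7a h7b hqq hab hltab e2
  exact ⟨A, B, hA, hB, by rw [ha, hb]; exact hsum, by rw [ha, hb]; exact hab, hNA, hNB, fun x hx => hcov x hx⟩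

/-- the tori with their orders -/
theorem singer_tori_r (hq : 3 < Fintype.card K) {r : ℕ} (hr : r * r = 3 * Fintype.card K) :
    ∃ A B : Subgroup ↥(fixG θ), IsSinger A ∧ IsSinger B ∧
    Nat.card ↥A = Fintype.card K - r + 1 ∧ Nat.card ↥B = Fintype.card K + r + 1 ∧
    Nat.card ↥(Subgroup.normalizer (A : Set ↥(fixG θ))) = 6 * Nat.card ↥A ∧
    Nat.card ↥(Subgroup.normalizer (B : Set ↥(fixG θ))) = 6 * Nat.card ↥B ∧
    ∀ x : ↥(fixG θ), HasBig (nq K) x → x ∈ orb A ∨ x ∈ orb B := by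
  obtain ⟨A, B, hA, hB, hsum, hprod, hNA, hNB, hcov⟩ := singer_tori hθ hq8 hq
  set q := Fintype.card K with hqdef
  have hrq : r ≤ q := by
    by_contra h
    push Not at h
    have : 3 * q < r * r := by
      calc 3 * q < (q + 1) * (q + 1) := by nlinarith
        _ ≤ r * r := Nat.mul_le_mul h h
    omega
  have hN : nq K + q = q * q + 1 := by
    show q * q - q + 1 + q = _
    have := Nat.le_mul_self q
    omega
  have hz : ((Nat.card ↥A : ℤ) - Nat.card ↥B) * ((Nat.card ↥A : ℤ) - Nat.card ↥B) = (2 * r) * (2 * r) := by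
    have h1 : (Nat.card ↥A : ℤ) + Nat.card ↥B = 2 * q + 2 := by exact_mod_cast hsum
    have h2 : (Nat.card ↥A : ℤ) * Nat.card ↥B = nq K := by exact_mod_cast hprod
    have h3 : (nq K : ℤ) + q = q * q + 1 := by exact_mod_cast hN
    have h4 : (r : ℤ) * r = 3 * q := by exact_mod_cast hr
    linear_combination ((Nat.card ↥A : ℤ) + Nat.card ↥B + 2 * q + 2) * h1 - 4 * h2 - 4 * h3 - 4 * h4
  rcases mul_self_eq_mul_self_iff.1 hz with h | h
  · exact ⟨B, A, hB, hA, by omega, by omega, hNB, hNA, fun x hx => (hcov x hx).symm⟩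
  · exact ⟨A, B, hA, hB, by omega, by omega, hNA, hNB, hcov⟩

/-- the normaliser of a subgroup of a Singer torus -/
theorem IsSinger.normalizer_sub {A : Subgroup ↥(fixG θ)} (hA : IsSinger A) {A₀ : Subgroup ↥(fixG θ)}
    (h : A₀ ≤ A) (h1 : A₀ ≠ ⊥) :
    Subgroup.normalizer (A₀ : Set ↥(fixG θ)) = Subgroup.normalizer (A : Set ↥(fixG θ)) := by
  refine le_antisymm (fun n hn => ?_) fun n hn => ?_
  · obtain ⟨⟨y, hy⟩, hy1⟩ := Subgroup.ne_bot_iff_exists_ne_one.1 h1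
    exact hA.sep hθ hq8 (h hy) (fun e => hy1 (Subtype.ext e)) (h ((Subgroup.mem_normalizer_iff.1 hn y).1 hy))
  · haveI := (hA.comm hθ hq8).1
    refine mem_normalizer_of_conj fun x hx => mem_of_pow_card h ((Subgroup.mem_normalizer_iff.1 hn x).1 (h hx)) ?_
    rw [conj_pow, orderOf_dvd_iff_pow_eq_one.1 (Subgroup.orderOf_dvd_natCard A₀ hx), mul_one, mul_inv_cancel]

omit hq8 in
/-- hg as a homomorphism -/
noncomputable def hgHom : Kˣ →* ↥(fixG θ) where
  toFun := hg hθ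
  map_one' := Subtype.ext hh_one
  map_mul' a b := Subtype.ext (hh_mul a b).symm

omit hq8 in
theorem hgHom_injective : Function.Injective (hgHom hθ) :=
  fun _ _ h => hh_injective (congrArg Subtype.val h)

/-- the odd part of H¹ -/
theorem split_torus (hq : 3 < Fintype.card K) : ∃ A : Subgroup ↥(fixG θ), IsCyclic ↥A ∧
    Nat.card ↥A = (Fintype.card K - 1) / 2 ∧
    Nat.card ↥(Subgroup.normalizer (A : Set ↥(fixG θ))) = 2 * (Fintype.card K - 1) ∧
    ∀ A₀ ≤ A, A₀ ≠ ⊥ → Subgroup.normalizer (A₀ : Set ↥(fixG θ)) = Subgroup.normalizer (A : Set ↥(fixG θ)) := by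
  classical
  obtain ⟨k, hk, hkodd⟩ := half_pred_odd hθ hq8
  set A := ((powMonoidHom 2 : Kˣ →* Kˣ).range).map (hgHom hθ)
  haveI : IsCyclic ↥A :=
    isCyclic_of_surjective ((hgHom hθ).subgroupMap _) ((hgHom hθ).subgroupMap_surjective _)
  have hcard : Nat.card ↥A = k := by
    rw [Subgroup.card_map_of_injective (hgHom_injective hθ)]
    have h := ((powMonoidHom 2 : Kˣ →* Kˣ).range).card_mul_index
    rw [IsCyclic.index_powMonoidHom_range, Nat.card_eq_fintype_card (α := Kˣ), Fintype.card_units, hk,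
      Nat.gcd_mul_right_left] at h
    omega
  have hAH : A ≤ Hf θ := by
    rintro x ⟨b, -, rfl⟩
    exact (mem_Hf hθ).2 ⟨b, rfl⟩
  have hsq : ∀ y ∈ A, y ≠ 1 → y * y ≠ 1 := fun y hy hy1 e => hy1 (by
    have hpk : y ^ k = 1 := hcard ▸ orderOf_dvd_iff_pow_eq_one.1 (Subgroup.orderOf_dvd_natCard A hy)
    rw [← hpk, ← Nat.div_add_mod k 2, hkodd, pow_succ, pow_mul, pow_two, e, one_pow, one_mul])
  have key : ∀ A₀ ≤ A, A₀ ≠ ⊥ → Subgroup.normalizer (A₀ : Set ↥(fixG θ)) = Nf θ := by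
    intro A₀ hle hne
    refine le_antisymm (fun n hn => ?_) fun n hn => ?_
    · obtain ⟨⟨y, hy⟩, hy1⟩ := Subgroup.ne_bot_iff_exists_ne_one.1 hne
      exact sep_Hf hθ (hAH (hle hy)) (hsq y (hle hy) fun e => hy1 (Subtype.ext e))
        (hAH (hle ((Subgroup.mem_normalizer_iff.1 hn y).1 hy)))
    · haveI := Hf_cyclic hθ
      refine mem_normalizer_of_conj fun x hx => mem_of_pow_card (hle.trans hAH) (Nf_conj hθ hn (hAH (hle hx))) ?_
      rw [conj_pow, orderOf_dvd_iff_pow_eq_one.1 (Subgroup.orderOf_dvd_natCard A₀ hx), mul_one, mul_inv_cancel]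
  have hA1 : A ≠ ⊥ := fun e => by
    rw [e, Subgroup.card_bot] at hcard
    omega
  refine ⟨A, inferInstance, by rw [hcard]; omega, by rw [key A le_rfl hA1, card_Nf hθ], fun A₀ h h' => ?_⟩
  rw [key A₀ h h', key A le_rfl hA1]

/-- the odd part of the nonsplit torus -/
theorem circle_torus (hq : 3 < Fintype.card K) : ∃ A : Subgroup ↥(fixG θ), IsCyclic ↥A ∧
    Nat.card ↥A = (Fintype.card K + 1) / 4 ∧
    Nat.card ↥(Subgroup.normalizer (A : Set ↥(fixG θ))) = 6 * (Fintype.card K + 1) ∧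
    ∀ A₀ ≤ A, A₀ ≠ ⊥ → Subgroup.normalizer (A₀ : Set ↥(fixG θ)) = Subgroup.normalizer (A : Set ↥(fixG θ)) := by
  have hA1 : A2 hθ ≠ ⊥ := fun e => by
    have := card_A2 hθ hq8
    rw [e, Subgroup.card_bot] at this
    have := four_kA hq8
    omega
  refine ⟨A2 hθ, A2_cyclic hθ hq8, card_A2 hθ hq8, ?_, fun A₀ h h' => ?_⟩
  · rw [normalizer_A2_sub hθ hq8 le_rfl hA1, card_NV hθ hq8]
  · rw [normalizer_A2_sub hθ hq8 h h', normalizer_A2_sub hθ hq8 le_rfl hA1]

omit hq8 in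
theorem exists_pow_order {g : ↥(fixG θ)} {d : ℕ} (h : d ∣ orderOf g) : ∃ x : ↥(fixG θ), orderOf x = d :=
  ⟨g ^ (orderOf g / d), orderOf_pow_orderOf_div (orderOf_pos g).ne' h⟩

/-- the orders of elements -/
theorem element_orders (hq : 3 < Fintype.card K) {r : ℕ} (hr : r * r = 3 * Fintype.card K) (d : ℕ) :
    (∃ g : ↥(fixG θ), orderOf g = d) ↔
      (d ∣ 6 ∨ d ∣ 9 ∨ d ∣ Fintype.card K - 1 ∨ d ∣ (Fintype.card K + 1) / 2 ∨
        d ∣ Fintype.card K - r + 1 ∨ d ∣ Fintype.card K + r + 1) := by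
  obtain ⟨A, B, hA, hB, hcA, hcB, -, -, hcov⟩ := singer_tori_r hθ hq8 hq hr
  have h2k : (Fintype.card K + 1) / 2 = 2 * kA K := by have := four_kA hq8; omega
  constructor
  · rintro ⟨g, rfl⟩
    by_cases hg1 : g = 1
    · exact Or.inl (by rw [hg1, orderOf_one]; exact one_dvd _)
    rcases classify hθ hq8 hg1 with ⟨-, h⟩ | ⟨h, -⟩ | h | h | h
    · exact Or.inr (Or.inl (orderOf_dvd_of_pow_eq_one h))
    · exact Or.inl (orderOf_dvd_of_pow_eq_one h)
    · exact Or.inr (Or.inr (Or.inl (orderOf_dvd_of_pow_eq_one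
        (conjSet_pow hθ (fun y (hy : y ∈ Hf θ ∧ y * y ≠ 1) => pow_Hf hθ hy.1) (bigQ1_conj hθ h)))))
    · refine Or.inr (Or.inr (Or.inr (Or.inl ?_)))
      rw [h2k]
      exact orderOf_dvd_of_pow_eq_one (conjSet_pow hθ (fun y (hy : y ∈ TT hθ ∧ y * y ≠ 1) => pow_TT hθ hq8 hy.1)
        (bigQ2_conj hθ hq8 h))
    · rcases hcov g h with ⟨x, y, ⟨hy, -⟩, rfl⟩ | ⟨x, y, ⟨hy, -⟩, rfl⟩ <;> rw [orderOf_conj' hθ]
      · exact Or.inr (Or.inr (Or.inr (Or.inr (Or.inl (hcA ▸ Subgroup.orderOf_dvd_natCard _ hy)))))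
      · exact Or.inr (Or.inr (Or.inr (Or.inr (Or.inr (hcB ▸ Subgroup.orderOf_dvd_natCard _ hy)))))
  · have gen : ∀ C : Subgroup ↥(fixG θ), IsCyclic ↥C → d ∣ Nat.card ↥C → ∃ g : ↥(fixG θ), orderOf g = d := by
      intro C hC hd
      haveI := hC
      obtain ⟨⟨g, hg'⟩, hgen⟩ := IsCyclic.exists_generator (α := ↥C)
      refine exists_pow_order hθ (g := g) ?_
      rwa [← orderOf_eq_card_of_forall_mem_zpowers hgen, Subgroup.orderOf_mk] at hd
    have hu : orderOf (rg hθ (0 : K) 1 0) = 3 := by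
      haveI : Fact (Nat.Prime 3) := ⟨Nat.prime_three⟩
      refine orderOf_eq_prime (Subtype.ext ((ru_cube_eq_one hθ).2 rfl)) fun e => ?_
      exact one_ne_zero (ru_injective ((congrArg Subtype.val e).trans (ru_zero (θ := θ)).symm)).2.1
    rintro (h | h | h | h | h | h)
    · refine exists_pow_order hθ (g := a0 hθ * rg hθ 0 1 0) ?_
      haveI : Fact (Nat.Prime 2) := ⟨Nat.prime_two⟩
      have ha : orderOf (a0 hθ) = 2 := orderOf_eq_prime (by rw [pow_two, a0_sq]) (a0_ne_one hθ)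
      have hc : Commute (a0 hθ) (rg hθ 0 1 0) := ((mem_C0_iff hθ).1 (ru_u_mem hθ 1)).symm
      rw [hc.orderOf_mul_eq_mul_orderOf_of_coprime (by rw [ha, hu]; norm_num), ha, hu]
      exact h
    · refine exists_pow_order hθ (g := rg hθ 1 0 0) ?_
      haveI : Fact (Nat.Prime 3) := ⟨Nat.prime_three⟩
      rw [orderOf_eq_prime_pow (p := 3) (n := 1)]
      · exact h
      · intro e
        rw [pow_one] at e
        exact one_ne_zero ((ru_cube_eq_one hθ).1 (congrArg Subtype.val e))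
      · exact Uf_pow hθ ((mem_Uf hθ).2 ⟨1, 0, 0, rfl⟩)
    · exact gen _ (Hf_cyclic hθ) (card_Hf' hθ ▸ h)
    · exact gen _ (LT_cyclic hθ hq8) (by rw [card_LT hθ hq8, ← h2k]; exact h)
    · exact gen A (hA.comm hθ hq8).1 (hcA ▸ h)
    · exact gen B (hB.comm hθ hq8).1 (hcB ▸ h)

end CfsgLib.ReeG2
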