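import Mathlib.LinearAlgebra.Eigenspace.Basic
import Mathlib.LinearAlgebra.Eigenspace.Triangularizable
import Mathlib.LinearAlgebra.Matrix.ToLin
import Mathlib.FieldTheory.IsAlgClosed.AlgebraicClosure
import Mathlib.FieldTheory.Finite.Basic
import Mathlib.RingTheory.IntegralDomain
import Mathlib.Tactic

/-!
Elements of prime order l of a seven-dimensional linear group, where q has order six modulo l.
-/

set_option autoImplicit false
set_option linter.unusedSectionVars false

namespace CfsgLib.Eig7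

open scoped Matrix

variable {K : Type*} [Field K] [Fintype K]

/-- extension of scalars -/
noncomputable abbrev ext7 (M : Matrix (Fin 7) (Fin 7) K) : Matrix (Fin 7) (Fin 7) (AlgebraicClosure K) :=
  M.map (algebraMap K (AlgebraicClosure K))

theorem ext7_mul (A B : Matrix (Fin 7) (Fin 7) K) : ext7 (A * B) = ext7 A * ext7 B := Matrix.map_mul

theorem ext7_one : ext7 (1 : Matrix (Fin 7) (Fin 7) K) = 1 :=
  Matrix.map_one _ (map_zero _) (map_one _)

theorem ext7_pow (A : Matrix (Fin 7) (Fin 7) K) (n : ℕ) : ext7 (A ^ n) = ext7 A ^ n :=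
  map_pow (RingHom.mapMatrix (algebraMap K (AlgebraicClosure K))) A n

theorem ext7_inj : Function.Injective (ext7 (K := K)) :=
  Matrix.map_injective (algebraMap K (AlgebraicClosure K)).injective

/-- the Frobenius on vectors -/
noncomputable def frobVec : (Fin 7 → AlgebraicClosure K) →+ (Fin 7 → AlgebraicClosure K) where
  toFun v j := FiniteField.frobeniusAlgEquivOfAlgebraic K (AlgebraicClosure K) (v j)
  map_zero' := by funext j; exact map_zero _
  map_add' a b := by funext j; exact map_add _ _ _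

theorem frob_apply (a : AlgebraicClosure K) :
    FiniteField.frobeniusAlgEquivOfAlgebraic K (AlgebraicClosure K) a = a ^ Fintype.card K := by
  rw [FiniteField.coe_frobeniusAlgEquivOfAlgebraic]

theorem frobVec_smul (a : AlgebraicClosure K) (v : Fin 7 → AlgebraicClosure K) :
    frobVec (a • v) = (a ^ Fintype.card K) • frobVec v := by
  funext j
  show FiniteField.frobeniusAlgEquivOfAlgebraic K (AlgebraicClosure K) (a * v j) =
    a ^ Fintype.card K * FiniteField.frobeniusAlgEquivOfAlgebraic K (AlgebraicClosure K) (v j)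
  rw [map_mul, frob_apply a]

theorem frobVec_eq_zero {v : Fin 7 → AlgebraicClosure K} (h : frobVec v = 0) : v = 0 := by
  funext j
  exact (map_eq_zero_iff _ (FiniteField.frobeniusAlgEquivOfAlgebraic K (AlgebraicClosure K)).injective).1
    (congrFun h j)

theorem frobVec_mulVec (M : Matrix (Fin 7) (Fin 7) K) (v : Fin 7 → AlgebraicClosure K) :
    frobVec (ext7 M *ᵥ v) = ext7 M *ᵥ frobVec v := by
  funext j
  show FiniteField.frobeniusAlgEquivOfAlgebraic K (AlgebraicClosure K) (∑ k, ext7 M j k * v k) = _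
  rw [map_sum]
  refine Finset.sum_congr rfl fun k _ => ?_
  simp only [map_mul, Matrix.map_apply, AlgEquiv.commutes]
  rfl

theorem frobVec_indep {n : ℕ} {v : Fin n → Fin 7 → AlgebraicClosure K}
    (h : LinearIndependent (AlgebraicClosure K) v) :
    LinearIndependent (AlgebraicClosure K) (frobVec ∘ v) :=
  h.map_of_surjective_injective (fun a => FiniteField.frobeniusAlgEquivOfAlgebraic K (AlgebraicClosure K) a)
    frobVec (AlgEquiv.surjective _) (fun _ => frobVec_eq_zero)
    (fun a v => by rw [frobVec_smul, frob_apply])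

/-- iterates of the Frobenius on vectors -/
noncomputable def frobIt (i : ℕ) (v : Fin 7 → AlgebraicClosure K) : Fin 7 → AlgebraicClosure K :=
  (frobVec (K := K))^[i] v

theorem frobIt_eig {M : Matrix (Fin 7) (Fin 7) K} {v : Fin 7 → AlgebraicClosure K} {a : AlgebraicClosure K}
    (h : ext7 M *ᵥ v = a • v) (i : ℕ) :
    ext7 M *ᵥ frobIt i v = a ^ (Fintype.card K ^ i) • frobIt i v := by
  induction i with
  | zero => simpa [frobIt] using h
  | succ i ih =>
      rw [frobIt, Function.iterate_succ_apply']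
      change ext7 M *ᵥ frobVec (frobIt i v) = _
      rw [← frobVec_mulVec, ih, frobVec_smul, ← pow_mul, ← pow_succ]
      rfl

theorem frobIt_ne_zero {v : Fin 7 → AlgebraicClosure K} (h : v ≠ 0) (i : ℕ) : frobIt i v ≠ 0 := by
  induction i with
  | zero => simpa [frobIt] using h
  | succ i ih =>
      rw [frobIt, Function.iterate_succ_apply']
      exact fun e => ih (frobVec_eq_zero e)

theorem frobIt_pair {v w : Fin 7 → AlgebraicClosure K}
    (h : LinearIndependent (AlgebraicClosure K) ![v, w]) (i : ℕ) :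
    LinearIndependent (AlgebraicClosure K) ![frobIt i v, frobIt i w] := by
  induction i with
  | zero => simpa [frobIt] using h
  | succ i ih =>
      have := frobVec_indep ih
      convert this using 1
      funext j
      fin_cases j <;> simp [frobIt, Function.iterate_succ_apply']

/-- vectors in distinct eigenspaces with sum zero are zero -/
theorem eq_zero_of_sum {ι L V : Type*} [Fintype ι] [Field L] [AddCommGroup V] [Module L V]
    (f : Module.End L V) (a : ι → L) (ha : Function.Injective a) (u : ι → V) (hu : ∀ i, f (u i) = a i • u i)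
    (h : ∑ i, u i = 0) : ∀ i, u i = 0 := by
  classical
  by_contra hne
  push Not at hne
  obtain ⟨i₀, hi₀⟩ := hne
  have hli := f.eigenvectors_linearIndependent' (fun i : {i // u i ≠ 0} => a i.1)
    (ha.comp Subtype.val_injective) (fun i => u i.1) fun i =>
    ⟨Module.End.mem_eigenspace_iff.2 (hu _), i.2⟩
  refine one_ne_zero (α := L) (Fintype.linearIndependent_iff.1 hli (fun _ => 1) ?_ ⟨i₀, hi₀⟩)
  simp only [one_smul]
  rw [← Finset.sum_subtype (Finset.univ.filter fun i => u i ≠ 0) (by simp) u, Finset.sum_filter_ne_zero]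
  exact h

section

variable [CharP K 3] {l : ℕ} [Fact l.Prime]

theorem exists_eig (hl3 : l ≠ 3) {M : Matrix (Fin 7) (Fin 7) K} (hMl : M ^ l = 1) (hM : M ≠ 1) :
    ∃ (a : AlgebraicClosure K) (v : Fin 7 → AlgebraicClosure K),
      v ≠ 0 ∧ ext7 M *ᵥ v = a • v ∧ a ^ l = 1 ∧ a ≠ 1 := by
  set f : Module.End (AlgebraicClosure K) (Fin 7 → AlgebraicClosure K) := Matrix.mulVecLin (ext7 M) with hf
  set W := LinearMap.range (f - 1) with hW
  have hinv : ∀ x ∈ W, f x ∈ W := by
    rintro x ⟨y, rfl⟩
    exact ⟨f y, by simp [map_sub]⟩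
  haveI : Nontrivial W := by
    rw [Submodule.nontrivial_iff_ne_bot, hW, Ne, LinearMap.range_eq_bot, sub_eq_zero]
    intro h
    refine hM (ext7_inj ?_)
    rw [ext7_one]
    exact Matrix.ext_of_mulVec_single fun i => by
      rw [← Matrix.mulVecLin_apply, ← hf, h, Matrix.one_mulVec]; rfl
  obtain ⟨a, ha⟩ := Module.End.exists_eigenvalue (f.restrict hinv)
  obtain ⟨⟨v, hv⟩, hve, hv0⟩ := ha.exists_hasEigenvector
  have he : f v = a • v := congrArg Subtype.val (Module.End.mem_eigenspace_iff.1 hve)
  have hv0' : v ≠ 0 := fun h => hv0 (Subtype.ext h)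
  have hpow : ∀ n : ℕ, ext7 (M ^ n) *ᵥ v = a ^ n • v := by
    intro n
    induction n with
    | zero => rw [pow_zero, ext7_one, Matrix.one_mulVec, pow_zero, one_smul]
    | succ n ih =>
        rw [pow_succ, ext7_mul, ← Matrix.mulVec_mulVec, show ext7 M *ᵥ v = a • v from he,
          Matrix.mulVec_smul, ih, smul_smul, pow_succ']
  refine ⟨a, v, hv0', he, ?_, ?_⟩
  · have h := hpow l
    rw [hMl, ext7_one, Matrix.one_mulVec] at h
    have h2 : (a ^ l - 1) • v = 0 := by rw [sub_smul, one_smul, ← h, sub_self]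
    exact sub_eq_zero.1 ((smul_eq_zero.1 h2).resolve_right hv0')
  · rintro rfl
    rw [one_smul] at he
    obtain ⟨x, hx⟩ := hv
    have hit : ∀ n : ℕ, ext7 (M ^ n) *ᵥ x = x + (n : AlgebraicClosure K) • v := by
      intro n
      induction n with
      | zero => simp [ext7_one]
      | succ n ih =>
          rw [pow_succ', ext7_mul, ← Matrix.mulVec_mulVec, ih, Matrix.mulVec_add, Matrix.mulVec_smul,
            show ext7 M *ᵥ v = v from he,
            show ext7 M *ᵥ x = x + v by rw [← hx]; simp [hf], Nat.cast_succ, add_smul, one_smul]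
          abel
    have h := hit l
    rw [hMl, ext7_one, Matrix.one_mulVec, left_eq_add] at h
    haveI : CharP (AlgebraicClosure K) 3 := charP_of_injective_algebraMap' K 3
    rcases smul_eq_zero.1 h with h | h
    · rw [CharP.cast_eq_zero_iff (AlgebraicClosure K) 3] at h
      exact hl3 ((Nat.prime_dvd_prime_iff_eq Nat.prime_three Fact.out).1 h).symm
    · exact hv0' h

variable {M : Matrix (Fin 7) (Fin 7) K} {a : AlgebraicClosure K} {v : Fin 7 → AlgebraicClosure K}
  (hq : orderOf (Fintype.card K : ZMod l) = 6) (hal : a ^ l = 1) (ha1 : a ≠ 1) (hv : v ≠ 0)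
  (he : ext7 M *ᵥ v = a • v)
include hq hal ha1 hv he

omit hq hv he in
theorem pow_inj_l {m n : ℕ} (h : a ^ m = a ^ n) : (m : ZMod l) = n := by
  have ho : orderOf a = l := orderOf_eq_prime hal ha1
  have hf : IsOfFinOrder a := orderOf_pos_iff.1 (ho ▸ (Fact.out : l.Prime).pos)
  rw [ZMod.natCast_eq_natCast_iff, ← ho]
  exact hf.pow_eq_pow_iff_modEq.1 h

theorem conj_inj : Function.Injective fun i : Fin 6 => a ^ (Fintype.card K ^ (i : ℕ)) := by
  intro i j h
  have h' := pow_inj_l hal ha1 h
  push_cast at h'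
  exact Fin.ext (pow_injOn_Iio_orderOf (by rw [Set.mem_Iio, hq]; exact i.2)
    (by rw [Set.mem_Iio, hq]; exact j.2) h')

theorem conj_indep : LinearIndependent (AlgebraicClosure K) fun i : Fin 6 => frobIt (K := K) i v :=
  Module.End.eigenvectors_linearIndependent' (Matrix.mulVecLin (ext7 M)) _
    (conj_inj hq hal ha1 hv he) _ fun i =>
    ⟨Module.End.mem_eigenspace_iff.2 (frobIt_eig he i), frobIt_ne_zero hv i⟩

theorem eig_line {w : Fin 7 → AlgebraicClosure K} (hw : ext7 M *ᵥ w = a • w) :
    ∃ c : AlgebraicClosure K, w = c • v := by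
  classical
  by_contra hne
  push Not at hne
  have hpair : LinearIndependent (AlgebraicClosure K) ![v, w] := by
    rw [LinearIndependent.pair_iff]
    intro s t hst
    by_cases ht : t = 0
    · subst ht
      rw [zero_smul, add_zero] at hst
      exact ⟨(smul_eq_zero.1 hst).resolve_right hv, rfl⟩
    · exact absurd (show w = (-(s / t)) • v by
        rw [neg_smul, div_eq_inv_mul, mul_smul, eq_neg_of_add_eq_zero_left hst, smul_neg, neg_neg,
          inv_smul_smul₀ ht]) (hne _)
  let U : Fin 6 × Fin 2 → Fin 7 → AlgebraicClosure K := fun p => ![frobIt p.1 v, frobIt p.1 w] p.2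
  have hU : LinearIndependent (AlgebraicClosure K) U := by
    rw [Fintype.linearIndependent_iff]
    intro g hg p
    rw [Fintype.sum_prod_type] at hg
    have hz := eq_zero_of_sum (Matrix.mulVecLin (ext7 M)) _ (conj_inj hq hal ha1 hv he)
      (fun i => ∑ j, g (i, j) • U (i, j)) (fun i => by
        rw [map_sum, Finset.smul_sum]
        refine Finset.sum_congr rfl fun j _ => ?_
        rw [map_smul, smul_comm]
        congr 1
        fin_cases j
        · exact frobIt_eig he i
        · exact frobIt_eig hw i) hg p.1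
    exact Fintype.linearIndependent_iff.1 (frobIt_pair hpair p.1) (fun j => g (p.1, j)) hz p.2
  have := hU.fintype_card_le_finrank
  simp at this

theorem eig_other {μ : AlgebraicClosure K} {u : Fin 7 → AlgebraicClosure K} (hu0 : u ≠ 0)
    (hu : ext7 M *ᵥ u = μ • u) (hμl : μ ^ l = 1) (hμ : μ ≠ 1) :
    ∃ i : Fin 6, μ = a ^ (Fintype.card K ^ (i : ℕ)) := by
  by_contra hne
  push Not at hne
  have hi2 := conj_inj hq hμl hμ hu0 hu
  have hdis : ∀ i j : Fin 6, a ^ (Fintype.card K ^ (i : ℕ)) ≠ μ ^ (Fintype.card K ^ (j : ℕ)) := by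
    intro i j h
    have hq6 : ((Fintype.card K : ℕ) : ZMod l) ^ 6 = 1 := hq ▸ pow_orderOf_eq_one _
    refine hne ⟨((i : ℕ) + (6 - j)) % 6, Nat.mod_lt _ (by norm_num)⟩ ?_
    have hmod : (((Fintype.card K) ^ (((i : ℕ) + (6 - j)) % 6) : ℕ) : ZMod l) =
        ((Fintype.card K ^ (i : ℕ) * Fintype.card K ^ (6 - (j : ℕ)) : ℕ) : ZMod l) := by
      push_cast
      rw [← pow_add, pow_mod_orderOf_aux hq6]
    have h1 : a ^ (Fintype.card K ^ (((i : ℕ) + (6 - j)) % 6)) =
        a ^ (Fintype.card K ^ (i : ℕ) * Fintype.card K ^ (6 - (j : ℕ))) := by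
      rw [pow_eq_pow_mod _ hal, (ZMod.natCast_eq_natCast_iff' _ _ _).1 hmod, ← pow_eq_pow_mod _ hal]
    show μ = a ^ (Fintype.card K ^ (((i : ℕ) + (6 - j)) % 6))
    rw [h1, pow_mul, h, ← pow_mul, ← pow_add, show (j : ℕ) + (6 - j) = 6 by omega]
    rw [pow_eq_pow_mod _ hμl, show Fintype.card K ^ 6 % l = 1 % l from
      (ZMod.natCast_eq_natCast_iff' _ _ _).1 (by push_cast; exact hq6), ← pow_eq_pow_mod _ hμl, pow_one]
  have hli := Module.End.eigenvectors_linearIndependent' (Matrix.mulVecLin (ext7 M))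
    (Sum.elim (fun i : Fin 6 => a ^ (Fintype.card K ^ (i : ℕ)))
      fun i : Fin 6 => μ ^ (Fintype.card K ^ (i : ℕ)))
    (Function.Injective.sumElim (conj_inj hq hal ha1 hv he) hi2 hdis)
    (Sum.elim (fun i => frobIt (K := K) i v) fun i => frobIt (K := K) i u) (by
      rintro (i | i)
      · exact ⟨Module.End.mem_eigenspace_iff.2 (frobIt_eig he i), frobIt_ne_zero hv i⟩
      · exact ⟨Module.End.mem_eigenspace_iff.2 (frobIt_eig hu i), frobIt_ne_zero hu0 i⟩)
  have := hli.fintype_card_le_finrank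
  simp at this
where
  pow_mod_orderOf_aux {x : ZMod l} (h : x ^ 6 = 1) {n : ℕ} : x ^ (n % 6) = x ^ n :=
    (pow_eq_pow_mod n h).symm

omit hal ha1 in
theorem fix_eq_one (hal : a ^ l = 1) (ha1 : a ≠ 1) {g : Matrix (Fin 7) (Fin 7) K} (hcom : g * M = M * g)
    (hgv : ext7 g *ᵥ v = v) {n : ℕ} (hn : g ^ n = 1) (h3 : ¬ 3 ∣ n)
    (hn' : n.Coprime (Fintype.card K - 1)) : g = 1 := by
  classical
  have hfix : ∀ i : Fin 6, ext7 g *ᵥ frobIt i v = frobIt i v := fun i => by
    have := frobIt_eig (M := g) (a := 1) (v := v) (by rw [hgv, one_smul]) i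
    simpa using this
  set A := Matrix.mulVecLin (ext7 g - 1) with hA
  have hker : 6 ≤ Module.finrank (AlgebraicClosure K) (LinearMap.ker A) := by
    have hs : Submodule.span (AlgebraicClosure K) (Set.range fun i : Fin 6 => frobIt (K := K) i v) ≤
        LinearMap.ker A := by
      rw [Submodule.span_le]
      rintro _ ⟨i, rfl⟩
      rw [SetLike.mem_coe, LinearMap.mem_ker, hA, Matrix.mulVecLin_apply, Matrix.sub_mulVec,
        Matrix.one_mulVec, hfix i, sub_self]
    have := Submodule.finrank_mono hs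
    rwa [finrank_span_eq_card (conj_indep hq hal ha1 hv he), Fintype.card_fin] at this
  have hrange : Module.finrank (AlgebraicClosure K) (LinearMap.range A) ≤ 1 := by
    have := A.finrank_range_add_finrank_ker
    rw [Module.finrank_fin_fun] at this
    omega
  obtain ⟨u, hu⟩ : ∃ u : Fin 7 → AlgebraicClosure K, ∀ x, ∃ c : AlgebraicClosure K, A x = c • u := by
    obtain ⟨u, hu⟩ := finrank_le_one_iff.1 hrange
    exact ⟨u.1, fun x => by
      obtain ⟨c, hc⟩ := hu ⟨A x, x, rfl⟩
      exact ⟨c, (congrArg Subtype.val hc).symm⟩⟩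
  choose c hc using hu
  set B := ext7 g - 1 with hB
  have hcol : B = Matrix.vecMulVec u (fun j => c (Pi.single j 1)) := by
    ext i j
    have := congrFun (hc (Pi.single j 1)) i
    rw [hA, Matrix.mulVecLin_apply, Matrix.mulVec_single_one] at this
    rw [Matrix.vecMulVec_apply, mul_comm]
    exact this
  have hsq : B * B = B.trace • B := by
    rw [hcol]
    ext i j
    simp only [Matrix.mul_apply, Matrix.trace, Matrix.diag, Matrix.vecMulVec_apply, Matrix.smul_apply,
      smul_eq_mul, Finset.sum_mul]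
    exact Finset.sum_congr rfl fun k _ => by ring
  set t : K := (g - 1).trace
  have hBt : B.trace = algebraMap K (AlgebraicClosure K) t := by
    simp only [B, t, Matrix.trace, Matrix.diag, map_sum, Matrix.sub_apply, map_sub, Matrix.map_apply,
      Matrix.one_apply_eq, map_one]
  have hG : (g - 1) * (g - 1) = t • (g - 1) := by
    apply Matrix.map_injective (algebraMap K (AlgebraicClosure K)).injective
    simp only
    rw [Matrix.map_mul, Matrix.map_smul' _ _ _ (map_mul _),
      Matrix.map_sub _ (map_sub _), Matrix.map_one _ (map_zero _) (map_one _)]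
    rw [← hBt]
    exact hsq
  have hpow : ∀ m : ℕ, ∃ s : K, g ^ m = 1 + s • (g - 1) ∧ 1 + t * s = (1 + t) ^ m := by
    intro m
    induction m with
    | zero => exact ⟨0, by simp, by simp⟩
    | succ m ih =>
        obtain ⟨s, h1, h2⟩ := ih
        refine ⟨s + 1 + s * t, ?_, by rw [pow_succ, ← h2]; ring⟩
        have hg : g = 1 + (g - 1) := by abel
        rw [pow_succ, h1]
        nth_rw 2 [hg]
        rw [mul_add, mul_one, add_mul, one_mul, smul_mul_assoc, hG, smul_smul, add_smul, add_smul, one_smul]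
        abel
  obtain ⟨s, h1, h2⟩ := hpow n
  rw [hn, left_eq_add] at h1
  rcases smul_eq_zero.1 h1 with hs | hs
  · rw [hs, mul_zero, add_zero] at h2
    have ht : t = 0 := by
      by_contra ht
      have h10 : (1 + t) ≠ 0 := by
        intro h; rw [h, zero_pow (by rintro rfl; exact h3 (dvd_zero 3))] at h2; exact one_ne_zero h2
      have hd : orderOf (1 + t) ∣ Nat.gcd n (Fintype.card K - 1) :=
        Nat.dvd_gcd (orderOf_dvd_of_pow_eq_one h2.symm)
          (orderOf_dvd_of_pow_eq_one (FiniteField.pow_card_sub_one_eq_one _ h10))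
      rw [hn', Nat.dvd_one, orderOf_eq_one_iff, add_eq_left] at hd
      exact ht hd
    rw [ht, zero_smul] at hG
    have hlin : ∀ m : ℕ, g ^ m = 1 + (m : K) • (g - 1) := by
      intro m
      induction m with
      | zero => simp
      | succ m ih =>
          have hg : g = 1 + (g - 1) := by abel
          rw [pow_succ, ih]
          nth_rw 2 [hg]
          rw [mul_add, mul_one, add_mul, one_mul, smul_mul_assoc, hG, smul_zero, Nat.cast_succ, add_smul,
            one_smul]
          abel
    have := hlin n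
    rw [hn, left_eq_add] at this
    rcases smul_eq_zero.1 this with e | e
    · rw [CharP.cast_eq_zero_iff K 3] at e; exact absurd e h3
    · exact sub_eq_zero.1 e
  · exact sub_eq_zero.1 hs

end

section Group

variable [CharP K 3] {l : ℕ} [Fact l.Prime] {G : Type*} [Group G] [Finite G]
  (ρ : G →* Matrix (Fin 7) (Fin 7) K) (hρ : Function.Injective ρ)
  (hq : orderOf (Fintype.card K : ZMod l) = 6) (hl3 : l ≠ 3)
include hρ hq hl3

/-- centralising groups of order prime to 3(q - 1) are cyclic -/
theorem cyclic_of_commute {z : G} (hz : orderOf z = l) (C : Subgroup G) (hC : ∀ x ∈ C, x * z = z * x)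
    (h3 : ¬ 3 ∣ Nat.card ↥C) (hcop : (Nat.card ↥C).Coprime (Fintype.card K - 1)) : IsCyclic ↥C := by
  have hM : ρ z ≠ 1 := fun h => by
    rw [← map_one ρ] at h
    rw [hρ h, orderOf_one] at hz
    exact (Fact.out : l.Prime).ne_one hz.symm
  obtain ⟨a, v, hv, he, hal, ha1⟩ := exists_eig hl3 (M := ρ z) (by rw [← map_pow, ← hz, pow_orderOf_eq_one, map_one]) hM
  have hα : ∀ x : ↥C, ∃ c : AlgebraicClosure K, ext7 (ρ x) *ᵥ v = c • v := fun x => by
    refine eig_line hq hal ha1 hv he ?_
    rw [Matrix.mulVec_mulVec, ← ext7_mul, ← map_mul, ← hC x x.2, map_mul, ext7_mul,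
      ← Matrix.mulVec_mulVec, he, Matrix.mulVec_smul]
  choose α hα using hα
  have smul_inj : ∀ {b c : AlgebraicClosure K}, b • v = c • v → b = c := fun {b c} h =>
    sub_eq_zero.1 ((smul_eq_zero.1 (by rw [sub_smul, h, sub_self] : (b - c) • v = 0)).resolve_right hv)
  let f : ↥C →* AlgebraicClosure K :=
    { toFun := α
      map_one' := smul_inj (by
        rw [← hα, OneMemClass.coe_one, map_one, ext7_one, Matrix.one_mulVec, one_smul])
      map_mul' := fun x y => smul_inj (by
        rw [← hα, Subgroup.coe_mul, map_mul, ext7_mul, ← Matrix.mulVec_mulVec, hα y, Matrix.mulVec_smul,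
          hα x, smul_smul, mul_comm]) }
  have hker : ∀ x : ↥C, α x = 1 → x = 1 := fun x hx => by
    have h1 : ρ x = 1 := fix_eq_one hq hv he hal ha1 (g := ρ x) (by rw [← map_mul, ← map_mul, hC x x.2])
      (by rw [hα x, hx, one_smul]) (n := Nat.card ↥C)
      (by rw [← map_pow, ← SubmonoidClass.coe_pow, pow_card_eq_one', OneMemClass.coe_one, map_one]) h3 hcop
    exact Subtype.ext (hρ (h1.trans (map_one ρ).symm))
  refine isCyclic_of_injective_ringHom f fun x y h => ?_
  have : f (x * y⁻¹) = 1 := by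
    have hy : f y * f y⁻¹ = 1 := by rw [← map_mul, mul_inv_cancel, map_one]
    rw [map_mul, h, hy]
  exact mul_inv_eq_one.1 (hker _ this)

/-- the automorphisms induced on a subgroup of order l -/
theorem aut_bound {z x : G} (hz : orderOf z = l) {k : ℕ} (hx : x * z * x⁻¹ = z ^ k) :
    ∃ i : ℕ, (k : ZMod l) * (Fintype.card K : ZMod l) ^ i = 1 := by
  have hl := (Fact.out : l.Prime)
  have hM : ρ z ≠ 1 := fun h => by
    rw [← map_one ρ] at h
    rw [hρ h, orderOf_one] at hz
    exact hl.ne_one hz.symm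
  obtain ⟨a, v, hv, he, hal, ha1⟩ := exists_eig hl3 (M := ρ z) (by rw [← map_pow, ← hz, pow_orderOf_eq_one, map_one]) hM
  have hk : (k : ZMod l) ≠ 0 := by
    intro h
    rw [ZMod.natCast_eq_zero_iff] at h
    obtain ⟨r, rfl⟩ := h
    rw [pow_mul, ← hz, pow_orderOf_eq_one, one_pow, conj_eq_one_iff] at hx
    rw [hx, orderOf_one] at hz
    exact hl.ne_one hz.symm
  set k' := ((k : ZMod l)⁻¹).val
  have hkk : (((k * k' : ℕ) : ℕ) : ZMod l) = ((1 : ℕ) : ZMod l) := by
    rw [Nat.cast_mul, ZMod.natCast_val, ZMod.cast_id, mul_inv_cancel₀ hk, Nat.cast_one]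
  have hzz : x * z ^ k' = z * x := by
    have h := congrArg (fun y => y ^ k') hx
    simp only [conj_pow, ← pow_mul] at h
    rw [← mul_inv_eq_iff_eq_mul, h, pow_eq_pow_mod _ (hz ▸ pow_orderOf_eq_one z),
      (ZMod.natCast_eq_natCast_iff' _ _ _).1 hkk, ← pow_eq_pow_mod _ (hz ▸ pow_orderOf_eq_one z), pow_one]
  have hpow : ∀ n : ℕ, ext7 (ρ (z ^ n)) *ᵥ v = a ^ n • v := by
    intro n
    induction n with
    | zero => rw [pow_zero, map_one, ext7_one, Matrix.one_mulVec, pow_zero, one_smul]
    | succ n ih =>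
        rw [pow_succ, map_mul, ext7_mul, ← Matrix.mulVec_mulVec, he, Matrix.mulVec_smul, ih, smul_smul,
          pow_succ']
  have heig : ext7 (ρ z) *ᵥ (ext7 (ρ x) *ᵥ v) = a ^ k' • (ext7 (ρ x) *ᵥ v) := by
    rw [Matrix.mulVec_mulVec, ← ext7_mul, ← map_mul, ← hzz, map_mul, ext7_mul, ← Matrix.mulVec_mulVec,
      hpow, Matrix.mulVec_smul]
  have hne : ext7 (ρ x) *ᵥ v ≠ 0 := fun h => hv (by
    have := congrArg (fun w => ext7 (ρ x⁻¹) *ᵥ w) h
    rwa [Matrix.mulVec_mulVec, ← ext7_mul, ← map_mul, inv_mul_cancel, map_one, ext7_one, Matrix.one_mulVec,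
      Matrix.mulVec_zero] at this)
  have hne1 : a ^ k' ≠ 1 := by
    intro h
    have := pow_inj_l hal ha1 (show a ^ k' = a ^ 0 by rw [h, pow_zero])
    rw [ZMod.natCast_val, ZMod.cast_id, Nat.cast_zero, inv_eq_zero] at this
    exact hk this
  obtain ⟨i, hi⟩ := eig_other hq hal ha1 hv he hne heig (by rw [← pow_mul, mul_comm, pow_mul, hal, one_pow]) hne1
  refine ⟨i, ?_⟩
  have := pow_inj_l hal ha1 hi
  rw [ZMod.natCast_val, ZMod.cast_id, Nat.cast_pow] at this
  rw [← this, mul_inv_cancel₀ hk]

end Group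

end CfsgLib.Eig7
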