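import Cfsg.Agent.Lib.ReeG2.Invol
import Cfsg.Agent.Lib.ReeG2.Sylow
import Cfsg.Agent.Lib.ReeG2.Eig

/-!
Centralisers of semisimple elements of ²G₂(q): the split torus and the cyclic Sylow subgroups.
-/

set_option autoImplicit false
set_option linter.unusedSectionVars false

namespace CfsgLib.ReeG2

open Cfsg.Lie CfsgLib.Chev
open scoped Matrix MatrixGroups Pointwise

/-- a p-subgroup is conjugate into a subgroup of index prime to p -/
theorem exists_conj_le {G : Type*} [Group G] [Finite G] (p : ℕ) [Fact p.Prime] (S : Subgroup G)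
    (hS : ¬ p ∣ S.index) (P : Subgroup G) (hP : IsPGroup p ↥P) : ∃ g, ∀ x ∈ P, g⁻¹ * x * g ∈ S := by
  obtain ⟨c, hc⟩ := hP.nonempty_fixed_point_of_prime_not_dvd_card (G ⧸ S) hS
  obtain ⟨g, rfl⟩ := QuotientGroup.mk_surjective c
  refine ⟨g, fun x hx => ?_⟩
  have h : (QuotientGroup.mk (x * g) : G ⧸ S) = QuotientGroup.mk g := hc ⟨x, hx⟩
  rw [eq_comm, QuotientGroup.eq] at h
  rwa [mul_assoc]

/-- an element of prime order is conjugate into a subgroup of index prime to it -/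
theorem exists_conj_mem {G : Type*} [Group G] [Finite G] {p : ℕ} [Fact p.Prime] (S : Subgroup G)
    (hS : ¬ p ∣ S.index) {x : G} (hx : orderOf x = p) : ∃ g, g⁻¹ * x * g ∈ S := by
  obtain ⟨g, hg⟩ := exists_conj_le p S hS (Subgroup.zpowers x)
    (IsPGroup.of_card (n := 1) (by rw [Nat.card_zpowers, hx, pow_one]))
  exact ⟨g, hg x (Subgroup.mem_zpowers x)⟩

variable {K : Type*} [Field K] [Fintype K] [CharP K 3] {θ : K ≃+* K}

/-- the number q² - q + 1 -/
def nq (K : Type*) [Fintype K] : ℕ := Fintype.card K * Fintype.card K - Fintype.card K + 1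

theorem exists_three_pow : ∃ n, 0 < n ∧ Fintype.card K = 3 ^ n := by
  obtain ⟨n, -, h⟩ := FiniteField.card K 3
  exact ⟨n, n.pos, h⟩

theorem three_dvd_q : 3 ∣ Fintype.card K := by
  obtain ⟨n, hn, h⟩ := exists_three_pow (K := K)
  rw [h]; exact dvd_pow_self 3 hn.ne'

theorem nq_eq (r : ℕ) (h : Fintype.card K = r + 1) : nq K = r * r + r + 1 := by
  rw [nq, h, show (r + 1) * (r + 1) = r * r + r + (r + 1) by ring, Nat.add_sub_cancel]

theorem not_dvd_nq_succ {l : ℕ} (hl : l.Prime) (h : l ∣ Fintype.card K + 1) : ¬ l ∣ nq K := by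
  intro hN
  obtain ⟨r, hr⟩ : ∃ r, Fintype.card K = r + 1 := ⟨_, (Nat.succ_pred_eq_of_pos Fintype.card_pos).symm⟩
  rw [nq_eq r hr] at hN
  rw [hr] at h
  have h2 : l ∣ r * (r + 1 + 1) := dvd_mul_of_dvd_right h r
  have h3 : l ∣ 3 := by
    obtain ⟨a, ha⟩ := h
    obtain ⟨b, hb⟩ := hN
    have hz : (3 : ℤ) = (l : ℤ) * ((b : ℤ) - (a : ℤ) * ((r : ℤ) - 1)) := by
      have hb' : (r : ℤ) * r + r + 1 = l * b := by exact_mod_cast hb
      have ha' : (r : ℤ) + 1 + 1 = l * a := by exact_mod_cast ha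
      linear_combination hb' - ((r : ℤ) - 1) * ha'
    exact Int.natCast_dvd_natCast.1 ⟨_, hz⟩
  rw [(Nat.prime_dvd_prime_iff_eq hl Nat.prime_three).1 h3] at h
  have := three_dvd_q (K := K)
  omega

theorem not_dvd_nq_pred {l : ℕ} (hl : l.Prime) (h : l ∣ Fintype.card K - 1) : ¬ l ∣ nq K := by
  intro hN
  obtain ⟨r, hr⟩ : ∃ r, Fintype.card K = r + 1 := ⟨_, (Nat.succ_pred_eq_of_pos Fintype.card_pos).symm⟩
  rw [nq_eq r hr] at hN
  rw [hr, Nat.add_sub_cancel] at h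
  rw [add_assoc] at hN
  have h2 : l ∣ r + 1 := (Nat.dvd_add_right (dvd_mul_of_dvd_left h r)).1 hN
  exact hl.not_dvd_one ((Nat.dvd_add_right h).1 h2)

theorem not_dvd_nq_self {l : ℕ} (hl : l.Prime) (h : l ∣ Fintype.card K) : ¬ l ∣ nq K := by
  intro hN
  obtain ⟨r, hr⟩ : ∃ r, Fintype.card K = r + 1 := ⟨_, (Nat.succ_pred_eq_of_pos Fintype.card_pos).symm⟩
  rw [nq_eq r hr, show r * r + r + 1 = r * (r + 1) + 1 by ring] at hN
  rw [hr] at h
  exact hl.not_dvd_one ((Nat.dvd_add_right (dvd_mul_of_dvd_right h r)).1 hN)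

theorem eq_two_of_dvd_pred_succ {l : ℕ} (hl : l.Prime) (h1 : l ∣ Fintype.card K - 1)
    (h2 : l ∣ Fintype.card K + 1) : l = 2 := by
  have h := Nat.dvd_sub h2 h1
  have hp : 0 < Fintype.card K := Fintype.card_pos
  rw [show Fintype.card K + 1 - (Fintype.card K - 1) = 2 by omega] at h
  exact (Nat.prime_dvd_prime_iff_eq hl Nat.prime_two).1 h

theorem not_three_dvd_nq : ¬ 3 ∣ nq K := not_dvd_nq_self Nat.prime_three three_dvd_q

theorem not_two_dvd_nq : ¬ 2 ∣ nq K := by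
  obtain ⟨r, hr⟩ : ∃ r, Fintype.card K = r + 1 := ⟨_, (Nat.succ_pred_eq_of_pos Fintype.card_pos).symm⟩
  rw [nq_eq r hr]
  intro h
  have : 2 ∣ r * r + r := by
    rcases Nat.even_or_odd r with ⟨a, rfl⟩ | ⟨a, rfl⟩
    · exact ⟨a * (2 * a + 1), by ring⟩
    · exact ⟨(2 * a + 1) * (a + 1), by ring⟩
  omega

theorem order_q_mod {l : ℕ} [Fact l.Prime] (hl : l ∣ nq K) : orderOf (Fintype.card K : ZMod l) = 6 := by
  have hl2 : l ≠ 2 := fun h => not_two_dvd_nq (K := K) (h ▸ hl)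
  have hl3 : l ≠ 3 := fun h => not_three_dvd_nq (K := K) (h ▸ hl)
  set x := (Fintype.card K : ZMod l) with hx
  have h0 : x * x - x + 1 = 0 := by
    have h := (ZMod.natCast_eq_zero_iff _ l).2 hl
    rw [nq, Nat.cast_add, Nat.cast_sub (Nat.le_mul_self _), Nat.cast_mul, Nat.cast_one] at h
    exact h
  have hc : ∀ m : ℕ, m.Prime → l ≠ m → (m : ZMod l) ≠ 0 := fun m hm hne h =>
    hne ((Nat.prime_dvd_prime_iff_eq Fact.out hm).1 ((ZMod.natCast_eq_zero_iff m l).1 h))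
  have h3 : (3 : ZMod l) ≠ 0 := by exact_mod_cast hc 3 Nat.prime_three hl3
  have h2 : (2 : ZMod l) ≠ 0 := by exact_mod_cast hc 2 Nat.prime_two hl2
  rw [orderOf_eq_iff (by norm_num)]
  refine ⟨by linear_combination (x ^ 4 + x ^ 3 - x - 1) * h0, fun m hm hpos h => ?_⟩
  interval_cases m
  · exact one_ne_zero (α := ZMod l) (by linear_combination h0 - x * h)
  · exact h3 (by linear_combination (-1 - x) * h + (x + 2) * h0)
  · exact h2 (by linear_combination (1 + x) * h0 - h)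
  · exact h3 (by linear_combination (x - 2) * h + (1 - (x - 2) * (x + 1) * x) * h0)
  · exact one_ne_zero (α := ZMod l) (by
      linear_combination (x - 1) * h + ((1 - x) * x ^ 2 * (x + 1) + x) * h0)

variable (hθ : IsRee θ)
include hθ

theorem card_eq : Nat.card ↥(fixG θ) =
    Fintype.card K ^ 3 * ((Fintype.card K - 1) * ((Fintype.card K + 1) * nq K)) := by
  rw [card_fixG hθ, mul_assoc]
  obtain ⟨r, hr⟩ : ∃ r, Fintype.card K = r + 1 := ⟨_, (Nat.succ_pred_eq_of_pos Fintype.card_pos).symm⟩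
  rw [nq_eq r hr, hr, Nat.add_sub_cancel]
  ring

theorem prime_cases {l : ℕ} (hl : l.Prime) (h : l ∣ Nat.card ↥(fixG θ)) :
    l = 2 ∨ l = 3 ∨ (3 < l ∧ (l ∣ Fintype.card K - 1 ∨ l ∣ Fintype.card K + 1 ∨ l ∣ nq K)) := by
  by_cases h2 : l = 2
  · exact Or.inl h2
  by_cases h3 : l = 3
  · exact Or.inr (Or.inl h3)
  have : 3 < l := by have := hl.two_le; omega
  refine Or.inr (Or.inr ⟨this, ?_⟩)
  rw [card_eq hθ] at h
  rcases hl.dvd_mul.1 h with g | g
  · obtain ⟨n, -, hn⟩ := exists_three_pow (K := K)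
    rw [hn, ← pow_mul] at g
    exact absurd ((Nat.prime_dvd_prime_iff_eq hl Nat.prime_three).1 (hl.dvd_of_dvd_pow g)) h3
  · rcases hl.dvd_mul.1 g with g | g
    · exact Or.inl g
    · exact Or.inr (hl.dvd_mul.1 g)

theorem card_Hf' : Nat.card ↥(Hf θ) = Fintype.card K - 1 := by
  rw [Nat.card_congr (Subgroup.subgroupOfEquivOfLe (show chevG2.diagonalSubgroup K ⊓ fixG θ ≤ fixG θ from
    inf_le_right)).toEquiv, card_Hf hθ]

theorem Hf_cyclic : IsCyclic ↥(Hf θ) := by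
  let f : Kˣ →* ↥(Hf θ) :=
    { toFun := fun a => ⟨hg hθ a, (mem_Hf hθ).2 ⟨a, rfl⟩⟩
      map_one' := Subtype.ext (Subtype.ext hh_one)
      map_mul' := fun a b => Subtype.ext (Subtype.ext (hh_mul a b).symm) }
  exact isCyclic_of_surjective f fun x => by
    obtain ⟨a, e⟩ := (mem_Hf hθ).1 x.2
    exact ⟨a, Subtype.ext (Subtype.ext e.symm)⟩

theorem Hf_index : (Hf θ).index = Fintype.card K ^ 3 * ((Fintype.card K + 1) * nq K) := by
  have h := (Hf θ).card_mul_index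
  rw [card_Hf' hθ, card_eq hθ] at h
  refine Nat.eq_of_mul_eq_mul_left (show 0 < Fintype.card K - 1 by
    have := Fintype.one_lt_card (α := K); omega) (h.trans ?_)
  ring

theorem Hf_index_prime {l : ℕ} (hl : l.Prime) (h2 : l ≠ 2) (h : l ∣ Fintype.card K - 1) :
    ¬ l ∣ (Hf θ).index := by
  have h3 : l ≠ 3 := by
    rintro rfl
    have := three_dvd_q (K := K)
    have : 0 < Fintype.card K := Fintype.card_pos
    omega
  rw [Hf_index hθ, hl.dvd_mul, hl.dvd_mul]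
  rintro (g | g | g)
  · obtain ⟨n, -, hn⟩ := exists_three_pow (K := K)
    rw [hn, ← pow_mul] at g
    exact h3 ((Nat.prime_dvd_prime_iff_eq hl Nat.prime_three).1 (hl.dvd_of_dvd_pow g))
  · exact h2 (eq_two_of_dvd_pred_succ hl h g)
  · exact not_dvd_nq_pred hl h g

theorem card_Uf' : Nat.card ↥(Uf θ) = Fintype.card K ^ 3 := by
  rw [Nat.card_congr (Subgroup.subgroupOfEquivOfLe (show chevG2.posUnipotent K ⊓ fixG θ ≤ fixG θ from
    inf_le_right)).toEquiv, card_Uf hθ]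

theorem Uf_index_prime : ¬ 3 ∣ (Uf θ).index := by
  have h := (Uf θ).card_mul_index
  rw [card_Uf' hθ, card_eq hθ] at h
  rw [Nat.eq_of_mul_eq_mul_left (pow_pos Fintype.card_pos 3) h, Nat.prime_three.dvd_mul, Nat.prime_three.dvd_mul]
  have := three_dvd_q (K := K)
  have : 0 < Fintype.card K := Fintype.card_pos
  rintro (g | g | g)
  · omega
  · omega
  · exact not_three_dvd_nq g

theorem card_Bf : Nat.card ↥(Bf θ) = Fintype.card K ^ 3 * (Fintype.card K - 1) := by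
  classical
  let f : (K × K × K) × Kˣ → ↥(Bf θ) := fun p =>
    ⟨rg hθ p.1.1 p.1.2.1 p.1.2.2 * hg hθ p.2, mul_mem (rg_mem_Bf hθ _ _ _) (hg_mem_Bf hθ _)⟩
  have hf : Function.Bijective f := by
    refine ⟨fun p q h => ?_, fun x => ?_⟩
    · obtain ⟨a, b, c, d⟩ := small_unique (congrArg (fun z : ↥(Bf θ) => ((z : ↥(fixG θ)) : GL chevG2.Idx K)) h)
      exact Prod.ext (Prod.ext a (Prod.ext b c)) d
    · obtain ⟨t, u, v, a, e⟩ := (mem_Bf hθ).1 x.2
      exact ⟨((t, u, v), a), Subtype.ext (Subtype.ext e.symm)⟩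
  rw [← Nat.card_eq_of_bijective f hf]
  simp only [Nat.card_eq_fintype_card, Fintype.card_prod, Fintype.card_units]
  ring

/-- elements centralising a unipotent element lie in the Borel subgroup -/
theorem cent_unip {u x : ↥(fixG θ)} (hu : u ∈ Uf θ) (hu1 : u ≠ 1) (h : x * u = u * x) : x ∈ Bf θ := by
  by_contra hx
  have hm : u ∈ Uf θ ⊓ MulAut.conj x • Uf θ := ⟨hu, by
    change u ∈ MulAut.conj x • Uf θ
    rw [Subgroup.mem_pointwise_smul_iff_inv_smul_mem, MulAut.smul_def, MulAut.conj_inv_apply, mul_assoc, ← h,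
      inv_mul_cancel_left]
    exact hu⟩
  rw [ti_of_not_mem hθ hx] at hm
  exact hu1 hm

theorem exists_conj_Uf {w : ↥(fixG θ)} (hw : orderOf w = 3) : ∃ g, g⁻¹ * w * g ∈ Uf θ :=
  haveI : Fact (Nat.Prime 3) := ⟨Nat.prime_three⟩
  exists_conj_mem (Uf θ) (Uf_index_prime hθ) hw

theorem three_cent {w x : ↥(fixG θ)} (hw : orderOf w = 3) (h : x * w = w * x) :
    ∃ g, g⁻¹ * x * g ∈ Bf θ ∧ g⁻¹ * w * g ∈ Uf θ := by
  obtain ⟨g, hg'⟩ := exists_conj_Uf hθ hw
  refine ⟨g, cent_unip hθ hg' (fun e => ?_) ?_, hg'⟩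
  · have : w = 1 := by rw [← conj_eq_one_iff (a := g⁻¹), inv_inv]; exact e
    rw [this, orderOf_one] at hw
    exact absurd hw (by norm_num)
  · calc g⁻¹ * x * g * (g⁻¹ * w * g) = g⁻¹ * (x * w) * g := by group
      _ = g⁻¹ * (w * x) * g := by rw [h]
      _ = _ := by group

/-- the centraliser of a split semisimple element -/
theorem cent_hg {b : Kˣ} (h1 : b ≠ 1) (h2 : b ≠ -1) {x : ↥(fixG θ)} (h : x * hg hθ b = hg hθ b * x) :
    x ∈ Hf θ := by
  have hcm : hh θ b * (x : GL chevG2.Idx K) * (hh θ b)⁻¹ = x := by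
    rw [mul_inv_eq_iff_eq_mul]
    exact (congrArg Subtype.val h).symm
  rcases fixG_cases hθ x.2 with ⟨t, u, v, c, e⟩ | ⟨t, u, v, c, t', u', v', e⟩
  · rw [e] at hcm
    have hcu : hh θ b * ru θ t u v * (hh θ b)⁻¹ = ru θ t u v := by
      apply mul_right_cancel (b := hh θ c)
      rw [← hcm]
      simp only [mul_assoc, mul_left_cancel_iff]
      rw [hh_inv, hh_mul, hh_mul, mul_comm]
    have hm : ru θ t u v ∈ (chevG2.posUnipotent K ⊓ fixG θ) ⊓ Subgroup.centralizer {hh θ b} := by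
      refine ⟨(mem_pos_fix hθ).2 ⟨_, _, _, rfl⟩, Subgroup.mem_centralizer_singleton_iff.2 ?_⟩
      rw [mul_inv_eq_iff_eq_mul] at hcu
      exact hcu.symm
    rw [centralizer_hh hθ h1 h2, Subgroup.mem_bot] at hm
    exact (mem_Hf hθ).2 ⟨c, by rw [e, hm, one_mul]⟩
  · exfalso
    rw [e] at hcm
    have e' : hh θ b * ru θ t u v * (hh θ b)⁻¹ * hh θ (b * b * c) * n0 K *
        (hh θ b * ru θ t' u' v' * (hh θ b)⁻¹) = ru θ t u v * hh θ c * n0 K * ru θ t' u' v' := by
      refine Eq.trans ?_ hcm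
      rw [show hh θ (b * b * c) = hh θ b * hh θ c * hh θ b by rw [hh_mul, hh_mul, mul_right_comm],
        show hh θ b * ru θ t u v * (hh θ b)⁻¹ * (hh θ b * hh θ c * hh θ b) * n0 K *
          (hh θ b * ru θ t' u' v' * (hh θ b)⁻¹) = hh θ b * ru θ t u v * hh θ c * (hh θ b * (n0 K * hh θ b)) *
            ru θ t' u' v' * (hh θ b)⁻¹ by group, n0_mul_hh, ← hh_inv]
      group
    rw [hh_conj_ru hθ, hh_conj_ru hθ] at e'
    obtain ⟨-, -, -, hb, -⟩ := big_unique e'
    have hb' : (b : K) * b = 1 := congrArg Units.val (mul_eq_right.1 hb)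
    rcases mul_self_eq_one_iff.1 hb' with g | g
    · exact h1 (Units.ext g)
    · exact h2 (Units.ext g)

/-- elements of prime order dividing q - 1 -/
theorem split_elem {l : ℕ} [Fact l.Prime] (h2 : l ≠ 2) (hl : l ∣ Fintype.card K - 1) {x : ↥(fixG θ)}
    (hx : orderOf x = l) : ∃ g, ∃ b : Kˣ, b ≠ 1 ∧ b ≠ -1 ∧ g⁻¹ * x * g = hg hθ b := by
  obtain ⟨g, hg'⟩ := exists_conj_mem (Hf θ) (Hf_index_prime hθ Fact.out h2 hl) hx
  obtain ⟨b, e⟩ := (mem_Hf hθ).1 hg'
  have ho : orderOf (g⁻¹ * x * g) = l := by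
    rw [← hx]
    exact (SemiconjBy.orderOf_eq g (show g * (g⁻¹ * x * g) = x * g by group)).symm ▸ rfl
  have e' : g⁻¹ * x * g = hg hθ b := Subtype.ext e
  refine ⟨g, b, ?_, ?_, e'⟩
  · rintro rfl
    rw [e', show hg hθ (1 : Kˣ) = 1 from Subtype.ext hh_one, orderOf_one] at ho
    exact (Fact.out : l.Prime).ne_one ho.symm
  · rintro rfl
    rw [e'] at ho
    have h := orderOf_dvd_of_pow_eq_one (x := hg hθ (-1 : Kˣ)) (n := 2)
      (by rw [pow_two]; exact a0_sq hθ)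
    rw [ho] at h
    exact h2 ((Nat.prime_dvd_prime_iff_eq Fact.out Nat.prime_two).1 h)

/-- the number of elements of the centraliser of a0 -/
theorem card_cent_a0 : Nat.card ↥(Subgroup.centralizer ({a0 hθ} : Set ↥(fixG θ))) =
    Fintype.card K * (Fintype.card K - 1) * (Fintype.card K + 1) := by
  classical
  rw [Nat.card_congr (centA hθ).toEquiv]
  let f : (K × Kˣ) ⊕ (K × Kˣ × K) → ↥(C0 θ) :=
    Sum.elim (fun p => ⟨ru θ 0 p.1 0 * hh θ p.2, mul_mem (ru_u_mem hθ _) (hh_mem_C0 hθ _)⟩)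
      fun p => ⟨ru θ 0 p.1 0 * hh θ p.2.1 * n0 K * ru θ 0 p.2.2 0,
        mul_mem (mul_mem (mul_mem (ru_u_mem hθ _) (hh_mem_C0 hθ _)) (n0_mem_C0 hθ)) (ru_u_mem hθ _)⟩
  have hf : Function.Bijective f := by
    constructor
    · rintro (⟨u, a⟩ | ⟨u, a, x⟩) (⟨u', a'⟩ | ⟨u', a', x'⟩) h <;> have h' := congrArg Subtype.val h
      · obtain ⟨-, rfl, -, rfl⟩ := small_unique h'; rfl
      · exfalso
        exact big_not_mem_borel (θ := θ) 0 u' 0 a' 0 x' 0
          ((show ru θ 0 u 0 * hh θ a = ru θ 0 u' 0 * hh θ a' * n0 K * ru θ 0 x' 0 from h') ▸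
            small_mem_borel 0 u 0 a)
      · exfalso
        exact big_not_mem_borel (θ := θ) 0 u 0 a 0 x 0
          ((show ru θ 0 u 0 * hh θ a * n0 K * ru θ 0 x 0 = ru θ 0 u' 0 * hh θ a' from h').symm ▸
            small_mem_borel 0 u' 0 a')
      · obtain ⟨-, rfl, -, rfl, -, rfl, -⟩ := big_unique h'; rfl
    · rintro ⟨g, hg'⟩
      rcases C0_cases hθ hg' with ⟨u, c, rfl⟩ | ⟨u, c, u', rfl⟩
      · exact ⟨Sum.inl (u, c), rfl⟩
      · exact ⟨Sum.inr (u, c, u'), rfl⟩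
  rw [← Nat.card_eq_of_bijective f hf]
  simp only [Nat.card_eq_fintype_card, Fintype.card_sum, Fintype.card_prod, Fintype.card_units]
  ring

theorem invol_cent {w x : ↥(fixG θ)} (hw : orderOf w = 2) (h : x * w = w * x) :
    orderOf x ∣ Fintype.card K * (Fintype.card K - 1) * (Fintype.card K + 1) := by
  obtain ⟨hw2, hw1⟩ := orderOf_eq_prime_iff.1 hw
  rw [pow_two] at hw2
  obtain ⟨g, hg'⟩ := invol_conj hθ hw1 hw2
  have hm : g⁻¹ * x * g ∈ Subgroup.centralizer ({a0 hθ} : Set ↥(fixG θ)) := by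
    rw [Subgroup.mem_centralizer_singleton_iff, show a0 hθ = g⁻¹ * w * g by rw [← hg']; group]
    calc g⁻¹ * x * g * (g⁻¹ * w * g) = g⁻¹ * (x * w) * g := by group
      _ = g⁻¹ * (w * x) * g := by rw [h]
      _ = _ := by group
  rw [← card_cent_a0 hθ, ← SemiconjBy.orderOf_eq g (show g * (g⁻¹ * x * g) = x * g by group)]
  exact Subgroup.orderOf_dvd_natCard _ hm

/-- the seven-dimensional representation -/
noncomputable def rho : ↥(fixG θ) →* Matrix (Fin 7) (Fin 7) K where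
  toFun x i j := ((x : GL chevG2.Idx K) : Matrix chevG2.Idx chevG2.Idx K) (sI i) (sI j)
  map_one' := by
    funext i j
    by_cases h : i = j
    · subst h; simp
    · rw [Matrix.one_apply_ne h]
      exact Matrix.one_apply_ne fun e => h (sI_inj e)
  map_mul' x y := by
    funext i j
    exact sblock_mul y.2.2.1.1 i j

theorem rho_injective : Function.Injective (rho (θ := θ)) := by
  rw [injective_iff_map_eq_one]
  rintro ⟨x, hx⟩ h
  refine Subtype.ext (eq_one_of_lblock hθ hx.1 fun i j => ?_)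
  rw [hx.2.1.2.2, show (x : Matrix chevG2.Idx chevG2.Idx K) (sI i) (sI j) = (1 : Matrix (Fin 7) (Fin 7) K) i j
    from congrFun (congrFun h i) j]
  by_cases e : i = j
  · subst e; simp
  · rw [Matrix.one_apply_ne e, Matrix.one_apply_ne fun e' => e (lI_inj e'), map_zero]

section Singer

variable {l : ℕ} [Fact l.Prime] (hl : l ∣ nq K) {z : ↥(fixG θ)} (hz : orderOf z = l)
include hl hz

theorem singer_cent_prime {r : ℕ} (hr : r.Prime) (h : r ∣ Nat.card ↥(Subgroup.centralizer ({z} : Set ↥(fixG θ)))) :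
    3 < r ∧ ¬ r ∣ Fintype.card K - 1 := by
  haveI : Fact r.Prime := ⟨hr⟩
  have hlp : l.Prime := Fact.out
  obtain ⟨⟨w, hwm⟩, hw⟩ := exists_prime_orderOf_dvd_card' r h
  rw [Subgroup.orderOf_mk] at hw
  have hc := (Subgroup.mem_centralizer_singleton_iff.1 hwm).symm
  have hqN : ¬ l ∣ Fintype.card K * (Fintype.card K - 1) * (Fintype.card K + 1) := fun g => by
    rcases hlp.dvd_mul.1 g with g | g
    · rcases hlp.dvd_mul.1 g with g | g
      · exact not_dvd_nq_self hlp g hl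
      · exact not_dvd_nq_pred hlp g hl
    · exact not_dvd_nq_succ hlp g hl
  have h2 : r ≠ 2 := fun e => hqN (hz ▸ invol_cent hθ (hw.trans e) hc)
  have h3 : r ≠ 3 := by
    intro e
    obtain ⟨g, hgB, -⟩ := three_cent hθ (hw.trans e) hc
    have hd := Subgroup.orderOf_dvd_natCard (Bf θ) hgB
    rw [SemiconjBy.orderOf_eq g (show g * (g⁻¹ * z * g) = z * g by group), hz, card_Bf hθ] at hd
    rcases hlp.dvd_mul.1 hd with g | g
    · exact not_dvd_nq_self hlp (hlp.dvd_of_dvd_pow g) hl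
    · exact not_dvd_nq_pred hlp g hl
  refine ⟨by have := hr.two_le; omega, fun hd => ?_⟩
  obtain ⟨g, b, hb1, hb2, hb⟩ := split_elem hθ h2 hd hw
  have hm : g⁻¹ * z * g ∈ Hf θ := cent_hg hθ hb1 hb2 (by
    rw [← hb]
    calc g⁻¹ * z * g * (g⁻¹ * w * g) = g⁻¹ * (z * w) * g := by group
      _ = g⁻¹ * (w * z) * g := by rw [hc]
      _ = _ := by group)
  have hd' := Subgroup.orderOf_dvd_natCard (Hf θ) hm
  rw [SemiconjBy.orderOf_eq g (show g * (g⁻¹ * z * g) = z * g by group), hz, card_Hf' hθ] at hd'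
  exact not_dvd_nq_pred hlp hd' hl

theorem singer_cent_cyclic : IsCyclic ↥(Subgroup.centralizer ({z} : Set ↥(fixG θ))) := by
  refine Eig7.cyclic_of_commute (rho (θ := θ)) (rho_injective hθ) (order_q_mod hl)
    (fun e => not_three_dvd_nq (K := K) (e ▸ hl)) hz _ (fun x hx => Subgroup.mem_centralizer_singleton_iff.1 hx)
    (fun h => by have := (singer_cent_prime hθ hl hz Nat.prime_three h).1; omega) ?_
  refine Nat.coprime_of_dvd fun r hr h1 h2 => (singer_cent_prime hθ hl hz hr h1).2 h2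

end Singer

theorem singer_sylow_cyclic {l : ℕ} [Fact l.Prime] (hl : l ∣ nq K) (P : Sylow l ↥(fixG θ)) :
    IsCyclic ↥(P : Subgroup ↥(fixG θ)) := by
  rcases subsingleton_or_nontrivial ↥(P : Subgroup ↥(fixG θ)) with h | h
  · infer_instance
  obtain ⟨⟨z, hz⟩, hz1⟩ := (nontrivial_iff_exists_ne (1 : ↥(Subgroup.center ↥(P : Subgroup ↥(fixG θ))))).1
    P.isPGroup'.center_nontrivial
  obtain ⟨k, hk⟩ := IsPGroup.iff_orderOf.1 P.isPGroup' z
  have hk0 : k ≠ 0 := by
    rintro rfl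
    rw [pow_zero, orderOf_eq_one_iff] at hk
    exact hz1 (Subtype.ext hk)
  set w := z ^ l ^ (k - 1)
  have hw : orderOf w = l := by
    rw [orderOf_pow_of_dvd (pow_ne_zero _ (Fact.out : l.Prime).ne_zero)
      (by rw [hk]; exact pow_dvd_pow _ (by omega)), hk, Nat.pow_div (by omega) (Fact.out : l.Prime).pos,
      show k - (k - 1) = 1 by omega, pow_one]
  have hle : (P : Subgroup ↥(fixG θ)) ≤ Subgroup.centralizer {(w : ↥(fixG θ))} := by
    intro x hx
    rw [Subgroup.mem_centralizer_singleton_iff]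
    exact congrArg Subtype.val
      (Subgroup.mem_center_iff.1 (pow_mem hz (l ^ (k - 1))) ⟨x, hx⟩)
  haveI := singer_cent_cyclic hθ hl (z := (w : ↥(fixG θ))) (by rw [Subgroup.orderOf_coe, hw])
  exact isCyclic_of_injective (Subgroup.inclusion hle) (Subgroup.inclusion_injective hle)

theorem split_sylow_cyclic {l : ℕ} [Fact l.Prime] (h2 : l ≠ 2) (hl : l ∣ Fintype.card K - 1)
    (P : Sylow l ↥(fixG θ)) : IsCyclic ↥(P : Subgroup ↥(fixG θ)) := by
  obtain ⟨g, hg'⟩ := exists_conj_le l (Hf θ) (Hf_index_prime hθ Fact.out h2 hl) P P.isPGroup'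
  haveI := Hf_cyclic hθ
  let f : ↥(P : Subgroup ↥(fixG θ)) →* ↥(Hf θ) :=
    { toFun := fun x => ⟨g⁻¹ * x * g, hg' x x.2⟩
      map_one' := Subtype.ext (by simp)
      map_mul' := fun x y => Subtype.ext (by simp [mul_assoc]) }
  exact isCyclic_of_injective f fun x y h =>
    Subtype.ext (mul_left_cancel (mul_right_cancel (congrArg Subtype.val h)))

end CfsgLib.ReeG2
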