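import Cfsg.Agent.Lib.ReeG2.Unip
import Cfsg.Agent.Lib.Chev.BN
import Cfsg.Agent.Lib.BN.Basic

/-!
The ideal spanned by the short root vectors in characteristic three: the two diagonal blocks, and the
relation `Img θ g g'` meaning that g' is the image of g under the exceptional endomorphism.
-/

set_option autoImplicit false
set_option linter.unusedSectionVars false

namespace CfsgLib.ReeG2

open Cfsg.Lie CfsgLib.Chev
open scoped Matrix

/-- basis indices of the ideal -/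
def sI : Fin 7 → chevG2.Idx :=
  ![Sum.inr ⟨2, by decide⟩, Sum.inr ⟨3, by decide⟩, Sum.inr ⟨4, by decide⟩, Sum.inr ⟨7, by decide⟩,
    Sum.inr ⟨8, by decide⟩, Sum.inr ⟨9, by decide⟩, Sum.inl ⟨0, by decide⟩]

/-- basis indices of the quotient, in the order corresponding to `sI` -/
def lI : Fin 7 → chevG2.Idx :=
  ![Sum.inr ⟨0, by decide⟩, Sum.inr ⟨1, by decide⟩, Sum.inr ⟨5, by decide⟩, Sum.inr ⟨6, by decide⟩,
    Sum.inr ⟨10, by decide⟩, Sum.inr ⟨11, by decide⟩, Sum.inl ⟨1, by decide⟩]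

/-- the correspondence of roots -/
def bar (r : ℕ) : ℕ := ([2, 3, 0, 1, 5, 4, 7, 6, 10, 11, 8, 9] : List ℕ).getD r 0

/-- whether a root is short -/
def isShort (r : ℕ) : Bool :=
  ([false, false, true, true, true, false, false, true, true, true, false, false] : List Bool).getD r false

theorem bar_lt {r : ℕ} (hr : r < 12) : bar r < 12 := by interval_cases r <;> decide

/-- both blocks -/
theorem sumIdx_bij : Function.Bijective (Sum.elim sI lI) := by decide +kernel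

theorem sum_idx {M : Type*} [AddCommMonoid M] (f : chevG2.Idx → M) :
    ∑ x, f x = ∑ i, f (sI i) + ∑ i, f (lI i) := by
  rw [← (Equiv.ofBijective _ sumIdx_bij).sum_comp, Fintype.sum_sum_type]
  rfl

theorem lI_ne_sI : ∀ i j : Fin 7, lI i ≠ sI j := by decide +kernel

theorem sI_inj : Function.Injective sI := by decide +kernel

theorem lI_inj : Function.Injective lI := by decide +kernel

/-- the entries of the tables at (x, y) -/
noncomputable def ent (k r : ℕ) (x y : chevG2.Idx) : ℤ := tabMat chevG2 G2.tabs k r x y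

theorem pres_chk : ∀ r : Fin 12, ∀ k : Fin 3, ∀ i j : Fin 7,
    ent (k.val + 1) r.val (lI i) (sI j) % 3 = 0 := by decide +kernel

theorem img_chk : ∀ r : Fin 12, ∀ i j : Fin 7,
    if isShort r.val then ∀ k : Fin 3,
      (ent (k.val + 1) (bar r.val) (lI i) (lI j) - ent (k.val + 1) r.val (sI i) (sI j)) % 3 = 0
    else ((ent 3 (bar r.val) (lI i) (lI j) - ent 1 r.val (sI i) (sI j)) % 3 = 0 ∧
      ent 1 (bar r.val) (lI i) (lI j) % 3 = 0 ∧ ent 2 (bar r.val) (lI i) (lI j) % 3 = 0 ∧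
      ent 2 r.val (sI i) (sI j) % 3 = 0 ∧ ent 3 r.val (sI i) (sI j) % 3 = 0) := by decide +kernel

variable {K : Type*} [Field K]

theorem X_apply {r : ℕ} (hr : r < 12) (t : K) (x y : chevG2.Idx) :
    ((X r t : GL chevG2.Idx K) : Matrix chevG2.Idx chevG2.Idx K) x y =
      (1 : Matrix chevG2.Idx chevG2.Idx K) x y + t * (ent 1 r x y : K) + t ^ 2 * (ent 2 r x y : K) +
        t ^ 3 * (ent 3 r x y : K) := by
  rw [coe_elX hc K hr, xMat_eq hc K hr]
  simp [xTab, ent]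

/-- g' is an image of g: on matrices -/
def Rel (θ : K ≃+* K) (g g' : Matrix chevG2.Idx chevG2.Idx K) : Prop :=
  (∀ i j, g (lI i) (sI j) = 0) ∧ (∀ i j, g' (lI i) (sI j) = 0) ∧
    ∀ i j, g' (lI i) (lI j) = θ.symm (g (sI i) (sI j))

theorem pres_mul {g h : Matrix chevG2.Idx chevG2.Idx K} (hg : ∀ i j, g (lI i) (sI j) = 0)
    (hh : ∀ i j, h (lI i) (sI j) = 0) (i j : Fin 7) : (g * h) (lI i) (sI j) = 0 := by
  rw [Matrix.mul_apply, sum_idx]
  simp [hg, hh]

theorem lblock_mul {g h : Matrix chevG2.Idx chevG2.Idx K} (hg : ∀ i j, g (lI i) (sI j) = 0) (i j : Fin 7) :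
    (g * h) (lI i) (lI j) = ∑ k, g (lI i) (lI k) * h (lI k) (lI j) := by
  rw [Matrix.mul_apply, sum_idx]
  simp [hg]

theorem sblock_mul {g h : Matrix chevG2.Idx chevG2.Idx K} (hh : ∀ i j, h (lI i) (sI j) = 0) (i j : Fin 7) :
    (g * h) (sI i) (sI j) = ∑ k, g (sI i) (sI k) * h (sI k) (sI j) := by
  rw [Matrix.mul_apply, sum_idx]
  simp [hh]

theorem Rel.mul {θ : K ≃+* K} {g g' h h' : Matrix chevG2.Idx chevG2.Idx K} (a : Rel θ g g') (b : Rel θ h h') :
    Rel θ (g * h) (g' * h') :=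
  ⟨pres_mul a.1 b.1, pres_mul a.2.1 b.2.1, fun i j => by
    rw [lblock_mul a.2.1, sblock_mul b.1, map_sum]
    simp only [map_mul, a.2.2, b.2.2]⟩

theorem Rel.one (θ : K ≃+* K) : Rel θ (1 : Matrix chevG2.Idx chevG2.Idx K) 1 := by
  refine ⟨fun i j => Matrix.one_apply_ne (lI_ne_sI i j), fun i j => Matrix.one_apply_ne (lI_ne_sI i j),
    fun i j => ?_⟩
  by_cases h : i = j
  · subst h; simp
  · rw [Matrix.one_apply_ne (fun e => h (lI_inj e)), Matrix.one_apply_ne (fun e => h (sI_inj e)), map_zero]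

/-- g' is the image of g under the endomorphism -/
def Img (θ : K ≃+* K) (g g' : GL chevG2.Idx K) : Prop :=
  Rel θ (g : Matrix chevG2.Idx chevG2.Idx K) g' ∧
    Rel θ ((g⁻¹ : GL chevG2.Idx K) : Matrix chevG2.Idx chevG2.Idx K) ((g'⁻¹ : GL chevG2.Idx K))

theorem Img.one (θ : K ≃+* K) : Img θ (1 : GL chevG2.Idx K) 1 := by
  simp only [Img, inv_one, Units.val_one]
  exact ⟨Rel.one θ, Rel.one θ⟩

theorem Img.mul {θ : K ≃+* K} {g g' h h' : GL chevG2.Idx K} (a : Img θ g g') (b : Img θ h h') :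
    Img θ (g * h) (g' * h') := by
  simp only [Img, mul_inv_rev, Units.val_mul]
  exact ⟨a.1.mul b.1, b.2.mul a.2⟩

theorem Img.inv {θ : K ≃+* K} {g g' : GL chevG2.Idx K} (a : Img θ g g') : Img θ g⁻¹ g'⁻¹ :=
  ⟨a.2, by rw [inv_inv, inv_inv]; exact a.1⟩

section Twist
variable [CharP K 3] {θ : K ≃+* K} (hθ : ∀ x, θ (θ x) ^ 3 = x)

theorem cast3 {a : ℤ} (h : a % 3 = 0) : (a : K) = 0 := by
  rw [CharP.intCast_eq_zero_iff K 3]
  omega

theorem cast3_eq {a b : ℤ} (h : (a - b) % 3 = 0) : (a : K) = b := by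
  rw [← sub_eq_zero, ← Int.cast_sub]
  exact cast3 h

include hθ in
theorem symm_eq (x : K) : θ.symm x = θ x ^ 3 := by
  rw [RingEquiv.symm_apply_eq, map_pow, hθ]

theorem pres_X {r : ℕ} (hr : r < 12) (t : K) (i j : Fin 7) :
    ((X r t : GL chevG2.Idx K) : Matrix chevG2.Idx chevG2.Idx K) (lI i) (sI j) = 0 := by
  rw [X_apply hr, Matrix.one_apply_ne (lI_ne_sI i j), cast3 (show ent 1 r _ _ % 3 = 0 from pres_chk ⟨r, hr⟩ 0 i j),
    cast3 (show ent 2 r _ _ % 3 = 0 from pres_chk ⟨r, hr⟩ 1 i j), cast3 (show ent 3 r _ _ % 3 = 0 from pres_chk ⟨r, hr⟩ 2 i j)]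
  ring

/-- the parameter of the image of a root element -/
def barPar (θ : K ≃+* K) (r : ℕ) (t : K) : K := if isShort r then θ t ^ 3 else θ t

include hθ

theorem rel_X {r : ℕ} (hr : r < 12) (t : K) :
    Rel θ ((X r t : GL chevG2.Idx K) : Matrix chevG2.Idx chevG2.Idx K)
      ((X (bar r) (barPar θ r t) : GL chevG2.Idx K) : Matrix chevG2.Idx chevG2.Idx K) := by
  refine ⟨pres_X hr t, pres_X (bar_lt hr) _, fun i j => ?_⟩
  rw [X_apply hr, X_apply (bar_lt hr)]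
  simp only [map_add, map_mul, map_pow, map_intCast, symm_eq hθ t]
  have h1 : θ.symm ((1 : Matrix chevG2.Idx chevG2.Idx K) (sI i) (sI j)) =
      (1 : Matrix chevG2.Idx chevG2.Idx K) (lI i) (lI j) := ((Rel.one θ).2.2 i j).symm
  rw [h1]
  have h := img_chk ⟨r, hr⟩ i j
  dsimp only at h
  rcases Bool.eq_false_or_eq_true (isShort r) with hs | hs
  · rw [if_pos hs] at h
    have a := cast3_eq (K := K) (h 0)
    have b := cast3_eq (K := K) (h 1)
    have c := cast3_eq (K := K) (h 2)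
    simp only [Fin.val_zero, Fin.val_one, Fin.val_two] at a b c
    simp only [barPar, hs, if_true, a, b, c]
  · rw [if_neg (by simp [hs])] at h
    obtain ⟨a, b, c, d, e⟩ := h
    simp only [barPar, hs, Bool.false_eq_true, if_false, cast3_eq (K := K) a, cast3 (K := K) b, cast3 (K := K) c,
      cast3 (K := K) d, cast3 (K := K) e]
    ring

theorem img_X {r : ℕ} (hr : r < 12) (t : K) : Img θ (X r t) (X (bar r) (barPar θ r t)) := by
  refine ⟨rel_X hθ hr t, ?_⟩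
  rw [X_inv hr, X_inv (bar_lt hr)]
  have := rel_X hθ hr (-t)
  rwa [show barPar θ r (-t) = -barPar θ r t from ?_] at this
  unfold barPar
  split_ifs
  · rw [map_neg, Odd.neg_pow (by decide)]
  · rw [map_neg]

theorem exists_img {g : GL chevG2.Idx K} (hg : g ∈ chevG2.group K) :
    ∃ g' ∈ chevG2.group K, Img θ g g' := by
  rw [group_eq hc] at hg
  induction hg using Subgroup.closure_induction with
  | mem x hx =>
      obtain ⟨r, t, hr, -, rfl⟩ := hx
      exact ⟨_, elX_mem_group hc (bar_lt hr) _, img_X hθ hr t⟩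
  | one => exact ⟨1, one_mem _, Img.one θ⟩
  | mul x y _ _ hx hy =>
      obtain ⟨a, ha, ha'⟩ := hx
      obtain ⟨b, hb, hb'⟩ := hy
      exact ⟨a * b, mul_mem ha hb, ha'.mul hb'⟩
  | inv x _ hx =>
      obtain ⟨a, ha, ha'⟩ := hx
      exact ⟨a⁻¹, inv_mem ha, ha'.inv⟩

/-- the image in coordinates on U -/
def sigCo (θ : K ≃+* K) (c : Co K) : Co K where
  p := θ c.q
  q := θ c.p ^ 3
  r := θ c.q * θ c.p ^ 3 + θ c.y
  s := θ c.q ^ 2 * θ c.p ^ 3 + θ c.z
  y := θ c.r ^ 3 - θ c.q ^ 3 * θ c.p ^ 3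
  z := θ c.s ^ 3 - θ c.q ^ 3 * (θ c.p ^ 3) ^ 2

theorem img_uu (c : Co K) : Img θ (uu c) (uu (sigCo θ c)) := by
  have h := ((((img_X hθ (show 7 < 12 by omega) c.p).mul (img_X hθ (show 6 < 12 by omega) c.q)).mul
    (img_X hθ (show 8 < 12 by omega) c.r)).mul (img_X hθ (show 9 < 12 by omega) c.s)).mul
    (img_X hθ (show 10 < 12 by omega) c.y) |>.mul (img_X hθ (show 11 < 12 by omega) c.z)
  have e : ∀ P Q R S Y Z : K, X 6 P * X 7 Q * X 10 R * X 11 S * X 8 Y * X 9 Z =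
      uu ⟨Q, P, Q * P + Y, Q ^ 2 * P + Z, R - Q ^ 3 * P, S - Q ^ 3 * P ^ 2⟩ := by
    intro P Q R S Y Z
    rw [show X 6 P = uu ⟨0, P, 0, 0, 0, 0⟩ by simp [uu, X_zero],
      show X 7 Q = uu ⟨Q, 0, 0, 0, 0, 0⟩ by simp [uu, X_zero],
      show X 10 R = uu ⟨0, 0, 0, 0, R, 0⟩ by simp [uu, X_zero],
      show X 11 S = uu ⟨0, 0, 0, 0, 0, S⟩ by simp [uu, X_zero],
      show X 8 Y = uu ⟨0, 0, Y, 0, 0, 0⟩ by simp [uu, X_zero],
      show X 9 Z = uu ⟨0, 0, 0, Z, 0, 0⟩ by simp [uu, X_zero]]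
    simp only [uu_mul]
    congr 1
    ext <;> simp only [Co.mul] <;> ring
  show Img θ (X 7 c.p * X 6 c.q * X 8 c.r * X 9 c.s * X 10 c.y * X 11 c.z) _
  change Img θ _ (X 6 (θ c.p ^ 3) * X 7 (θ c.q) * X 10 (θ c.r ^ 3) * X 11 (θ c.s ^ 3) * X 8 (θ c.y) *
    X 9 (θ c.z)) at h
  rw [e] at h
  exact h

end Twist

end CfsgLib.ReeG2
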