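import Cfsg.Agent.Lib.ReeG2.Struct
import Mathlib.LinearAlgebra.Matrix.ProjectiveSpecialLinearGroup

/-!
The centraliser of the involution of H¹ is the product of a group of order two with PSL₂(q).
-/

set_option autoImplicit false
set_option linter.unusedSectionVars false

namespace CfsgLib.ReeG2

open Cfsg.Lie CfsgLib.Chev
open scoped Matrix MatrixGroups

/-- positions of the four short roots inverted by the involution -/
def wI4 : Fin 4 → Fin 7 := ![5, 3, 2, 0]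

/-- first factor of a position -/
def hi2 : Fin 4 → Fin 2 := ![0, 0, 1, 1]

/-- second factor of a position -/
def lo2 : Fin 4 → Fin 2 := ![0, 1, 0, 1]

/-- signs of the basis -/
def sg4 : Fin 4 → ℤ := ![1, -1, -1, -1]

variable {K : Type*} [Field K]

/-- the action on the subspace inverted by the involution -/
def W4 (x : GL chevG2.Idx K) : Matrix (Fin 4) (Fin 4) K :=
  fun i j => (x : Matrix chevG2.Idx chevG2.Idx K) (sI (wI4 i)) (sI (wI4 j))

/-- g ⊗ θ g in a signed basis -/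
def kap (θ : K ≃+* K) (g : SL(2, K)) : Matrix (Fin 4) (Fin 4) K :=
  fun i j => (sg4 i : K) * (sg4 j : K) * g.1 (hi2 i) (hi2 j) * θ (g.1 (lo2 i) (lo2 j))

theorem kap_mul (θ : K ≃+* K) (g h : SL(2, K)) : kap θ (g * h) = kap θ g * kap θ h := by
  funext i j
  rw [Matrix.mul_apply, Fin.sum_univ_four]
  simp only [kap, Matrix.SpecialLinearGroup.coe_mul, Matrix.mul_apply, Fin.sum_univ_two, map_add, map_mul]
  fin_cases i <;> fin_cases j <;> simp [sg4, hi2, lo2] <;> ring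

theorem kap_one (θ : K ≃+* K) : kap θ (1 : SL(2, K)) = 1 := by
  funext i j
  fin_cases i <;> fin_cases j <;> simp [kap, sg4, hi2, lo2, Matrix.one_apply]

/-- upper transvection -/
def eE (u : K) : SL(2, K) := ⟨!![1, u; 0, 1], by simp [Matrix.det_fin_two]⟩

/-- lower transvection -/
def eF (u : K) : SL(2, K) := ⟨!![1, 0; u, 1], by simp [Matrix.det_fin_two]⟩

theorem eE_val (u : K) : (eE u).1 = !![1, u; 0, 1] := rfl

theorem eF_val (u : K) : (eF u).1 = !![1, 0; u, 1] := rfl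

theorem sl2_closure (S : Subgroup (SL(2, K))) (hE : ∀ u, eE u ∈ S) (hF : ∀ u, eF u ∈ S) : S = ⊤ := by
  have key : ∀ g : SL(2, K), g.1 1 0 ≠ 0 → g ∈ S := by
    intro g hc
    have hd : g.1 0 0 * g.1 1 1 - g.1 0 1 * g.1 1 0 = 1 := (Matrix.det_fin_two g.1).symm.trans g.2
    have e : g = eE ((g.1 0 0 - 1) / g.1 1 0) * eF (g.1 1 0) * eE ((g.1 1 1 - 1) / g.1 1 0) := by
      apply Subtype.ext
      rw [Matrix.SpecialLinearGroup.coe_mul, Matrix.SpecialLinearGroup.coe_mul]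
      show g.1 = !![1, (g.1 0 0 - 1) / g.1 1 0; 0, 1] * !![1, 0; g.1 1 0, 1] *
        !![1, (g.1 1 1 - 1) / g.1 1 0; 0, 1]
      ext i j
      fin_cases i <;> fin_cases j <;> simp [Matrix.mul_apply, Fin.sum_univ_two] <;> field_simp <;>
        first | linear_combination (-1 : K) * hd | linear_combination hd | ring
    rw [e]
    exact mul_mem (mul_mem (hE _) (hF _)) (hE _)
  rw [eq_top_iff]
  intro g _
  by_cases hc : g.1 1 0 = 0
  · have hd : g.1 1 1 ≠ 0 := by
      intro h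
      have := (Matrix.det_fin_two g.1).symm.trans g.2
      rw [hc, h] at this
      simp at this
    have h1 : (g * eF 1).1 1 0 ≠ 0 := by
      rw [Matrix.SpecialLinearGroup.coe_mul]
      simp [eF_val, Matrix.mul_apply, Fin.sum_univ_two, hc, hd]
    simpa using mul_mem (key _ h1) (inv_mem (hF 1))
  · exact key g hc

theorem kap_eq_one {θ : K ≃+* K} {g : SL(2, K)} (h : kap θ g = 1) : g = 1 ∨ g = -1 := by
  have e : ∀ i j, kap θ g i j = (1 : Matrix (Fin 4) (Fin 4) K) i j := fun i j => by rw [h]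
  have hd : g.1 0 0 * g.1 1 1 - g.1 0 1 * g.1 1 0 = 1 := (Matrix.det_fin_two g.1).symm.trans g.2
  have a := e 0 0
  have b := e 2 2
  have c := e 0 2
  have d := e 2 0
  have p := e 0 3
  have q := e 3 0
  simp [kap, sg4, hi2, lo2, Matrix.one_apply] at a b c d p q
  have h00 : g.1 0 0 ≠ 0 := left_ne_zero_of_mul_eq_one a
  have h01 : g.1 0 1 = 0 := p
  have h10 : g.1 1 0 = 0 := q
  rw [h01, h10] at hd
  have h11 : g.1 1 1 = g.1 0 0 :=
    mul_right_cancel₀ ((map_ne_zero θ).2 h00) (b.trans a.symm)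
  rw [h11] at hd
  rcases mul_self_eq_one_iff.1 (show g.1 0 0 * g.1 0 0 = 1 by linear_combination hd) with e | e
  · left; ext i j; fin_cases i <;> fin_cases j <;> simp [e, h01, h10, h11]
  · right; ext i j; fin_cases i <;> fin_cases j <;> simp [e, h01, h10, h11]

theorem kap_ne_neg_one {θ : K ≃+* K} (h2 : (-1 : K) ≠ 1) (g : SL(2, K)) : kap θ g ≠ -1 := by
  intro h
  have e : ∀ i j, kap θ g i j = (-1 : Matrix (Fin 4) (Fin 4) K) i j := fun i j => by rw [h]
  have hd : g.1 0 0 * g.1 1 1 - g.1 0 1 * g.1 1 0 = 1 := (Matrix.det_fin_two g.1).symm.trans g.2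
  have a := e 0 0
  have b := e 2 2
  have p := e 0 3
  have q := e 3 0
  simp [kap, sg4, hi2, lo2, Matrix.neg_apply, Matrix.one_apply] at a b p q
  have h00 : g.1 0 0 ≠ 0 := fun e => by simp [e] at a
  have h01 : g.1 0 1 = 0 := p
  have h10 : g.1 1 0 = 0 := q
  rw [h01, h10] at hd
  have h11 : g.1 1 1 = g.1 0 0 := mul_right_cancel₀ ((map_ne_zero θ).2 h00) (b.trans a.symm)
  rw [h11] at hd
  rcases mul_self_eq_one_iff.1 (show g.1 0 0 * g.1 0 0 = 1 by linear_combination hd) with e | e <;>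
    rw [e] at a <;> simp at a <;> exact h2 a.symm

variable [CharP K 3] {θ : K ≃+* K}

/-- the centraliser of the involution of H¹ -/
noncomputable def C0 (θ : K ≃+* K) : Subgroup (GL chevG2.Idx K) :=
  fixG θ ⊓ Subgroup.centralizer {hh θ (-1 : Kˣ)}

theorem neg_one_ne_one : (-1 : K) ≠ 1 := fun h =>
  one_ne_zero (α := K) (by linear_combination h + three (K := K))

/-- the sign of a short position under the involution -/
def sgn7 : Fin 7 → ℤ := ![-1, 1, -1, -1, 1, -1, 1]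

theorem diag_inv_entry (i : Fin 7) :
    (chi (chr (-1 : Kˣ) (bb θ (-1 : Kˣ))) (wI chevG2 G2.tabs (sI i)) : K) = (sgn7 i : K) := by
  rw [(sW_spec i).1, chi_chr, bb_neg_one]
  fin_cases i <;> simp [sW, sgn7]

theorem C0_commute {x : GL chevG2.Idx K} (hx : x ∈ C0 θ) : hh θ (-1 : Kˣ) * x = x * hh θ (-1 : Kˣ) :=
  Subgroup.mem_centralizer_iff.1 hx.2 _ rfl

theorem C0_entry {x : GL chevG2.Idx K} (hx : x ∈ C0 θ) {i j : Fin 7} (h : sgn7 i ≠ sgn7 j) :
    (x : Matrix chevG2.Idx chevG2.Idx K) (sI i) (sI j) = 0 := by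
  have e := congrArg (fun g : GL chevG2.Idx K => (g : Matrix chevG2.Idx chevG2.Idx K) (sI i) (sI j))
    (C0_commute hx)
  simp only [Units.val_mul, hh_def, tor, coe_torus, Matrix.diagonal_mul, Matrix.mul_diagonal, diag_inv_entry] at e
  have h1 : ∀ i, sgn7 i = 1 ∨ sgn7 i = -1 := by decide
  rcases h1 i with a | a <;> rcases h1 j with b | b <;> rw [a, b] at h e <;> simp at e
  · exact absurd rfl h
  · linear_combination (-1 : K) * e + ((x : Matrix chevG2.Idx chevG2.Idx K) (sI i) (sI j)) * three (K := K)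
  · linear_combination e + ((x : Matrix chevG2.Idx chevG2.Idx K) (sI i) (sI j)) * three (K := K)
  · exact absurd rfl h

variable (hθ : IsRee θ)
include hθ

theorem W4_mul {x y : GL chevG2.Idx K} (hx : x ∈ C0 θ) (hy : y ∈ C0 θ) : W4 (x * y) = W4 x * W4 y := by
  funext i j
  obtain ⟨y', -, hy'⟩ := exists_img hθ hy.1.1
  show ((x * y : GL chevG2.Idx K) : Matrix chevG2.Idx chevG2.Idx K) (sI (wI4 i)) (sI (wI4 j)) = _
  rw [Units.val_mul, sblock_mul hy'.1.1, Matrix.mul_apply, Fin.sum_univ_four, Fin.sum_univ_seven]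
  have s1 : sgn7 1 ≠ sgn7 (wI4 j) ∧ sgn7 4 ≠ sgn7 (wI4 j) ∧ sgn7 6 ≠ sgn7 (wI4 j) := by
    fin_cases j <;> decide
  rw [C0_entry hy s1.1, C0_entry hy s1.2.1, C0_entry hy s1.2.2]
  simp [W4, wI4]
  ring

omit hθ in
theorem W4_one : W4 (1 : GL chevG2.Idx K) = 1 := by
  funext i j
  fin_cases i <;> fin_cases j <;> simp [W4, wI4, Matrix.one_apply, sI_inj.eq_iff]

omit hθ in
theorem ru_u (u : K) : ru θ 0 u 0 = X 8 (θ u) * X 10 u := by simp [ru, rc, uu, X_zero]

omit hθ in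
theorem ru_u_conj (u : K) : n0 K * ru θ 0 u 0 * (n0 K)⁻¹ = X 3 (-θ u) * X 1 (-u) := by
  rw [ru_u, ← n0_conj (show 8 < 12 by omega), ← n0_conj (show 10 < 12 by omega)]; group

theorem ru_u_mem (u : K) : ru θ 0 u 0 ∈ C0 θ := by
  refine ⟨ru_mem_fixG hθ _ _ _, Subgroup.mem_centralizer_iff.2 fun z hz => ?_⟩
  rw [Set.mem_singleton_iff] at hz
  subst hz
  rw [ru_mul_hh hθ, bb_neg_one]
  congr 2 <;> simp [pow_succ]

theorem n0_mem_C0 : n0 K ∈ C0 θ := by
  refine ⟨n0_mem_fixG hθ, Subgroup.mem_centralizer_iff.2 fun z hz => ?_⟩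
  rw [Set.mem_singleton_iff] at hz
  subst hz
  rw [n0_mul_hh, inv_neg, inv_one]

theorem hh_mem_C0 (a : Kˣ) : hh θ a ∈ C0 θ := by
  refine ⟨hh_mem_fixG hθ a, Subgroup.mem_centralizer_iff.2 fun z hz => ?_⟩
  rw [Set.mem_singleton_iff] at hz
  subst hz
  exact hh_comm _ _

theorem conj_u_mem (u : K) : n0 K * ru θ 0 u 0 * (n0 K)⁻¹ ∈ C0 θ :=
  mul_mem (mul_mem (n0_mem_C0 hθ) (ru_u_mem hθ u)) (inv_mem (n0_mem_C0 hθ))

omit hθ in
/-- the entries of root elements on the four positions -/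
theorem X_chk4 : ∀ r : Fin 12, r.val ∈ [1, 3, 8, 10] → ∀ i j : Fin 4,
    (ent 2 r.val (sI (wI4 i)) (sI (wI4 j)) % 3 = 0 ∧ ent 3 r.val (sI (wI4 i)) (sI (wI4 j)) % 3 = 0) ∧
    (ent 1 r.val (sI (wI4 i)) (sI (wI4 j)) - sg4 i * sg4 j *
      (if r.val = 8 then (if hi2 i = hi2 j ∧ lo2 i = 0 ∧ lo2 j = 1 then 1 else 0)
       else if r.val = 10 then (if lo2 i = lo2 j ∧ hi2 i = 0 ∧ hi2 j = 1 then 1 else 0)
       else if r.val = 3 then (if hi2 i = hi2 j ∧ lo2 i = 1 ∧ lo2 j = 0 then 1 else 0)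
       else (if lo2 i = lo2 j ∧ hi2 i = 1 ∧ hi2 j = 0 then 1 else 0))) % 3 = 0 := by decide +kernel

omit hθ in
theorem W4_X (r : Fin 12) (hr : r.val ∈ [1, 3, 8, 10]) (t : K) (i j : Fin 4) :
    W4 (X r.val t) i j = (1 : Matrix (Fin 4) (Fin 4) K) i j + (sg4 i : K) * (sg4 j : K) * t *
      (if r.val = 8 then (if hi2 i = hi2 j ∧ lo2 i = 0 ∧ lo2 j = 1 then 1 else 0)
       else if r.val = 10 then (if lo2 i = lo2 j ∧ hi2 i = 0 ∧ hi2 j = 1 then 1 else 0)
       else if r.val = 3 then (if hi2 i = hi2 j ∧ lo2 i = 1 ∧ lo2 j = 0 then 1 else 0)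
       else (if lo2 i = lo2 j ∧ hi2 i = 1 ∧ hi2 j = 0 then 1 else 0)) := by
  obtain ⟨⟨h2, h3⟩, h1⟩ := X_chk4 r hr i j
  show ((X r.val t : GL chevG2.Idx K) : Matrix chevG2.Idx chevG2.Idx K) _ _ = _
  rw [X_apply r.2, cast3 (K := K) h2, cast3 (K := K) h3, cast3_eq (K := K) h1]
  have e : (1 : Matrix chevG2.Idx chevG2.Idx K) (sI (wI4 i)) (sI (wI4 j)) =
      (1 : Matrix (Fin 4) (Fin 4) K) i j := by
    have hw : Function.Injective (sI ∘ wI4) := sI_inj.comp (by decide)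
    by_cases h : i = j
    · subst h; simp
    · rw [Matrix.one_apply_ne h, Matrix.one_apply_ne (show sI (wI4 i) ≠ sI (wI4 j) from fun e => h (hw e))]
  rw [e]
  push_cast [apply_ite (Int.cast (R := K))]
  ring

theorem W4_u (u : K) : W4 (ru θ 0 u 0) = kap θ (eE u) := by
  have hm : ∀ r : ℕ, r < 12 → ∀ t : K, X r t ∈ chevG2.group K := fun r hr t => elX_mem_group hc hr t
  rw [ru_u]
  funext i j
  show ((X 8 (θ u) * X 10 u : GL chevG2.Idx K) : Matrix chevG2.Idx chevG2.Idx K) (sI (wI4 i)) (sI (wI4 j)) = _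
  rw [Units.val_mul, sblock_mul (fun i j => pres_X (show 10 < 12 by omega) u i j), Fin.sum_univ_seven]
  have hz : ∀ k : Fin 7, k ∈ ([1, 4, 6] : List (Fin 7)) → ∀ j : Fin 4, ∀ n : Fin 3,
      ent (n.val + 1) 10 (sI k) (sI (wI4 j)) % 3 = 0 := by decide +kernel
  have hz' : ∀ k : Fin 7, k ∈ ([1, 4, 6] : List (Fin 7)) →
      ((X 10 u : GL chevG2.Idx K) : Matrix chevG2.Idx chevG2.Idx K) (sI k) (sI (wI4 j)) = 0 := by
    intro k hk
    have hne : k ≠ wI4 j := by
      simp only [List.mem_cons, List.not_mem_nil, or_false] at hk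
      rcases hk with rfl | rfl | rfl <;> fin_cases j <;> decide
    rw [X_apply (show 10 < 12 by omega), Matrix.one_apply_ne fun e => hne (sI_inj e),
      cast3 (show ent 1 10 _ _ % 3 = 0 from hz k hk j 0), cast3 (show ent 2 10 _ _ % 3 = 0 from hz k hk j 1),
      cast3 (show ent 3 10 _ _ % 3 = 0 from hz k hk j 2)]
    ring
  rw [hz' 1 (by simp), hz' 4 (by simp), hz' 6 (by simp)]
  have a := fun k => W4_X (K := K) ⟨8, by omega⟩ (by simp) (θ u) i k
  have b := fun k => W4_X (K := K) ⟨10, by omega⟩ (by simp) u k j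
  simp only [W4] at a b
  have a0 := a 0; have a1 := a 1; have a2 := a 2; have a3 := a 3
  have b0 := b 0; have b1 := b 1; have b2 := b 2; have b3 := b 3
  simp only [wI4, Matrix.cons_val_zero, Matrix.cons_val_one, Matrix.cons_val, Fin.isValue] at a0 a1 a2 a3 b0 b1 b2 b3 ⊢
  rw [a0, a1, a2, a3, b0, b1, b2, b3]
  fin_cases i <;> fin_cases j <;> simp [kap, eE_val, sg4, hi2, lo2, Matrix.one_apply] <;> ring

theorem W4_conj_u (u : K) : W4 (n0 K * ru θ 0 u 0 * (n0 K)⁻¹) = kap θ (eF (-u)) := by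
  rw [ru_u_conj]
  funext i j
  show ((X 3 (-θ u) * X 1 (-u) : GL chevG2.Idx K) : Matrix chevG2.Idx chevG2.Idx K) (sI (wI4 i)) (sI (wI4 j)) = _
  rw [Units.val_mul, sblock_mul (fun i j => pres_X (show 1 < 12 by omega) (-u) i j), Fin.sum_univ_seven]
  have hz : ∀ k : Fin 7, k ∈ ([1, 4, 6] : List (Fin 7)) → ∀ j : Fin 4, ∀ n : Fin 3,
      ent (n.val + 1) 1 (sI k) (sI (wI4 j)) % 3 = 0 := by decide +kernel
  have hz' : ∀ k : Fin 7, k ∈ ([1, 4, 6] : List (Fin 7)) →
      ((X 1 (-u) : GL chevG2.Idx K) : Matrix chevG2.Idx chevG2.Idx K) (sI k) (sI (wI4 j)) = 0 := by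
    intro k hk
    have hne : k ≠ wI4 j := by
      simp only [List.mem_cons, List.not_mem_nil, or_false] at hk
      rcases hk with rfl | rfl | rfl <;> fin_cases j <;> decide
    rw [X_apply (show 1 < 12 by omega), Matrix.one_apply_ne fun e => hne (sI_inj e),
      cast3 (show ent 1 1 _ _ % 3 = 0 from hz k hk j 0), cast3 (show ent 2 1 _ _ % 3 = 0 from hz k hk j 1),
      cast3 (show ent 3 1 _ _ % 3 = 0 from hz k hk j 2)]
    ring
  rw [hz' 1 (by simp), hz' 4 (by simp), hz' 6 (by simp)]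
  have a := fun k => W4_X (K := K) ⟨3, by omega⟩ (by simp) (-θ u) i k
  have b := fun k => W4_X (K := K) ⟨1, by omega⟩ (by simp) (-u) k j
  simp only [W4] at a b
  have a0 := a 0; have a1 := a 1; have a2 := a 2; have a3 := a 3
  have b0 := b 0; have b1 := b 1; have b2 := b 2; have b3 := b 3
  simp only [wI4, Matrix.cons_val_zero, Matrix.cons_val_one, Matrix.cons_val, Fin.isValue] at a0 a1 a2 a3 b0 b1 b2 b3 ⊢
  rw [a0, a1, a2, a3, b0, b1, b2, b3]
  fin_cases i <;> fin_cases j <;> simp [kap, eF_val, sg4, hi2, lo2, Matrix.one_apply] <;> ring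

omit hθ in
theorem W4_neg_one : W4 (hh θ (-1 : Kˣ)) = -1 := by
  funext i j
  simp only [W4, hh_def, tor, coe_torus, Matrix.neg_apply]
  have hw : Function.Injective (sI ∘ wI4) := sI_inj.comp (by decide)
  by_cases h : i = j
  · subst h
    rw [Matrix.diagonal_apply_eq, diag_inv_entry, Matrix.one_apply_eq]
    fin_cases i <;> simp [wI4, sgn7]
  · rw [Matrix.diagonal_apply_ne _ (show sI (wI4 i) ≠ sI (wI4 j) from fun e => h (hw e)), Matrix.one_apply_ne h, neg_zero]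

/-- the normal forms in the centraliser -/
theorem C0_cases {x : GL chevG2.Idx K} (hx : x ∈ C0 θ) :
    (∃ u c, x = ru θ 0 u 0 * hh θ c) ∨ ∃ u c u', x = ru θ 0 u 0 * hh θ c * n0 K * ru θ 0 u' 0 := by
  have e2 : ∀ y : K, -y = y → y = 0 := fun y h => by linear_combination h + y * three (K := K)
  have hcm : hh θ (-1 : Kˣ) * x * (hh θ (-1 : Kˣ))⁻¹ = x := by rw [C0_commute hx, mul_inv_cancel_right]
  set k := hh θ (-1 : Kˣ)
  rcases fixG_cases hθ hx.1 with ⟨t, u, v, b, rfl⟩ | ⟨t, u, v, b, t', u', v', rfl⟩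
  · rw [show k * (ru θ t u v * hh θ b) * k⁻¹ = (k * ru θ t u v * k⁻¹) * (k * hh θ b * k⁻¹) by group,
      neg_one_conj_ru hθ, hh_mul, hh_inv, hh_mul, mul_comm (-1 : Kˣ) b, mul_inv_cancel_right] at hcm
    obtain ⟨h1, -, h3, -⟩ := small_unique hcm
    exact Or.inl ⟨u, b, by rw [e2 t h1, e2 v h3]⟩
  · rw [show k * (ru θ t u v * hh θ b * n0 K * ru θ t' u' v') * k⁻¹ =
        (k * ru θ t u v * k⁻¹) * (k * hh θ b * (n0 K * k⁻¹ * (n0 K)⁻¹)) * n0 K *
          (k * ru θ t' u' v' * k⁻¹) by group,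
      neg_one_conj_ru hθ, neg_one_conj_ru hθ, hh_inv, n0_conj_hh, inv_inv, hh_mul, hh_mul] at hcm
    obtain ⟨h1, -, h3, -, h5, -, h7⟩ := big_unique hcm
    exact Or.inr ⟨u, b, u', by rw [e2 t h1, e2 v h3, e2 t' h5, e2 v' h7]⟩

omit hθ in
/-- the subgroup acting as g ⊗ θ g -/
noncomputable def L0 (hθ : IsRee θ) : Subgroup (GL chevG2.Idx K) where
  carrier := {x | x ∈ C0 θ ∧ ∃ g, W4 x = kap θ g}
  one_mem' := ⟨one_mem _, 1, by rw [W4_one, kap_one]⟩
  mul_mem' := by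
    rintro x y ⟨hx, g, eg⟩ ⟨hy, h, eh⟩
    exact ⟨mul_mem hx hy, g * h, by rw [W4_mul hθ hx hy, eg, eh, kap_mul]⟩
  inv_mem' := by
    rintro x ⟨hx, g, eg⟩
    refine ⟨inv_mem hx, g⁻¹, ?_⟩
    have h1 : W4 x * W4 x⁻¹ = 1 := by rw [← W4_mul hθ hx (inv_mem hx), mul_inv_cancel, W4_one]
    rw [eg] at h1
    have h2 : kap θ g⁻¹ * kap θ g = 1 := by rw [← kap_mul, inv_mul_cancel, kap_one]
    rw [← one_mul (W4 x⁻¹), ← h2, Matrix.mul_assoc, h1, mul_one]

theorem u_mem_L0 (u : K) : ru θ 0 u 0 ∈ L0 hθ := ⟨ru_u_mem hθ u, _, W4_u hθ u⟩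

theorem cu_mem_L0 (u : K) : n0 K * ru θ 0 u 0 * (n0 K)⁻¹ ∈ L0 hθ := ⟨conj_u_mem hθ u, _, W4_conj_u hθ u⟩

theorem pair_mem_L0 (u : Kˣ) :
    elN chevG2 K 8 (Units.map (θ : K →* K) u : Kˣ) * elN chevG2 K 10 (u : K) ∈ L0 hθ := by
  have hch : ∀ z ∈ ([(8, 10), (8, 1), (3, 10), (3, 1)] : List (ℕ × ℕ)), z.1 < 12 ∧ z.2 < 12 ∧
      z.2 ≠ chevG2.neg z.1 ∧ chevG2.chainEntry z.1 z.2 = [] := by decide +kernel
  have c : ∀ p q : ℕ, (p, q) ∈ [(8, 10), (8, 1), (3, 10), (3, 1)] → ∀ a b : K, Commute (X p a) (X q b) := by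
    intro p q hm a b
    obtain ⟨hp, hq, h1, h2⟩ := hch (p, q) hm
    exact CfsgLib.Twisted.commute_elX hc hp hq h1 h2 a b
  have h := mul_mem (mul_mem (u_mem_L0 hθ (u : K)) (cu_mem_L0 hθ ((u : K)⁻¹))) (u_mem_L0 hθ (u : K))
  rw [ru_u_conj, ru_u, map_inv₀] at h
  have e8 : chevG2.neg 8 = 3 := by decide +kernel
  have e10 : chevG2.neg 10 = 1 := by decide +kernel
  rw [elN, elN, e8, e10]
  simp only [Units.coe_map, MonoidHom.coe_coe]
  set A := X 8 (θ (u : K))
  set B := X 3 (-(θ (u : K))⁻¹)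
  set C := X 10 (u : K)
  set D := X 1 (-(u : K)⁻¹)
  have h1 : C * B = B * C := (c 3 10 (by simp) _ _).eq.symm
  have h2 : C * A = A * C := (c 8 10 (by simp) _ _).eq.symm
  have h3 : D * A = A * D := (c 8 1 (by simp) _ _).eq.symm
  have e : A * B * A * (C * D * C) = A * C * (B * D) * (A * C) := by
    calc A * B * A * (C * D * C) = A * B * (A * C) * D * C := by group
      _ = A * B * (C * A) * D * C := by rw [h2]
      _ = A * (B * C) * (A * D) * C := by group
      _ = A * (C * B) * (D * A) * C := by rw [h1, h3]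
      _ = _ := by group
  rw [e]
  exact h

theorem n0_mem_L0 : n0 K ∈ L0 hθ := by simpa [n0] using pair_mem_L0 hθ 1

theorem neg_one_not_mem_L0 : hh θ (-1 : Kˣ) ∉ L0 hθ := by
  rintro ⟨-, g, e⟩
  rw [W4_neg_one] at e
  exact kap_ne_neg_one neg_one_ne_one g e.symm

/-- every element of the centraliser is in L up to the involution -/
theorem C0_cover [Fintype K] {x : GL chevG2.Idx K} (hx : x ∈ C0 θ) :
    x ∈ L0 hθ ∨ hh θ (-1 : Kˣ) * x ∈ L0 hθ := by
  let S : Subgroup Kˣ :=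
    { carrier := {c | hh θ c ∈ L0 hθ ∨ hh θ (-c) ∈ L0 hθ}
      one_mem' := Or.inl (by rw [hh_one]; exact one_mem _)
      mul_mem' := by
        rintro a b (ha | ha) (hb | hb)
        · exact Or.inl (by rw [← hh_mul]; exact mul_mem ha hb)
        · exact Or.inr (by rw [← mul_neg, ← hh_mul]; exact mul_mem ha hb)
        · exact Or.inr (by rw [← neg_mul, ← hh_mul]; exact mul_mem ha hb)
        · exact Or.inl (by rw [← neg_mul_neg a b, ← hh_mul]; exact mul_mem ha hb)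
      inv_mem' := by
        rintro a (ha | ha)
        · exact Or.inl (by rw [← hh_inv]; exact inv_mem ha)
        · exact Or.inr (by rw [← inv_neg, ← hh_inv]; exact inv_mem ha) }
  have hS : S = ⊤ := eq_top_of_gen hθ (fun u => Or.inl (by
    show hh θ _ ∈ L0 hθ
    have h := mul_mem (pair_mem_L0 hθ u) (inv_mem (n0_mem_L0 hθ))
    rw [elN_pair, mul_inv_cancel_right] at h
    rw [hh_def]
    convert h using 3
    apply Units.ext
    simp only [coe_bb, Units.val_mul, Units.val_inv_eq_inv_val, Units.coe_map, MonoidHom.coe_coe,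
      Units.val_pow_eq_pow_val, map_mul, map_inv₀, mul_pow, inv_pow]
    rw [hθ]
    ring)) (Or.inr (by rw [neg_neg, hh_one]; exact one_mem _))
  have hc0 : ∀ c, hh θ c ∈ L0 hθ ∨ hh θ (-1 : Kˣ) * hh θ c ∈ L0 hθ := fun c => by
    have hm : c ∈ S := by rw [hS]; trivial
    rcases hm with h | h
    · exact Or.inl h
    · exact Or.inr (by rw [hh_mul, neg_one_mul]; exact h)
  have comm : ∀ w, w ∈ C0 θ → hh θ (-1 : Kˣ) * w = w * hh θ (-1 : Kˣ) := fun w hw => C0_commute hw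
  rcases C0_cases hθ hx with ⟨u, c, rfl⟩ | ⟨u, c, u', rfl⟩
  · rcases hc0 c with h | h
    · exact Or.inl (mul_mem (u_mem_L0 hθ u) h)
    · right
      rw [← mul_assoc, comm _ (ru_u_mem hθ u), mul_assoc]
      exact mul_mem (u_mem_L0 hθ u) h
  · rcases hc0 c with h | h
    · exact Or.inl (mul_mem (mul_mem (mul_mem (u_mem_L0 hθ u) h) (n0_mem_L0 hθ)) (u_mem_L0 hθ u'))
    · right
      rw [← mul_assoc, ← mul_assoc, ← mul_assoc, comm _ (ru_u_mem hθ u), mul_assoc (ru θ 0 u 0)]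
      exact mul_mem (mul_mem (mul_mem (u_mem_L0 hθ u) h) (n0_mem_L0 hθ)) (u_mem_L0 hθ u')

theorem W4_inj {x : GL chevG2.Idx K} (hx : x ∈ C0 θ) (h : W4 x = 1) : x = 1 := by
  have hd : ∀ c : Kˣ, ∀ i j : Fin 4, W4 (hh θ c) i j =
      if i = j then (chi (chr c (bb θ c)) (wI chevG2 G2.tabs (sI (wI4 i))) : K) else 0 := by
    intro c i j
    have hw : Function.Injective (sI ∘ wI4) := sI_inj.comp (by decide)
    simp only [W4, hh_def, tor, coe_torus]
    by_cases e : i = j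
    · subst e; rw [Matrix.diagonal_apply_eq, if_pos rfl]
    · rw [Matrix.diagonal_apply_ne _ (show sI (wI4 i) ≠ sI (wI4 j) from fun e' => e (hw e')), if_neg e]
  have hu : ∀ u, W4 (ru θ 0 u 0) * W4 (ru θ 0 (-u) 0) = 1 := fun u => by
    rw [W4_u hθ, W4_u hθ, ← kap_mul, ← kap_one θ]
    congr 1
    ext i j
    rw [Matrix.SpecialLinearGroup.coe_mul, eE_val, eE_val]
    fin_cases i <;> fin_cases j <;> simp [Matrix.mul_apply, Fin.sum_univ_two]
  rcases C0_cases hθ hx with ⟨u, c, rfl⟩ | ⟨u, c, u', rfl⟩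
  · rw [W4_mul hθ (ru_u_mem hθ u) (hh_mem_C0 hθ c)] at h
    have h11 := congrFun (congrFun h 1) 1
    have h02 := congrFun (congrFun h 0) 2
    rw [Matrix.mul_apply, Fin.sum_univ_four, W4_u hθ, hd, hd, hd, hd] at h11 h02
    simp [kap, eE_val, sg4, hi2, lo2] at h11 h02
    rw [show wI4 1 = 3 from rfl, (sW_spec 3).1, chi_chr] at h11
    simp [sW] at h11
    have hc1 : c = 1 := h11
    subst hc1
    rw [h02, ru_zero, one_mul, hh_one]
  · exfalso
    rw [W4_mul hθ (mul_mem (mul_mem (ru_u_mem hθ u) (hh_mem_C0 hθ c)) (n0_mem_C0 hθ)) (ru_u_mem hθ u'),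
      W4_mul hθ (mul_mem (ru_u_mem hθ u) (hh_mem_C0 hθ c)) (n0_mem_C0 hθ),
      W4_mul hθ (ru_u_mem hθ u) (hh_mem_C0 hθ c)] at h
    have h1 : W4 (hh θ c) * W4 (n0 K) = W4 (ru θ 0 (-u) 0) * W4 (ru θ 0 (-u') 0) := by
      have a := hu (-u)
      rw [neg_neg] at a
      calc W4 (hh θ c) * W4 (n0 K)
          = W4 (ru θ 0 (-u) 0) * (W4 (ru θ 0 u 0) * W4 (hh θ c) * W4 (n0 K) * W4 (ru θ 0 u' 0)) *
              W4 (ru θ 0 (-u') 0) := by
            simp only [Matrix.mul_assoc]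
            rw [← Matrix.mul_assoc (W4 (ru θ 0 (-u) 0)), a, one_mul, hu u', mul_one]
        _ = _ := by rw [h, mul_one]
    have hn : W4 (n0 K) = kap θ (eE 1 * eF (-1) * eE 1) := by
      have e : n0 K = ru θ 0 1 0 * (n0 K * ru θ 0 1 0 * (n0 K)⁻¹) * ru θ 0 1 0 := by
        have hch : ∀ z ∈ ([(8, 10), (8, 1), (3, 10)] : List (ℕ × ℕ)), z.1 < 12 ∧ z.2 < 12 ∧
            z.2 ≠ chevG2.neg z.1 ∧ chevG2.chainEntry z.1 z.2 = [] := by decide +kernel
        have cc : ∀ p q : ℕ, (p, q) ∈ [(8, 10), (8, 1), (3, 10)] → ∀ a b : K, Commute (X p a) (X q b) := by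
          intro p q hm a b
          obtain ⟨hp, hq, k1, k2⟩ := hch (p, q) hm
          exact CfsgLib.Twisted.commute_elX hc hp hq k1 k2 a b
        rw [ru_u_conj, ru_u, map_one, n0]
        have e8 : chevG2.neg 8 = 3 := by decide +kernel
        have e10 : chevG2.neg 10 = 1 := by decide +kernel
        rw [elN, elN, e8, e10, inv_one]
        set A := X 8 (1 : K)
        set B := X 3 (-1 : K)
        set C := X 10 (1 : K)
        set D := X 1 (-1 : K)
        calc A * B * A * (C * D * C) = A * B * (A * C) * D * C := by group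
          _ = A * B * (C * A) * D * C := by rw [(cc 8 10 (by simp) _ _).eq]
          _ = A * (B * C) * (A * D) * C := by group
          _ = A * (C * B) * (D * A) * C := by rw [(cc 3 10 (by simp) _ _).eq, (cc 8 1 (by simp) _ _).eq]
          _ = _ := by group
      rw [e, W4_mul hθ (mul_mem (ru_u_mem hθ 1) (conj_u_mem hθ 1)) (ru_u_mem hθ 1),
        W4_mul hθ (ru_u_mem hθ 1) (conj_u_mem hθ 1), W4_u hθ, W4_conj_u hθ, ← kap_mul, ← kap_mul]
    have h30 := congrFun (congrFun h1 3) 0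
    rw [hn, W4_u hθ, W4_u hθ, ← kap_mul, Matrix.mul_apply, Fin.sum_univ_four, hd, hd, hd, hd] at h30
    simp only [kap, Matrix.SpecialLinearGroup.coe_mul, eE_val, eF_val] at h30
    simp [sg4, hi2, lo2, Matrix.mul_apply, Fin.sum_univ_two] at h30

variable [Fintype K]

omit hθ in
theorem kap_mem_range (hθ : IsRee θ) (g : SL(2, K)) : ∃ x ∈ L0 hθ, W4 x = kap θ g := by
  let S : Subgroup SL(2, K) :=
    { carrier := {g | ∃ x ∈ L0 hθ, W4 x = kap θ g}
      one_mem' := ⟨1, one_mem _, by rw [W4_one, kap_one]⟩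
      mul_mem' := by
        rintro g h ⟨x, hx, e⟩ ⟨y, hy, e'⟩
        exact ⟨x * y, mul_mem hx hy, by rw [W4_mul hθ hx.1 hy.1, e, e', kap_mul]⟩
      inv_mem' := by
        rintro g ⟨x, hx, e⟩
        refine ⟨x⁻¹, inv_mem hx, ?_⟩
        obtain ⟨g', e'⟩ := (inv_mem hx : x⁻¹ ∈ L0 hθ).2
        have h1 : kap θ g * kap θ g' = 1 := by rw [← e, ← e', ← W4_mul hθ hx.1 (inv_mem hx.1), mul_inv_cancel, W4_one]
        have h2 : kap θ g⁻¹ * kap θ g = 1 := by rw [← kap_mul, inv_mul_cancel, kap_one]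
        rw [e', ← one_mul (kap θ g'), ← h2, Matrix.mul_assoc, h1, mul_one] }
  have hS : S = ⊤ := sl2_closure S (fun u => ⟨_, u_mem_L0 hθ u, W4_u hθ u⟩) (fun u => by
    refine ⟨_, cu_mem_L0 hθ (-u), ?_⟩
    rw [W4_conj_u hθ, neg_neg])
  have : g ∈ S := by rw [hS]; trivial
  exact this

omit hθ in
theorem W4_injOn (hθ : IsRee θ) {x y : GL chevG2.Idx K} (hx : x ∈ C0 θ) (hy : y ∈ C0 θ) (h : W4 x = W4 y) :
    x = y := by
  have h1 : W4 (x⁻¹ * y) = 1 := by
    rw [W4_mul hθ (inv_mem hx) hy, ← h, ← W4_mul hθ (inv_mem hx) hx, inv_mul_cancel, W4_one]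
  exact inv_mul_eq_one.1 (W4_inj hθ (mul_mem (inv_mem hx) hy) h1)

omit hθ in
/-- the map SL₂ → C(a) -/
noncomputable def lam (hθ : IsRee θ) : SL(2, K) →* ↥(C0 θ) where
  toFun g := ⟨(kap_mem_range hθ g).choose, (kap_mem_range hθ g).choose_spec.1.1⟩
  map_one' := Subtype.ext (W4_injOn hθ (kap_mem_range hθ 1).choose_spec.1.1 (one_mem _)
    (by show W4 (kap_mem_range hθ 1).choose = _
        rw [(kap_mem_range hθ 1).choose_spec.2, kap_one, OneMemClass.coe_one, W4_one]))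
  map_mul' g h := Subtype.ext (W4_injOn hθ (kap_mem_range hθ _).choose_spec.1.1
    (mul_mem (kap_mem_range hθ g).choose_spec.1.1 (kap_mem_range hθ h).choose_spec.1.1)
    (by show W4 (kap_mem_range hθ (g * h)).choose = W4 ((kap_mem_range hθ g).choose * (kap_mem_range hθ h).choose)
        rw [(kap_mem_range hθ _).choose_spec.2, W4_mul hθ (kap_mem_range hθ g).choose_spec.1.1
      (kap_mem_range hθ h).choose_spec.1.1, (kap_mem_range hθ g).choose_spec.2,
      (kap_mem_range hθ h).choose_spec.2, kap_mul]))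

theorem W4_lam (g : SL(2, K)) : W4 (lam hθ g : GL chevG2.Idx K) = kap θ g := (kap_mem_range hθ g).choose_spec.2

theorem lam_mem_L0 (g : SL(2, K)) : (lam hθ g : GL chevG2.Idx K) ∈ L0 hθ := (kap_mem_range hθ g).choose_spec.1

theorem lam_eq_one {g : SL(2, K)} : lam hθ g = 1 ↔ g = 1 ∨ g = -1 := by
  constructor
  · intro h
    refine kap_eq_one (θ := θ) ?_
    rw [← W4_lam hθ, h, OneMemClass.coe_one, W4_one]
  · intro h
    apply Subtype.ext
    refine W4_injOn hθ (lam hθ g).2 (one_mem _) ?_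
    rw [W4_lam hθ, OneMemClass.coe_one, W4_one]
    rcases h with rfl | rfl
    · exact kap_one θ
    · funext i j
      fin_cases i <;> fin_cases j <;> simp [kap, sg4, hi2, lo2, Matrix.one_apply]

theorem lam_ker : (lam hθ).ker = Subgroup.center SL(2, K) := by
  ext g
  rw [MonoidHom.mem_ker, lam_eq_one hθ]
  constructor
  · rintro (rfl | rfl)
    · exact one_mem _
    · exact Subgroup.mem_center_iff.2 fun h => by rw [mul_neg, mul_one, neg_mul, one_mul]
  · intro h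
    obtain ⟨r, hr, e⟩ := Matrix.SpecialLinearGroup.mem_center_iff.1 h
    have hr' : r ^ 2 = 1 := by simpa using hr
    rcases sq_eq_one_iff.1 hr' with rfl | rfl
    · left; ext i j; rw [← e]; simp [Matrix.one_apply, Matrix.diagonal_apply]
    · right; ext i j; rw [← e]; fin_cases i <;> fin_cases j <;> simp [Matrix.diagonal_apply]

/-- the map Z₂ → C(a) -/
noncomputable def invHom : Multiplicative (ZMod 2) →* ↥(C0 θ) where
  toFun z := if z = 1 then 1 else ⟨hh θ (-1), hh_mem_C0 hθ _⟩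
  map_one' := if_pos rfl
  map_mul' := by
    intro x y
    have hx : x = 1 ∨ x = Multiplicative.ofAdd 1 := by revert x; decide
    have hy : y = 1 ∨ y = Multiplicative.ofAdd 1 := by revert y; decide
    have h1 : Multiplicative.ofAdd (1 : ZMod 2) ≠ 1 := by decide
    rcases hx with rfl | rfl <;> rcases hy with rfl | rfl
    · simp
    · simp [h1]
    · simp [h1]
    · have h2 : Multiplicative.ofAdd (1 : ZMod 2) * Multiplicative.ofAdd 1 = 1 := by decide
      rw [h2, if_pos rfl, if_neg h1]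
      exact Subtype.ext (by
        show (1 : GL chevG2.Idx K) = hh θ (-1) * hh θ (-1)
        rw [hh_mul, neg_mul_neg, one_mul, hh_one])

omit hθ in
/-- the isomorphism of Z₂ × PSL₂(q) with the centraliser -/
noncomputable def centEquiv (hθ : IsRee θ) :
    Multiplicative (ZMod 2) × Matrix.ProjectiveSpecialLinearGroup (Fin 2) K ≃* ↥(C0 θ) := by
  refine MulEquiv.ofBijective (MonoidHom.noncommCoprod (invHom hθ)
    (QuotientGroup.lift (Subgroup.center SL(2, K)) (lam hθ) (lam_ker hθ).ge) fun z q => ?_) ⟨?_, ?_⟩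
  · show _ * _ = _ * _
    by_cases h : z = 1
    · subst h; simp
    · apply Subtype.ext
      rw [Subgroup.coe_mul, Subgroup.coe_mul, show (invHom hθ z : GL chevG2.Idx K) = hh θ (-1) by simp [invHom, h]]
      exact C0_commute (Subtype.prop _)
  · rw [injective_iff_map_eq_one]
    rintro ⟨z, q⟩ h
    obtain ⟨g, rfl⟩ := QuotientGroup.mk_surjective q
    change invHom hθ z * lam hθ g = 1 at h
    by_cases hz : z = 1
    · subst hz
      rw [map_one, one_mul, ← MonoidHom.mem_ker, lam_ker hθ] at h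
      exact Prod.ext rfl ((QuotientGroup.eq_one_iff g).2 h)
    · exfalso
      have e := congrArg Subtype.val h
      rw [Subgroup.coe_mul, show (invHom hθ z : GL chevG2.Idx K) = hh θ (-1) by simp [invHom, hz],
        OneMemClass.coe_one, mul_eq_one_iff_eq_inv] at e
      exact neg_one_not_mem_L0 hθ (e ▸ inv_mem (lam_mem_L0 hθ g))
  · rintro ⟨x, hx⟩
    rcases C0_cover hθ hx with h | h <;> obtain ⟨g, e⟩ := h.2
    · refine ⟨(1, QuotientGroup.mk g), ?_⟩
      apply Subtype.ext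
      show ((invHom hθ 1 * lam hθ g : ↥(C0 θ)) : GL chevG2.Idx K) = x
      rw [map_one, one_mul]
      exact W4_injOn hθ (lam hθ g).2 hx (by rw [W4_lam hθ, e])
    · refine ⟨(Multiplicative.ofAdd 1, QuotientGroup.mk g), ?_⟩
      apply Subtype.ext
      show ((invHom hθ (Multiplicative.ofAdd 1) * lam hθ g : ↥(C0 θ)) : GL chevG2.Idx K) = x
      rw [Subgroup.coe_mul, show (invHom hθ (Multiplicative.ofAdd 1) : GL chevG2.Idx K) = hh θ (-1) by simp [invHom],
        show (lam hθ g : GL chevG2.Idx K) = hh θ (-1) * x from W4_injOn hθ (lam hθ g).2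
          (mul_mem (hh_mem_C0 hθ _) hx) (by rw [W4_lam hθ, e]),
        ← mul_assoc, hh_mul, neg_mul_neg, one_mul, hh_one, one_mul]

end CfsgLib.ReeG2
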