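import Cfsg.Agent.Lib.ReeG2.Semis
import Mathlib.NumberTheory.LegendreSymbol.QuadraticChar.Basic
import Mathlib.FieldTheory.IsAlgClosed.AlgebraicClosure

/-!
The nonsplit torus of the centraliser of an involution: centraliser and normaliser.
-/

set_option autoImplicit false
set_option linter.unusedSectionVars false

namespace CfsgLib.ReeG2

open Cfsg.Lie CfsgLib.Chev
open scoped Matrix MatrixGroups Pointwise

/-- normalising a finite subgroup -/
theorem mem_normalizer_of_conj {G : Type*} [Group G] {H : Subgroup G} [Finite ↥H] {g : G}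
    (h : ∀ x ∈ H, g * x * g⁻¹ ∈ H) : g ∈ Subgroup.normalizer (H : Set G) := by
  refine Subgroup.mem_normalizer_iff.2 fun y => ⟨h y, fun hy => ?_⟩
  have hbij : Function.Bijective fun z : ↥H => (⟨_, h z.1 z.2⟩ : ↥H) :=
    Finite.injective_iff_bijective.1 fun a b e => Subtype.ext
      (mul_left_cancel (mul_right_cancel (congrArg Subtype.val e)))
  obtain ⟨⟨z, hz⟩, e⟩ := hbij.2 ⟨_, hy⟩
  have : z = y := mul_left_cancel (mul_right_cancel (congrArg Subtype.val e))
  exact this ▸ hz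

/-- in a cyclic subgroup the subgroups are determined by their orders -/
theorem mem_of_pow_card {G : Type*} [Group G] [Finite G] {A B : Subgroup G} [IsCyclic ↥A] (hB : B ≤ A) {x : G}
    (hx : x ∈ A) (h : x ^ Nat.card ↥B = 1) : x ∈ B := by
  obtain ⟨g, hg⟩ := IsCyclic.exists_generator (α := ↥A)
  obtain ⟨m, hm⟩ : Nat.card ↥B ∣ Nat.card ↥A := Subgroup.card_dvd_of_le hB
  have hk : 0 < Nat.card ↥B := Nat.card_pos
  have hcard : orderOf (g : G) = Nat.card ↥B * m := by
    rw [Subgroup.orderOf_coe, orderOf_eq_card_of_forall_mem_zpowers hg, hm]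
  have key : ∀ y ∈ A, y ^ Nat.card ↥B = 1 → y ∈ Subgroup.zpowers ((g : G) ^ m) := by
    intro y hy hyk
    obtain ⟨i, hi⟩ := Subgroup.mem_zpowers_iff.1 (hg ⟨y, hy⟩)
    have hi' : (g : G) ^ i = y := by rw [← Subgroup.coe_zpow, hi]
    rw [← hi', ← zpow_natCast, ← zpow_mul, ← orderOf_dvd_iff_zpow_eq_one, hcard, Nat.cast_mul,
      mul_comm (i : ℤ)] at hyk
    obtain ⟨j, rfl⟩ := (mul_dvd_mul_iff_left (Nat.cast_ne_zero.2 hk.ne')).1 hyk
    exact ⟨j, by rw [← hi', zpow_mul, zpow_natCast]⟩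
  have hle : B ≤ Subgroup.zpowers ((g : G) ^ m) := fun y hy => key y (hB hy)
    (orderOf_dvd_iff_pow_eq_one.1 (Subgroup.orderOf_dvd_natCard _ hy))
  have heq : B = Subgroup.zpowers ((g : G) ^ m) := by
    refine Subgroup.eq_of_le_of_card_ge hle (le_of_eq ?_)
    rw [Nat.card_zpowers, orderOf_pow_of_dvd (by rintro rfl; rw [mul_zero] at hm; exact Nat.card_pos.ne' hm)
      (by rw [hcard]; exact dvd_mul_left _ _), hcard, Nat.mul_div_cancel _ (Nat.pos_of_ne_zero (by
        rintro rfl; rw [mul_zero] at hm; exact Nat.card_pos.ne' hm))]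
  rw [heq]
  exact key x hx h

/-- conjugation inverting or fixing a cyclic group of odd prime power order -/
theorem sq_eq_one_cyclic {G : Type*} [Group G] {c v : G} {l e : ℕ} (hl : l.Prime) (hl2 : l ≠ 2)
    (ho : orderOf c = l ^ e) {j : ℤ} (hj : v * c * v⁻¹ = c ^ j) (hv : v * v = 1) :
    v * c * v⁻¹ = c ∨ v * c * v⁻¹ = c⁻¹ := by
  have h2 : c ^ (j * j) = c := by
    rw [zpow_mul, ← hj, conj_zpow, ← hj]
    have hvi : v⁻¹ = v := inv_eq_of_mul_eq_one_right hv
    rw [hvi]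
    calc v * (v * c * v) * v = v * v * c * (v * v) := by group
      _ = c := by rw [hv, one_mul, mul_one]
  have h3 : ((l : ℤ) ^ e) ∣ (j - 1) * (j + 1) := by
    rw [show (j - 1) * (j + 1) = j * j - 1 by ring]
    have := orderOf_dvd_iff_zpow_eq_one.2 (show c ^ (j * j - 1) = 1 by rw [zpow_sub_one, h2, mul_inv_cancel])
    rwa [ho, Nat.cast_pow] at this
  have hp : Prime (l : ℤ) := Nat.prime_iff_prime_int.1 hl
  rcases Nat.eq_zero_or_pos e with rfl | he
  · left
    rw [pow_zero, orderOf_eq_one_iff] at ho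
    rw [ho, mul_one, mul_inv_cancel]
  · have hone : (l : ℤ) ∣ (j - 1) * (j + 1) := dvd_trans (dvd_pow_self _ he.ne') h3
    rcases hp.dvd_mul.1 hone with g | g
    · left
      have hn : ¬ (l : ℤ) ∣ j + 1 := fun g' => by
        have h := dvd_sub g' g
        rw [show j + 1 - (j - 1) = ((2 : ℕ) : ℤ) by push_cast; ring, Int.natCast_dvd_natCast] at h
        exact hl2 ((Nat.prime_dvd_prime_iff_eq hl Nat.prime_two).1 h)
      have hd := ((hp.coprime_iff_not_dvd.2 hn).pow_left (m := e)).dvd_of_dvd_mul_right h3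
      have := orderOf_dvd_iff_zpow_eq_one.1 (show ((orderOf c : ℕ) : ℤ) ∣ j - 1 by rw [ho, Nat.cast_pow]; exact hd)
      rw [zpow_sub_one, mul_inv_eq_one] at this
      rw [hj, this]
    · right
      have hn : ¬ (l : ℤ) ∣ j - 1 := fun g' => by
        have h := dvd_sub g g'
        rw [show j + 1 - (j - 1) = ((2 : ℕ) : ℤ) by push_cast; ring, Int.natCast_dvd_natCast] at h
        exact hl2 ((Nat.prime_dvd_prime_iff_eq hl Nat.prime_two).1 h)
      have hd := ((hp.coprime_iff_not_dvd.2 hn).pow_left (m := e)).dvd_of_dvd_mul_left h3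
      have := orderOf_dvd_iff_zpow_eq_one.1 (show ((orderOf c : ℕ) : ℤ) ∣ j + 1 by rw [ho, Nat.cast_pow]; exact hd)
      rw [zpow_add_one, mul_eq_one_iff_eq_inv] at this
      rw [hj, this]

variable {K : Type*} [Field K]

/-- the circle group -/
def circ (K : Type*) [Field K] : Subgroup SL(2, K) := Subgroup.centralizer {wS}

theorem mem_circ {g : SL(2, K)} : g ∈ circ K ↔ g.1 1 0 = -g.1 0 1 ∧ g.1 1 1 = g.1 0 0 := by
  rw [circ, Subgroup.mem_centralizer_singleton_iff]
  constructor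
  · intro h
    have a := congrArg (fun z : SL(2, K) => z.1 0 0) h
    have b := congrArg (fun z : SL(2, K) => z.1 0 1) h
    simp [Matrix.mul_apply, Fin.sum_univ_two, ent2, wS_val] at a b
    exact ⟨by linear_combination -a, by linear_combination -b⟩
  · rintro ⟨h1, h2⟩
    ext i j
    fin_cases i <;> fin_cases j <;> simp [Matrix.mul_apply, Fin.sum_univ_two, wS_val, h1, h2]

theorem wS_mem_circ : (wS : SL(2, K)) ∈ circ K := mem_circ.2 ⟨by simp [wS_val], by simp [wS_val]⟩

variable [Fintype K]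

/-- (q + 1)/4 -/
def kA (K : Type*) [Fintype K] : ℕ := (Fintype.card K + 1) / 4

section Field

variable (hq8 : Fintype.card K % 8 = 3)
include hq8

theorem four_kA : Fintype.card K + 1 = 4 * kA K := by unfold kA; omega

theorem kA_odd : kA K % 2 = 1 := by unfold kA; omega

theorem no_sqrt_neg_one : ¬ IsSquare (-1 : K) := fun h => FiniteField.isSquare_neg_one_iff.1 h (by omega)

theorem sum_sq_ne_zero (t : K) : 1 + t * t ≠ 0 := fun h =>
  no_sqrt_neg_one hq8 ⟨t, by linear_combination -h⟩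

theorem card_circ [CharP K 3] : Nat.card ↥(circ K) = Fintype.card K + 1 := by
  classical
  have h2 : (2 : K) ≠ 0 := fun h => one_ne_zero (α := K) (by linear_combination three (K := K) - h)
  let f : Option K → ↥(circ K) := fun o => match o with
    | none => ⟨-1, mem_circ.2 ⟨by simp, by simp⟩⟩
    | some t => ⟨⟨!![(1 - t * t) / (1 + t * t), 2 * t / (1 + t * t);
          -(2 * t / (1 + t * t)), (1 - t * t) / (1 + t * t)], by
        rw [Matrix.det_fin_two_of]
        have hs := sum_sq_ne_zero hq8 t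
        rw [mul_neg, sub_neg_eq_add, div_mul_div_comm, div_mul_div_comm, ← add_div,
          div_eq_one_iff_eq (mul_ne_zero hs hs)]
        ring⟩, mem_circ.2 ⟨by simp, by simp⟩⟩
  have hval : ∀ t, ((f (some t) : SL(2, K)) : Matrix (Fin 2) (Fin 2) K) 0 0 = (1 - t * t) / (1 + t * t) ∧
      ((f (some t) : SL(2, K)) : Matrix (Fin 2) (Fin 2) K) 0 1 = 2 * t / (1 + t * t) := fun t => by
    simp [f]
  have hne : ∀ t : K, (1 - t * t) / (1 + t * t) ≠ -1 := fun t h => by
    have hs := sum_sq_ne_zero hq8 t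
    rw [div_eq_iff hs] at h
    exact h2 (by linear_combination h)
  have hf : Function.Bijective f := by
    constructor
    · rintro (_ | t) (_ | s) h
      · rfl
      · have := congrArg (fun z : ↥(circ K) => (z : SL(2, K)).1 0 0) h
        simp only [(hval s).1] at this
        exact absurd (by simpa [f] using this.symm) (hne s)
      · have := congrArg (fun z : ↥(circ K) => (z : SL(2, K)).1 0 0) h
        simp only [(hval t).1] at this
        exact absurd (by simpa [f] using this) (hne t)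
      · have a := congrArg (fun z : ↥(circ K) => (z : SL(2, K)).1 0 0) h
        have b := congrArg (fun z : ↥(circ K) => (z : SL(2, K)).1 0 1) h
        simp only [(hval s).1, (hval s).2, (hval t).1, (hval t).2] at a b
        have hs := sum_sq_ne_zero hq8 s
        have ht := sum_sq_ne_zero hq8 t
        rw [div_eq_div_iff ht hs] at a b
        have e : s * s = t * t :=
          mul_left_cancel₀ h2 (by linear_combination a)
        have : 2 * t * (1 + t * t) = 2 * s * (1 + t * t) := by linear_combination b - 2 * t * e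
        exact congrArg some (mul_left_cancel₀ h2 (mul_right_cancel₀ ht this))
    · rintro ⟨g, hg⟩
      obtain ⟨h1, h2'⟩ := mem_circ.1 hg
      have hd : g.1 0 0 * g.1 1 1 - g.1 0 1 * g.1 1 0 = 1 := (Matrix.det_fin_two g.1).symm.trans g.2
      rw [h1, h2'] at hd
      by_cases ha : g.1 0 0 = -1
      · refine ⟨none, Subtype.ext ?_⟩
        have hb : g.1 0 1 = 0 := by
          have : g.1 0 1 * g.1 0 1 = 0 := by linear_combination hd - (g.1 0 0 - 1) * ha
          exact mul_self_eq_zero.1 this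
        show (-1 : SL(2, K)) = g
        ext i j
        fin_cases i <;> fin_cases j <;> simp [h1, h2', ha, hb]
      · have ha' : 1 + g.1 0 0 ≠ 0 := fun h => ha (by linear_combination h)
        refine ⟨some (g.1 0 1 / (1 + g.1 0 0)), Subtype.ext ?_⟩
        have hs := sum_sq_ne_zero hq8 (g.1 0 1 / (1 + g.1 0 0))
        have e0 : 1 + g.1 0 1 / (1 + g.1 0 0) * (g.1 0 1 / (1 + g.1 0 0)) = 2 / (1 + g.1 0 0) := by
          field_simp; linear_combination hd
        have e1 : 1 - g.1 0 1 / (1 + g.1 0 0) * (g.1 0 1 / (1 + g.1 0 0)) = 2 * g.1 0 0 / (1 + g.1 0 0) := by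
          field_simp; linear_combination -hd
        ext i j
        fin_cases i <;> fin_cases j <;> simp [f, e0, e1, h1, h2'] <;> field_simp
  rw [← Nat.card_eq_of_bijective f hf, Nat.card_eq_fintype_card, Fintype.card_option]

theorem circ_cyclic : IsCyclic ↥(circ K) := by
  obtain ⟨i, hi⟩ := IsAlgClosed.exists_pow_nat_eq (-1 : AlgebraicClosure K) (show 0 < 2 by norm_num)
  have hii : i * i = -1 := by rw [← pow_two, hi]
  set ι := algebraMap K (AlgebraicClosure K)
  let f : ↥(circ K) →* AlgebraicClosure K :=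
    { toFun := fun g => ι (g.1.1 0 0) + ι (g.1.1 0 1) * i
      map_one' := by simp
      map_mul' := fun g h => by
        obtain ⟨g1, g2⟩ := mem_circ.1 g.2
        obtain ⟨h1, h2⟩ := mem_circ.1 h.2
        simp only [Subgroup.coe_mul, Matrix.SpecialLinearGroup.coe_mul, Matrix.mul_apply, Fin.sum_univ_two, h1, h2, map_add, map_mul, map_neg]
        linear_combination (-(ι (g.1.1 0 1) * ι (h.1.1 0 1))) * hii }
  refine isCyclic_of_injective_ringHom f fun g h e => ?_
  have e' : f (g * h⁻¹) = 1 := by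
    have hh' : f h * f h⁻¹ = 1 := by rw [← map_mul, mul_inv_cancel, map_one]
    rw [map_mul, e, hh']
  refine mul_inv_eq_one.1 (Subtype.ext ?_)
  obtain ⟨x1, x2⟩ := mem_circ.1 (g * h⁻¹).2
  set x := ((g * h⁻¹ : ↥(circ K)) : SL(2, K))
  change ι (x.1 0 0) + ι (x.1 0 1) * i = 1 at e'
  have hb : x.1 0 1 = 0 := by
    by_contra hb
    refine no_sqrt_neg_one hq8 ⟨(1 - x.1 0 0) / x.1 0 1, ι.injective ?_⟩
    rw [map_neg, map_one, map_mul, map_div₀, map_sub, map_one, ← hii]
    have hb' : ι (x.1 0 1) ≠ 0 := (map_ne_zero ι).2 hb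
    field_simp
    linear_combination (1 - ι (x.1 0 0) + ι (x.1 0 1) * i) * e'
  rw [hb, map_zero, zero_mul, add_zero, ← map_one ι] at e'
  have ha := ι.injective e'
  show x = 1
  ext a b
  fin_cases a <;> fin_cases b <;> simp [x1, x2, ha, hb]

theorem invol_conj_w {g : SL(2, K)} (hg : g * g = -1) : ∃ h : SL(2, K), h * g = wS * h ∨ h * g = -(wS * h) := by
  classical
  have hd : g.1 0 0 * g.1 1 1 - g.1 0 1 * g.1 1 0 = 1 := (Matrix.det_fin_two g.1).symm.trans g.2
  have a := congrArg (fun z : SL(2, K) => z.1 0 0) hg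
  have b := congrArg (fun z : SL(2, K) => z.1 0 1) hg
  simp [Matrix.mul_apply, Fin.sum_univ_two, ent2, nent2] at a b
  have htr : g.1 1 1 = -g.1 0 0 := by
    by_contra h
    have hne : g.1 0 0 + g.1 1 1 ≠ 0 := fun e => h (by linear_combination e)
    have h00 : g.1 0 0 = 0 :=
      (mul_eq_zero.1 (show g.1 0 0 * (g.1 0 0 + g.1 1 1) = 0 by linear_combination a + hd)).resolve_right hne
    have h01 : g.1 0 1 = 0 :=
      (mul_eq_zero.1 (show g.1 0 1 * (g.1 0 0 + g.1 1 1) = 0 by linear_combination b)).resolve_right hne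
    rw [h00, h01] at hd
    exact one_ne_zero (α := K) (by linear_combination -hd)
  have hb0 : g.1 0 1 ≠ 0 := fun h => by
    rw [h] at a
    exact no_sqrt_neg_one hq8 ⟨g.1 0 0, by linear_combination -a⟩
  have hdet : ∀ x s : K, x * x * g.1 0 1 = s → s * s = 1 →
      ∃ h : SL(2, K), h * g = wS * h ∨ h * g = -(wS * h) := by
    intro x s hx hs
    obtain ⟨h, hh⟩ : ∃ h : SL(2, K), h.1 = !![x, 0; s * (x * g.1 0 0), s * (x * g.1 0 1)] :=
      ⟨⟨_, by rw [Matrix.det_fin_two_of]; linear_combination s * hx + hs⟩, rfl⟩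
    refine ⟨h, ?_⟩
    rcases mul_self_eq_one_iff.1 hs with rfl | rfl
    · left
      ext i j
      fin_cases i <;> fin_cases j <;> simp [Matrix.mul_apply, Fin.sum_univ_two, wS_val, htr, hh] <;>
        first
          | linear_combination x * a
          | linear_combination (-x) * a
          | ring
    · right
      ext i j
      fin_cases i <;> fin_cases j <;> simp [Matrix.mul_apply, Fin.sum_univ_two, wS_val, htr, hh] <;>
        first
          | linear_combination x * a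
          | linear_combination (-x) * a
          | ring
  have hsq : IsSquare (g.1 0 1) ∨ IsSquare (-g.1 0 1) := by
    by_contra hh
    push Not at hh
    have h1 := quadraticChar_neg_one_iff_not_isSquare.2 hh.1
    have h2 := quadraticChar_neg_one_iff_not_isSquare.2 hh.2
    rw [← neg_one_mul, map_mul, h1, quadraticChar_neg_one_iff_not_isSquare.2 (no_sqrt_neg_one hq8)] at h2
    exact absurd h2 (by norm_num)
  rcases hsq with ⟨r, hr⟩ | ⟨r, hr⟩
  · have hr0 : r ≠ 0 := fun e => hb0 (by rw [hr, e, mul_zero])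
    exact hdet r⁻¹ 1 (by rw [hr]; field_simp) (one_mul 1)
  · have hr0 : r ≠ 0 := fun e => hb0 (neg_eq_zero.1 (by rw [hr, e, mul_zero]))
    exact hdet r⁻¹ (-1) (by rw [show g.1 0 1 = -(r * r) by linear_combination -hr]; field_simp) (by ring)

end Field

variable [CharP K 3] {θ : K ≃+* K} (hθ : IsRee θ)
include hθ

/-- the image of the circle -/
noncomputable def LT : Subgroup ↥(fixG θ) := (circ K).map (lamG hθ)

theorem mem_LT {x : ↥(fixG θ)} : x ∈ LT hθ ↔ ∃ g ∈ circ K, lamG hθ g = x := Subgroup.mem_map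

theorem W_mem_LT : lamG hθ wS ∈ LT hθ := (mem_LT hθ).2 ⟨_, wS_mem_circ, rfl⟩

theorem LT_comm_a0 {x : ↥(fixG θ)} (hx : x ∈ LT hθ) : x * a0 hθ = a0 hθ * x := by
  obtain ⟨g, -, rfl⟩ := (mem_LT hθ).1 hx
  exact lamG_comm hθ g

/-- the torus T -/
noncomputable def TT : Subgroup ↥(fixG θ) where
  carrier := {x | x ∈ LT hθ ∨ a0 hθ * x ∈ LT hθ}
  one_mem' := Or.inl (one_mem _)
  mul_mem' := by
    have key : ∀ a : ↥(fixG θ), (a0 hθ * a) ∈ LT hθ → a * a0 hθ = a0 hθ * a := by
      intro a ha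
      have h := LT_comm_a0 hθ ha
      rw [mul_assoc] at h
      exact mul_left_cancel h
    rintro a b (ha | ha) (hb | hb)
    · exact Or.inl (mul_mem ha hb)
    · right; rw [← mul_assoc, ← LT_comm_a0 hθ ha, mul_assoc]; exact mul_mem ha hb
    · right; rw [← mul_assoc]; exact mul_mem ha hb
    · left
      have h := mul_mem ha hb
      rwa [show a0 hθ * a * (a0 hθ * b) = a * (a0 hθ * a0 hθ) * b by rw [← key a ha]; group, a0_sq,
        mul_one] at h
  inv_mem' := by
    rintro a (ha | ha)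
    · exact Or.inl (inv_mem ha)
    · right
      have h := inv_mem ha
      rw [mul_inv_rev, inv_eq_of_mul_eq_one_right (a0_sq hθ)] at h
      have h2 : a⁻¹ * a0 hθ = a0 hθ * a⁻¹ := by
        have h' := LT_comm_a0 hθ ha
        rw [mul_assoc] at h'
        have h3 : a * a0 hθ = a0 hθ * a := mul_left_cancel h'
        rw [eq_mul_inv_iff_mul_eq, mul_assoc, ← h3, inv_mul_cancel_left]
      rwa [h2] at h

theorem mem_TT {x : ↥(fixG θ)} : x ∈ TT hθ ↔ x ∈ LT hθ ∨ a0 hθ * x ∈ LT hθ := Iff.rfl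

theorem a0_mem_TT : a0 hθ ∈ TT hθ := Or.inr (by rw [a0_sq]; exact one_mem _)

theorem a0_not_LT : a0 hθ ∉ LT hθ := fun h => by
  obtain ⟨g, -, e⟩ := (mem_LT hθ).1 h
  exact a0_ne_lamG hθ g e.symm

theorem TT_comm {x y : ↥(fixG θ)} (hx : x ∈ TT hθ) (hy : y ∈ TT hθ) : x * y = y * x := by
  have hc : ∀ a ∈ LT hθ, ∀ b ∈ LT hθ, a * b = b * a := by
    intro a ha b hb
    obtain ⟨g, hg', rfl⟩ := (mem_LT hθ).1 ha
    obtain ⟨h, hh', rfl⟩ := (mem_LT hθ).1 hb
    rw [← map_mul, ← map_mul]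
    congr 1
    obtain ⟨g1, g2⟩ := mem_circ.1 hg'
    obtain ⟨h1, h2⟩ := mem_circ.1 hh'
    ext i j
    fin_cases i <;> fin_cases j <;> simp [Matrix.mul_apply, Fin.sum_univ_two, g1, g2, h1, h2] <;> ring
  have split : ∀ x ∈ TT hθ, ∃ e l, l ∈ LT hθ ∧ (e = 1 ∨ e = a0 hθ) ∧ x = e * l := by
    rintro x (h | h)
    · exact ⟨1, x, h, Or.inl rfl, (one_mul x).symm⟩
    · exact ⟨a0 hθ, _, h, Or.inr rfl, by rw [← mul_assoc, a0_sq, one_mul]⟩
  obtain ⟨e, l, hl, he, rfl⟩ := split x hx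
  obtain ⟨e', l', hl', he', rfl⟩ := split y hy
  have ha : ∀ l ∈ LT hθ, ∀ e, (e = 1 ∨ e = a0 hθ) → Commute e l := by
    rintro l hl e (rfl | rfl)
    · exact Commute.one_left _
    · exact (LT_comm_a0 hθ hl).symm
  have h1 : Commute (e * l) e' := by
    refine Commute.mul_left ?_ (ha l hl e' he').symm
    rcases he with rfl | rfl <;> rcases he' with rfl | rfl <;> simp [Commute, SemiconjBy]
  have h2 : Commute (e * l) l' := (ha l' hl' e he).mul_left (hc l hl l' hl')
  exact (h1.mul_right h2).eq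

theorem TT_comm_a0 {x : ↥(fixG θ)} (hx : x ∈ TT hθ) : x * a0 hθ = a0 hθ * x := TT_comm hθ hx (a0_mem_TT hθ)

theorem W_mem_TT : lamG hθ wS ∈ TT hθ := Or.inl (W_mem_LT hθ)

/-- the odd part of T -/
noncomputable def A2 : Subgroup ↥(fixG θ) where
  carrier := {x | x ∈ TT hθ ∧ x ^ kA K = 1}
  one_mem' := ⟨one_mem _, one_pow _⟩
  mul_mem' := fun {a b} ha hb => ⟨mul_mem ha.1 hb.1, by
    rw [Commute.mul_pow (TT_comm hθ ha.1 hb.1), ha.2, hb.2, one_mul]⟩
  inv_mem' := fun {a} ha => ⟨inv_mem ha.1, by rw [inv_pow, ha.2, inv_one]⟩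

/-- the four group of T -/
noncomputable def VV : Subgroup ↥(fixG θ) where
  carrier := {x | x ∈ TT hθ ∧ x * x = 1}
  one_mem' := ⟨one_mem _, one_mul 1⟩
  mul_mem' := fun {a b} ha hb => ⟨mul_mem ha.1 hb.1, by
    rw [show a * b * (a * b) = a * (b * a) * b by group, ← TT_comm hθ ha.1 hb.1,
      show a * (a * b) * b = (a * a) * (b * b) by group, ha.2, hb.2, one_mul]⟩
  inv_mem' := fun {a} ha => ⟨inv_mem ha.1, by rw [← mul_inv_rev, ha.2, inv_one]⟩

variable (hq8 : Fintype.card K % 8 = 3)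
include hq8

theorem card_LT : Nat.card ↥(LT hθ) = 2 * kA K := by
  classical
  set f := (lamG hθ).comp (circ K).subtype
  have h1 : f.range = LT hθ := by rw [MonoidHom.range_comp, Subgroup.range_subtype]; rfl
  have h2 : Nat.card ↥f.ker = 2 := by
    have hne : (-1 : SL(2, K)) ≠ 1 := fun h => by
      have := congrArg (fun z : SL(2, K) => z.1 0 0) h
      simp at this
      exact neg_one_ne_one this
    rw [Nat.card_eq_two_iff]
    refine ⟨1, ⟨⟨-1, mem_circ.2 ⟨by simp, by simp⟩⟩, (lamG_eq_one hθ).2 (Or.inr rfl)⟩,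
      fun h => hne (congrArg (fun z : ↥f.ker => ((z : ↥(circ K)) : SL(2, K))) h).symm, ?_⟩
    ext ⟨⟨g, hg'⟩, hgk⟩
    simp only [Set.mem_insert_iff, Set.mem_singleton_iff, Set.mem_univ, iff_true]
    rcases (lamG_eq_one hθ).1 hgk with rfl | rfl
    · exact Or.inl rfl
    · exact Or.inr rfl
  have h3 := f.ker.card_eq_card_quotient_mul_card_subgroup
  rw [Nat.card_congr (QuotientGroup.quotientKerEquivRange f).toEquiv, h1, h2, card_circ hq8, four_kA hq8] at h3
  omega

theorem LT_cyclic : IsCyclic ↥(LT hθ) := by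
  haveI := circ_cyclic hq8
  exact isCyclic_of_surjective ((lamG hθ).subgroupMap (circ K)) ((lamG hθ).subgroupMap_surjective _)

theorem LT_pow {x : ↥(fixG θ)} (hx : x ∈ LT hθ) : x ^ (2 * kA K) = 1 := by
  rw [← card_LT hθ hq8]
  exact orderOf_dvd_iff_pow_eq_one.1 (Subgroup.orderOf_dvd_natCard _ hx)

theorem TT_sq {x : ↥(fixG θ)} (hx : x ∈ TT hθ) : x * x ∈ A2 hθ := by
  refine ⟨mul_mem hx hx, ?_⟩
  rw [← pow_two, ← pow_mul]
  rcases hx with h | h
  · exact LT_pow hθ hq8 h
  · have e := LT_pow hθ hq8 h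
    rwa [Commute.mul_pow (TT_comm_a0 hθ (Or.inr h : x ∈ TT hθ)).symm, pow_mul (a0 hθ), pow_two, a0_sq, one_pow,
      one_mul] at e

theorem A2_le_LT : A2 hθ ≤ LT hθ := by
  rintro x ⟨hx, hk⟩
  rcases hx with h | h
  · exact h
  · exfalso
    have hp := pow_mem h (kA K)
    rw [Commute.mul_pow (TT_comm_a0 hθ (Or.inr h : x ∈ TT hθ)).symm, hk, mul_one] at hp
    have hodd : a0 hθ ^ kA K = a0 hθ := by
      conv_lhs => rw [← Nat.div_add_mod (kA K) 2, kA_odd hq8, pow_succ, pow_mul, pow_two, a0_sq, one_pow, one_mul]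
    rw [hodd] at hp
    exact a0_not_LT hθ hp

theorem A2_cyclic : IsCyclic ↥(A2 hθ) := by
  haveI := LT_cyclic hθ hq8
  exact isCyclic_of_injective (Subgroup.inclusion (A2_le_LT hθ hq8)) (Subgroup.inclusion_injective _)

theorem card_A2 : Nat.card ↥(A2 hθ) = kA K := by
  haveI := LT_cyclic hθ hq8
  obtain ⟨⟨g, hg'⟩, hgen⟩ := IsCyclic.exists_generator (α := ↥(LT hθ))
  have ho : orderOf g = 2 * kA K := by
    rw [← card_LT hθ hq8, ← orderOf_eq_card_of_forall_mem_zpowers hgen]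
    exact Subgroup.orderOf_mk _ _ |>.symm
  have hkp : 0 < kA K := by have := kA_odd hq8; omega
  have heq : A2 hθ = Subgroup.zpowers (g ^ 2) := by
    refine le_antisymm (fun x hx => ?_) (Subgroup.zpowers_le.2 (by
      rw [pow_two]; exact TT_sq hθ hq8 (Or.inl hg' : g ∈ TT hθ)))
    obtain ⟨i, hi⟩ := Subgroup.mem_zpowers_iff.1 (hgen ⟨x, A2_le_LT hθ hq8 hx⟩)
    have hi' : g ^ i = x := congrArg Subtype.val hi
    have h := hx.2
    rw [← hi', ← zpow_natCast, ← zpow_mul, ← orderOf_dvd_iff_zpow_eq_one, ho] at h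
    push_cast at h
    obtain ⟨j, rfl⟩ := (mul_dvd_mul_iff_right (show (kA K : ℤ) ≠ 0 by exact_mod_cast hkp.ne')).1 h
    exact ⟨j, by rw [← hi', zpow_mul]; rfl⟩
  rw [heq, Nat.card_zpowers, orderOf_pow_of_dvd two_ne_zero (by rw [ho]; exact dvd_mul_right _ _), ho,
    Nat.mul_div_cancel_left _ two_pos]

theorem card_TT : Nat.card ↥(TT hθ) = Fintype.card K + 1 := by
  classical
  let f : Bool × ↥(LT hθ) → ↥(TT hθ) := fun p =>
    ⟨(cond p.1 (a0 hθ) 1) * p.2, mul_mem (by cases p.1; exacts [one_mem _, a0_mem_TT hθ]) (Or.inl p.2.2)⟩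
  have hf : Function.Bijective f := by
    constructor
    · rintro ⟨b, x⟩ ⟨c, y⟩ h
      have h' := congrArg Subtype.val h
      simp only [f] at h'
      rcases b with _ | _ <;> rcases c with _ | _ <;> simp only [cond_true, cond_false, one_mul] at h'
      · exact Prod.ext rfl (Subtype.ext h')
      · exact absurd (show a0 hθ ∈ LT hθ by
          rw [show a0 hθ = x.1 * y.1⁻¹ by rw [h']; group]; exact mul_mem x.2 (inv_mem y.2)) (a0_not_LT hθ)
      · exact absurd (show a0 hθ ∈ LT hθ by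
          rw [show a0 hθ = y.1 * x.1⁻¹ by rw [← h']; group]; exact mul_mem y.2 (inv_mem x.2)) (a0_not_LT hθ)
      · exact Prod.ext rfl (Subtype.ext (mul_left_cancel h'))
    · rintro ⟨x, hx | hx⟩
      · exact ⟨(false, ⟨x, hx⟩), Subtype.ext (one_mul x)⟩
      · exact ⟨(true, ⟨_, hx⟩), Subtype.ext (show a0 hθ * (a0 hθ * x) = x by rw [← mul_assoc, a0_sq, one_mul])⟩
  rw [← Nat.card_eq_of_bijective f hf, Nat.card_prod, card_LT hθ hq8]
  simp only [Nat.card_eq_fintype_card, Fintype.card_bool]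
  have := four_kA hq8
  omega

theorem mem_VV {x : ↥(fixG θ)} :
    x ∈ VV hθ ↔ x = 1 ∨ x = a0 hθ ∨ x = lamG hθ wS ∨ x = a0 hθ * lamG hθ wS := by
  constructor
  · rintro ⟨hx, h2⟩
    have key : ∀ l ∈ LT hθ, l * l = 1 → l = 1 ∨ l = lamG hθ wS := by
      intro l hl h
      obtain ⟨g, hg', rfl⟩ := (mem_LT hθ).1 hl
      obtain ⟨g1, g2⟩ := mem_circ.1 hg'
      have hd : g.1 0 0 * g.1 1 1 - g.1 0 1 * g.1 1 0 = 1 := (Matrix.det_fin_two g.1).symm.trans g.2
      rw [g1, g2] at hd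
      rw [← map_mul] at h
      have h01 : (g * g).1 0 1 = 0 := by
        rcases (lamG_eq_one hθ).1 h with e | e <;> rw [e] <;> simp
      rw [ent2, g2] at h01
      have hab : g.1 0 0 * g.1 0 1 = 0 := by
        linear_combination -h01 + (g.1 0 0 * g.1 0 1) * three (K := K)
      rcases mul_eq_zero.1 hab with h0 | h0
      · right
        rcases mul_self_eq_one_iff.1 (show g.1 0 1 * g.1 0 1 = 1 by rw [h0] at hd; linear_combination hd) with e | e
        · congr 1; ext i j; fin_cases i <;> fin_cases j <;> simp [wS_val, g1, g2, h0, e]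
        · rw [← lamG_neg hθ]; congr 1; ext i j; fin_cases i <;> fin_cases j <;> simp [wS_val, g1, g2, h0, e]
      · left
        refine (lamG_eq_one hθ).2 ?_
        rcases mul_self_eq_one_iff.1 (show g.1 0 0 * g.1 0 0 = 1 by rw [h0] at hd; linear_combination hd) with e | e
        · left; ext i j; fin_cases i <;> fin_cases j <;> simp [g1, g2, h0, e]
        · right; ext i j; fin_cases i <;> fin_cases j <;> simp [g1, g2, h0, e]
    rcases hx with h | h
    · rcases key x h h2 with e | e <;> simp [e]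
    · have hx' : x = a0 hθ * (a0 hθ * x) := by rw [← mul_assoc, a0_sq, one_mul]
      rcases key _ h (by
        rw [show a0 hθ * x * (a0 hθ * x) = a0 hθ * (x * a0 hθ) * x by group,
          TT_comm_a0 hθ (Or.inr h : x ∈ TT hθ),
          show a0 hθ * (a0 hθ * x) * x = (a0 hθ * a0 hθ) * (x * x) by group, a0_sq, h2, one_mul]) with e | e
      · exact Or.inr (Or.inl (by rw [hx', e, mul_one]))
      · exact Or.inr (Or.inr (Or.inr (by rw [hx', e])))
  · have h1 : a0 hθ ∈ VV hθ := ⟨a0_mem_TT hθ, a0_sq hθ⟩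
    have h2 : lamG hθ wS ∈ VV hθ := ⟨W_mem_TT hθ, invol_W hθ⟩
    rintro (rfl | rfl | rfl | rfl)
    · exact one_mem _
    · exact h1
    · exact h2
    · exact mul_mem h1 h2

theorem W_ne_one : lamG hθ wS ≠ 1 := fun h => by
  rcases (lamG_eq_one hθ).1 h with e | e <;>
    · have := congrArg (fun z : SL(2, K) => z.1 0 1) e
      simp [wS_val] at this

theorem card_VV : Nat.card ↥(VV hθ) = 4 := by
  classical
  let f : Multiplicative (ZMod 2) × Multiplicative (ZMod 2) → ↥(VV hθ) := fun p => ⟨eHom hθ (p.1, p.2, 1), by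
    rw [mem_VV hθ hq8]
    rcases z2_cases p.1 with e | e <;> rcases z2_cases p.2 with e' | e' <;>
      simp [eHom_apply, e, e', inv2_one]⟩
  have hf : Function.Bijective f := by
    refine ⟨fun p r h => ?_, ?_⟩
    · have := eHom_injective hθ (congrArg Subtype.val h)
      simp only [Prod.mk.injEq] at this
      exact Prod.ext this.1 this.2.1
    · rintro ⟨x, hx⟩
      rcases (mem_VV hθ hq8).1 hx with rfl | rfl | rfl | rfl
      · exact ⟨(1, 1), Subtype.ext (by simp [f, eHom_apply])⟩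
      · exact ⟨(Multiplicative.ofAdd 1, 1), Subtype.ext (by simp [f, eHom_apply, inv2_one])⟩
      · exact ⟨(1, Multiplicative.ofAdd 1), Subtype.ext (by simp [f, eHom_apply, inv2_one])⟩
      · exact ⟨(Multiplicative.ofAdd 1, Multiplicative.ofAdd 1), Subtype.ext (by simp [f, eHom_apply, inv2_one])⟩
  rw [← Nat.card_eq_of_bijective f hf]
  simp

theorem cent_V {x : ↥(fixG θ)} (h0 : x * a0 hθ = a0 hθ * x) (hW : x * lamG hθ wS = lamG hθ wS * x) :
    x ∈ TT hθ ∨ (x * x = 1 ∧ lamG hθ jS * x ∈ TT hθ) := by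
  obtain ⟨g, hg'⟩ := comm_a0_cases hθ h0
  have hgw : g * wS = wS * g ∨ g * wS = -(wS * g) := by
    apply lamG_eq hθ
    rw [map_mul, map_mul]
    rcases hg' with rfl | rfl
    · exact hW
    · calc lamG hθ g * lamG hθ wS = a0 hθ * (a0 hθ * lamG hθ g * lamG hθ wS) := by
            rw [← mul_assoc, ← mul_assoc, a0_sq, one_mul]
        _ = a0 hθ * (lamG hθ wS * a0 hθ * lamG hθ g) := by rw [hW]; group
        _ = _ := by rw [lamG_comm hθ wS, ← mul_assoc, ← mul_assoc, a0_sq, one_mul]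
  have lift : ∀ h : SL(2, K), h ∈ circ K → lamG hθ h ∈ TT hθ ∧ a0 hθ * lamG hθ h ∈ TT hθ := fun h hh' =>
    ⟨Or.inl ((mem_LT hθ).2 ⟨h, hh', rfl⟩),
      mul_mem (a0_mem_TT hθ) (Or.inl ((mem_LT hθ).2 ⟨h, hh', rfl⟩) : lamG hθ h ∈ TT hθ)⟩
  rcases hgw with h | h
  · left
    have hgc : g ∈ circ K := Subgroup.mem_centralizer_singleton_iff.2 h
    rcases hg' with rfl | rfl
    · exact (lift g hgc).1
    · exact (lift g hgc).2
  · right
    have hd : g.1 0 0 * g.1 1 1 - g.1 0 1 * g.1 1 0 = 1 := (Matrix.det_fin_two g.1).symm.trans g.2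
    have a := congrArg (fun z : SL(2, K) => z.1 0 0) h
    have b := congrArg (fun z : SL(2, K) => z.1 0 1) h
    simp [Matrix.mul_apply, Fin.sum_univ_two, ent2, nent2, wS_val] at a b
    have g10 : g.1 1 0 = g.1 0 1 := by linear_combination -a
    have g11 : g.1 1 1 = -g.1 0 0 := by linear_combination b
    rw [g10, g11] at hd
    have hgg : g * g = -1 := by
      ext i j
      fin_cases i <;> fin_cases j <;> simp [Matrix.mul_apply, Fin.sum_univ_two, g10, g11] <;>
        first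
          | linear_combination -hd
          | ring
    have hjg : jS * g ∈ circ K := by
      refine mem_circ.2 ⟨?_, ?_⟩ <;> simp [Matrix.mul_apply, Fin.sum_univ_two, jS_val, g10, g11] <;> ring
    have hl : lamG hθ g * lamG hθ g = 1 := by
      rw [← map_mul, hgg]; exact (lamG_eq_one hθ).2 (Or.inr rfl)
    rcases hg' with rfl | rfl
    · exact ⟨hl, by rw [← map_mul]; exact (lift _ hjg).1⟩
    · refine ⟨?_, ?_⟩
      · rw [show a0 hθ * lamG hθ g * (a0 hθ * lamG hθ g) = a0 hθ * (lamG hθ g * a0 hθ) * lamG hθ g by group,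
          lamG_comm, show a0 hθ * (a0 hθ * lamG hθ g) * lamG hθ g =
            (a0 hθ * a0 hθ) * (lamG hθ g * lamG hθ g) by group, a0_sq, hl, one_mul]
      · rw [← mul_assoc, lamG_comm hθ, mul_assoc, ← map_mul]
        exact (lift _ hjg).2

/-- elements of C(V) of order dividing k lie in A2 -/
theorem cent_V_A2 {x : ↥(fixG θ)} (h0 : x * a0 hθ = a0 hθ * x) (hW : x * lamG hθ wS = lamG hθ wS * x)
    (hk : x ^ kA K = 1) : x ∈ A2 hθ := by
  refine ⟨?_, hk⟩
  rcases cent_V hθ hq8 h0 hW with h | ⟨h, -⟩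
  · exact h
  · have : x = 1 := by
      rw [← hk]
      conv_rhs => rw [← Nat.div_add_mod (kA K) 2, kA_odd hq8, pow_succ, pow_mul, pow_two, h, one_pow, one_mul]
    rw [this]; exact one_mem _

/-- conjugacy of involutions commuting with a0 -/
theorem invol_in_C0 {u : ↥(fixG θ)} (h0 : u * a0 hθ = a0 hθ * u) (h2 : u * u = 1) (h1 : u ≠ 1)
    (ha : u ≠ a0 hθ) : ∃ c : ↥(fixG θ), c * a0 hθ = a0 hθ * c ∧
      (c * u * c⁻¹ = lamG hθ wS ∨ c * u * c⁻¹ = a0 hθ * lamG hθ wS) := by
  obtain ⟨g, hg'⟩ := comm_a0_cases hθ h0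
  have hl : lamG hθ g * lamG hθ g = 1 := by
    rcases hg' with rfl | rfl
    · exact h2
    · rwa [show a0 hθ * lamG hθ g * (a0 hθ * lamG hθ g) = a0 hθ * (lamG hθ g * a0 hθ) * lamG hθ g by group,
        lamG_comm, show a0 hθ * (a0 hθ * lamG hθ g) * lamG hθ g =
            (a0 hθ * a0 hθ) * (lamG hθ g * lamG hθ g) by group, a0_sq, one_mul] at h2
  have hne : lamG hθ g ≠ 1 := fun e => by
    rcases hg' with rfl | rfl
    · exact h1 e
    · exact ha (by rw [e, mul_one])
  have hgg : g * g = -1 := by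
    rw [← map_mul] at hl
    refine ((lamG_eq_one hθ).1 hl).resolve_left fun e => hne ((lamG_eq_one hθ).2 ?_)
    have hd : g.1 0 0 * g.1 1 1 - g.1 0 1 * g.1 1 0 = 1 := (Matrix.det_fin_two g.1).symm.trans g.2
    have hinv : g⁻¹ = g := inv_eq_of_mul_eq_one_right e
    have a := congrArg (fun z : SL(2, K) => z.1 0 0) hinv
    have b := congrArg (fun z : SL(2, K) => z.1 0 1) hinv
    have c := congrArg (fun z : SL(2, K) => z.1 1 0) hinv
    simp [Matrix.SpecialLinearGroup.coe_inv, Matrix.adjugate_fin_two] at a b c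
    have hb : g.1 0 1 = 0 := by linear_combination b + g.1 0 1 * three (K := K)
    have hc : g.1 1 0 = 0 := by linear_combination c + g.1 1 0 * three (K := K)
    rw [hb, hc, a] at hd
    rcases mul_self_eq_one_iff.1 (show g.1 0 0 * g.1 0 0 = 1 by linear_combination hd) with e' | e'
    · left; ext i j; fin_cases i <;> fin_cases j <;> simp [hb, hc, a, e']
    · right; ext i j; fin_cases i <;> fin_cases j <;> simp [hb, hc, a, e']
  obtain ⟨h, hh'⟩ := invol_conj_w hq8 hgg
  have hW : lamG hθ h * lamG hθ g * (lamG hθ h)⁻¹ = lamG hθ wS := by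
    rw [mul_inv_eq_iff_eq_mul, ← map_mul, ← map_mul]
    rcases hh' with e | e
    · rw [e]
    · rw [e, lamG_neg]
  refine ⟨lamG hθ h, lamG_comm hθ h, ?_⟩
  rcases hg' with rfl | rfl
  · exact Or.inl hW
  · right
    rw [← mul_assoc, lamG_comm, mul_assoc, mul_assoc, ← mul_assoc (lamG hθ h), hW]

theorem NV_transitive {v : ↥(fixG θ)} (hv : v = lamG hθ wS ∨ v = a0 hθ * lamG hθ wS) :
    ∃ n ∈ Subgroup.normalizer (VV hθ : Set ↥(fixG θ)), n * a0 hθ * n⁻¹ = v := by
  have hvV : v ∈ VV hθ := by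
    rw [mem_VV hθ hq8]; rcases hv with rfl | rfl <;> simp
  have hva : v ≠ a0 hθ := by
    rcases hv with rfl | rfl
    · exact (a0_ne_lamG hθ wS).symm
    · exact fun e => W_ne_one hθ hq8 (mul_eq_left.1 e)
  have hv1 : v ≠ 1 := by
    rcases hv with rfl | rfl
    · exact W_ne_one hθ hq8
    · exact fun e => a0_ne_lamG hθ wS (by
        rw [eq_inv_of_mul_eq_one_left e, inv_eq_of_mul_eq_one_right (invol_W hθ)])
  obtain ⟨g, hg'⟩ := invol_conj hθ hv1 hvV.2
  set u := g⁻¹ * a0 hθ * g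
  have hc : a0 hθ * v = v * a0 hθ := TT_comm hθ (a0_mem_TT hθ) hvV.1
  have h0 : u * a0 hθ = a0 hθ * u := by
    calc u * a0 hθ = g⁻¹ * (a0 hθ * (g * a0 hθ * g⁻¹)) * g := by simp only [u]; group
      _ = g⁻¹ * ((g * a0 hθ * g⁻¹) * a0 hθ) * g := by rw [hg', hc]
      _ = _ := by simp only [u]; group
  have h2 : u * u = 1 := by
    calc u * u = g⁻¹ * (a0 hθ * a0 hθ) * g := by simp only [u]; group
      _ = 1 := by rw [a0_sq]; group
  have h1 : u ≠ 1 := fun e => a0_ne_one hθ (by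
    calc a0 hθ = g * u * g⁻¹ := by simp only [u]; group
      _ = 1 := by rw [e]; group)
  have ha : u ≠ a0 hθ := fun e => hva (by
    rw [← hg']
    calc g * a0 hθ * g⁻¹ = g * u * g⁻¹ := by rw [e]
      _ = a0 hθ := by simp only [u]; group)
  obtain ⟨c, hca, hcu⟩ := invol_in_C0 hθ hq8 h0 h2 h1 ha
  set n := g * c⁻¹
  have hna : n * a0 hθ * n⁻¹ = v := by
    calc n * a0 hθ * n⁻¹ = g * (c⁻¹ * (a0 hθ * c)) * g⁻¹ := by simp only [n]; group
      _ = v := by rw [← hca, inv_mul_cancel_left, hg']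
  have hnu : n * (c * u * c⁻¹) * n⁻¹ = a0 hθ := by simp only [n, u]; group
  refine ⟨n, mem_normalizer_of_conj fun x hx => ?_, hna⟩
  have ha0 : a0 hθ ∈ VV hθ := ⟨a0_mem_TT hθ, a0_sq hθ⟩
  have hW : n * lamG hθ wS * n⁻¹ ∈ VV hθ := by
    rcases hcu with e | e <;> rw [e] at hnu
    · rw [hnu]; exact ha0
    · rw [show lamG hθ wS = a0 hθ * (a0 hθ * lamG hθ wS) by rw [← mul_assoc, a0_sq, one_mul],
        show n * (a0 hθ * (a0 hθ * lamG hθ wS)) * n⁻¹ =
          (n * a0 hθ * n⁻¹) * (n * (a0 hθ * lamG hθ wS) * n⁻¹) by group, hna, hnu]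
      exact mul_mem hvV ha0
  rcases (mem_VV hθ hq8).1 hx with rfl | rfl | rfl | rfl
  · rw [mul_one, mul_inv_cancel]; exact one_mem _
  · rw [hna]; exact hvV
  · exact hW
  · rw [show n * (a0 hθ * lamG hθ wS) * n⁻¹ = (n * a0 hθ * n⁻¹) * (n * lamG hθ wS * n⁻¹) by group, hna]
    exact mul_mem hvV hW

theorem NV_A2 {n x : ↥(fixG θ)} (hn : n ∈ Subgroup.normalizer (VV hθ : Set ↥(fixG θ))) (hx : x ∈ A2 hθ) :
    n * x * n⁻¹ ∈ A2 hθ := by
  have key : ∀ v ∈ VV hθ, n * x * n⁻¹ * v = v * (n * x * n⁻¹) := by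
    intro v hv
    have hn' := inv_mem hn
    have hm : n⁻¹ * v * n ∈ VV hθ := by
      have := (Subgroup.mem_normalizer_iff.1 hn' v).1 hv
      rwa [inv_inv] at this
    calc n * x * n⁻¹ * v = n * (x * (n⁻¹ * v * n)) * n⁻¹ := by group
      _ = n * ((n⁻¹ * v * n) * x) * n⁻¹ := by rw [TT_comm hθ hx.1 hm.1]
      _ = _ := by group
  exact cent_V_A2 hθ hq8 (key _ ⟨a0_mem_TT hθ, a0_sq hθ⟩) (key _ ⟨W_mem_TT hθ, invol_W hθ⟩)
    (by rw [conj_pow, hx.2, mul_one, mul_inv_cancel])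

theorem kA_pow_mem {x : ↥(fixG θ)} (hx : x ∈ TT hθ) : x ^ kA K ∈ VV hθ :=
  ⟨pow_mem hx _, by rw [← pow_two, ← pow_mul, mul_comm, pow_mul, pow_two]; exact (TT_sq hθ hq8 hx).2⟩

theorem NV_TT {n x : ↥(fixG θ)} (hn : n ∈ Subgroup.normalizer (VV hθ : Set ↥(fixG θ))) (hx : x ∈ TT hθ) :
    n * x * n⁻¹ ∈ TT hθ := by
  obtain ⟨j, hj⟩ : ∃ j, kA K = 2 * j + 1 := ⟨kA K / 2, by have := kA_odd hq8; omega⟩
  have e : x = x ^ kA K * ((x * x) ^ j)⁻¹ := by
    rw [hj, ← pow_two, ← pow_mul, pow_succ']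
    group
  rw [e, show n * (x ^ kA K * ((x * x) ^ j)⁻¹) * n⁻¹ =
    (n * x ^ kA K * n⁻¹) * (n * ((x * x) ^ j)⁻¹ * n⁻¹) by group]
  refine mul_mem ?_ (NV_A2 hθ hq8 hn (inv_mem (pow_mem (TT_sq hθ hq8 hx) j))).1
  exact ((Subgroup.mem_normalizer_iff.1 hn _).1 (kA_pow_mem hθ hq8 hx)).1

theorem card_NV : Nat.card ↥(Subgroup.normalizer (VV hθ : Set ↥(fixG θ))) = 6 * (Fintype.card K + 1) := by
  classical
  set N := Subgroup.normalizer (VV hθ : Set ↥(fixG θ))
  have hWv : lamG hθ wS ∈ VV hθ := ⟨W_mem_TT hθ, invol_W hθ⟩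
  have hav : a0 hθ ∈ VV hθ := ⟨a0_mem_TT hθ, a0_sq hθ⟩
  have o1 : Nat.card {y : ↥(fixG θ) // ∃ m ∈ N, m * a0 hθ * m⁻¹ = y} = 3 := by
    have hset : {y : ↥(fixG θ) | ∃ m ∈ N, m * a0 hθ * m⁻¹ = y} =
        ↑({a0 hθ, lamG hθ wS, a0 hθ * lamG hθ wS} : Finset ↥(fixG θ)) := by
      ext y
      simp only [Finset.coe_insert, Finset.coe_singleton, Set.mem_insert_iff, Set.mem_singleton_iff, Set.mem_setOf_eq]
      constructor
      · rintro ⟨m, hm, rfl⟩
        refine ((mem_VV hθ hq8).1 ((Subgroup.mem_normalizer_iff.1 hm _).1 hav)).resolve_left fun e => ?_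
        exact a0_ne_one hθ (conj_eq_one_iff.1 e)
      · rintro (rfl | rfl | rfl)
        · exact ⟨1, one_mem _, by simp⟩
        · exact NV_transitive hθ hq8 (Or.inl rfl)
        · exact NV_transitive hθ hq8 (Or.inr rfl)
    change Nat.card ↥{y : ↥(fixG θ) | ∃ m ∈ N, m * a0 hθ * m⁻¹ = y} = 3
    rw [hset, Nat.card_coe_set_eq, Set.ncard_coe_finset, Finset.card_eq_three]
    refine ⟨_, _, _, a0_ne_lamG hθ wS, fun e => W_ne_one hθ hq8 (left_eq_mul.1 e), fun e => a0_ne_one hθ ?_, rfl⟩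
    exact (right_eq_mul.1 e)
  let S := N ⊓ Subgroup.centralizer {a0 hθ}
  let f : Bool × ↥(TT hθ) → ↥S := fun p => ⟨cond p.1 (lamG hθ jS) 1 * p.2, by
    constructor
    · refine mul_mem ?_ (mem_normalizer_of_conj fun v hv => by
        rw [TT_comm hθ p.2.2 hv.1, mul_inv_cancel_right]; exact hv)
      cases p.1
      · exact one_mem _
      · refine mem_normalizer_of_conj fun v hv => ?_
        have hw : lamG hθ jS * lamG hθ wS * (lamG hθ jS)⁻¹ = lamG hθ wS := by
          rw [comm_WJ, mul_inv_cancel_right]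
        have ha : lamG hθ jS * a0 hθ * (lamG hθ jS)⁻¹ = a0 hθ := by rw [lamG_comm, mul_inv_cancel_right]
        simp only [cond_true]
        rcases (mem_VV hθ hq8).1 hv with rfl | rfl | rfl | rfl
        · rw [mul_one, mul_inv_cancel]; exact one_mem _
        · rw [ha]; exact hav
        · rw [hw]; exact hWv
        · rw [show lamG hθ jS * (a0 hθ * lamG hθ wS) * (lamG hθ jS)⁻¹ =
            (lamG hθ jS * a0 hθ * (lamG hθ jS)⁻¹) * (lamG hθ jS * lamG hθ wS * (lamG hθ jS)⁻¹) by group, hw, ha]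
          exact hv
    · refine mul_mem ?_ (Subgroup.mem_centralizer_singleton_iff.2 (TT_comm_a0 hθ p.2.2))
      cases p.1
      · exact one_mem _
      · exact Subgroup.mem_centralizer_singleton_iff.2 (lamG_comm hθ jS)⟩
  have hJ : lamG hθ jS ∉ TT hθ := fun h => by
    have hgc : (jS : SL(2, K)) ∈ circ K := by
      rcases h with h | h <;> obtain ⟨g, hg', e⟩ := (mem_LT hθ).1 h
      · rcases lamG_eq hθ e with rfl | rfl
        · exact hg'
        · simpa using mul_mem (show (-1 : SL(2, K)) ∈ circ K from mem_circ.2 ⟨by simp, by simp⟩) hg'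
      · exfalso
        refine a0_ne_lamG hθ (g * jS⁻¹) ?_
        rw [map_mul, map_inv, e, mul_inv_cancel_right]
    obtain ⟨h1, -⟩ := mem_circ.1 hgc
    simp [jS_val] at h1
    exact neg_one_ne_one h1.symm
  have hf : Function.Bijective f := by
    constructor
    · rintro ⟨b, x⟩ ⟨c, y⟩ h
      have h' := congrArg Subtype.val h
      simp only [f] at h'
      rcases b with _ | _ <;> rcases c with _ | _ <;> simp only [cond_true, cond_false, one_mul] at h'
      · exact Prod.ext rfl (Subtype.ext h')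
      · exact absurd (show lamG hθ jS ∈ TT hθ by
          rw [show lamG hθ jS = x.1 * y.1⁻¹ by rw [h']; group]; exact mul_mem x.2 (inv_mem y.2)) hJ
      · exact absurd (show lamG hθ jS ∈ TT hθ by
          rw [show lamG hθ jS = y.1 * x.1⁻¹ by rw [← h']; group]; exact mul_mem y.2 (inv_mem x.2)) hJ
      · exact Prod.ext rfl (Subtype.ext (mul_left_cancel h'))
    · rintro ⟨x, hxN, hxa⟩
      replace hxa : x * a0 hθ = a0 hθ * x := Subgroup.mem_centralizer_singleton_iff.1 hxa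
      have hxW : x * lamG hθ wS = lamG hθ wS * x := by
        rw [← mul_inv_eq_iff_eq_mul]
        have hm := (Subgroup.mem_normalizer_iff.1 hxN _).1 hWv
        rcases (mem_VV hθ hq8).1 hm with e | e | e | e
        · exact absurd (conj_eq_one_iff.1 e) (W_ne_one hθ hq8)
        · exfalso
          exact a0_ne_lamG hθ wS (by
            calc a0 hθ = x⁻¹ * (a0 hθ * x) := by rw [← hxa]; group
              _ = x⁻¹ * (x * lamG hθ wS * x⁻¹ * x) := by rw [e]
              _ = _ := by group)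
        · exact e
        · exfalso
          obtain ⟨g, hg'⟩ := comm_a0_cases hθ hxa
          have hx' : x * lamG hθ wS * x⁻¹ = lamG hθ (g * wS * g⁻¹) := by
            rw [map_mul, map_mul, map_inv]
            rcases hg' with rfl | rfl
            · rfl
            · calc a0 hθ * lamG hθ g * lamG hθ wS * (a0 hθ * lamG hθ g)⁻¹
                  = a0 hθ * lamG hθ (g * wS * g⁻¹) * (a0 hθ)⁻¹ := by rw [map_mul, map_mul, map_inv]; group
                _ = _ := by rw [← lamG_comm hθ, mul_inv_cancel_right, map_mul, map_mul, map_inv]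
          rw [hx', ← mul_inv_eq_iff_eq_mul, ← map_inv, ← map_mul] at e
          exact a0_ne_lamG hθ _ e.symm
      rcases cent_V hθ hq8 hxa hxW with h | ⟨-, h⟩
      · exact ⟨(false, ⟨x, h⟩), Subtype.ext (one_mul x)⟩
      · exact ⟨(true, ⟨_, h⟩), Subtype.ext (show lamG hθ jS * (lamG hθ jS * x) = x by
          rw [← mul_assoc, invol_J, one_mul])⟩
  rw [card_orbit_conj N (a0 hθ), o1, ← Nat.card_eq_of_bijective f hf, Nat.card_prod, card_TT hθ hq8]
  simp only [Nat.card_eq_fintype_card, Fintype.card_bool]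
  ring

theorem A2_index_prime {l : ℕ} (hl : l.Prime) (h2 : l ≠ 2) (h : l ∣ Fintype.card K + 1) :
    ¬ l ∣ (A2 hθ).index := by
  have h3 : l ≠ 3 := by
    rintro rfl
    have := three_dvd_q (K := K)
    omega
  have hc := (A2 hθ).card_mul_index
  rw [card_A2 hθ hq8, card_eq hθ, four_kA hq8] at hc
  have hkp : 0 < kA K := by have := kA_odd hq8; omega
  have hi : (A2 hθ).index = Fintype.card K ^ 3 * ((Fintype.card K - 1) * (2 ^ 2 * nq K)) :=
    Nat.eq_of_mul_eq_mul_left hkp (hc.trans (by ring))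
  rw [hi, hl.dvd_mul, hl.dvd_mul, hl.dvd_mul]
  rintro (g | g | g | g)
  · obtain ⟨n, -, hn⟩ := exists_three_pow (K := K)
    rw [hn, ← pow_mul] at g
    exact h3 ((Nat.prime_dvd_prime_iff_eq hl Nat.prime_three).1 (hl.dvd_of_dvd_pow g))
  · exact h2 (eq_two_of_dvd_pred_succ hl g h)
  · exact h2 ((Nat.prime_dvd_prime_iff_eq hl Nat.prime_two).1 (hl.dvd_of_dvd_pow g))
  · exact not_dvd_nq_succ hl h g

theorem circle_sylow_cyclic {l : ℕ} [Fact l.Prime] (h2 : l ≠ 2) (hl : l ∣ Fintype.card K + 1)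
    (P : Sylow l ↥(fixG θ)) : IsCyclic ↥(P : Subgroup ↥(fixG θ)) := by
  obtain ⟨g, hg'⟩ := exists_conj_le l (A2 hθ) (A2_index_prime hθ hq8 Fact.out h2 hl) P P.isPGroup'
  haveI := A2_cyclic hθ hq8
  let f : ↥(P : Subgroup ↥(fixG θ)) →* ↥(A2 hθ) :=
    { toFun := fun x => ⟨g⁻¹ * x * g, hg' x x.2⟩
      map_one' := Subtype.ext (by simp)
      map_mul' := fun x y => Subtype.ext (by simp [mul_assoc]) }
  exact isCyclic_of_injective f fun x y h =>
    Subtype.ext (mul_left_cancel (mul_right_cancel (congrArg Subtype.val h)))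

theorem sylow_cyclic {p : ℕ} [Fact p.Prime] (hp : 3 < p) (P : Sylow p ↥(fixG θ)) :
    IsCyclic ↥(P : Subgroup ↥(fixG θ)) := by
  by_cases hd : p ∣ Nat.card ↥(fixG θ)
  · rcases prime_cases hθ Fact.out hd with h | h | ⟨-, h | h | h⟩
    · omega
    · omega
    · exact split_sylow_cyclic hθ (by omega) h P
    · exact circle_sylow_cyclic hθ hq8 (by omega) h P
    · exact singer_sylow_cyclic hθ h P
  · have hb : Nat.card ↥(P : Subgroup ↥(fixG θ)) = 1 := by
      rw [P.card_eq_multiplicity, Nat.factorization_eq_zero_of_not_dvd hd, pow_zero]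
    haveI := (Nat.card_eq_one_iff_unique.1 hb).1
    infer_instance

/-- the centraliser of a nontrivial element of A2 inside C(a0) -/
theorem cent_A2_C0 {x y : ↥(fixG θ)} (hy : y ∈ A2 hθ) (hy1 : y ≠ 1) (h0 : x * a0 hθ = a0 hθ * x)
    (h : x * y = y * x) : x ∈ TT hθ := by
  obtain ⟨s, hs, rfl⟩ := (mem_LT hθ).1 (A2_le_LT hθ hq8 hy)
  obtain ⟨s1, s2⟩ := mem_circ.1 hs
  have hd : s.1 0 0 * s.1 1 1 - s.1 0 1 * s.1 1 0 = 1 := (Matrix.det_fin_two s.1).symm.trans s.2
  rw [s1, s2] at hd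
  have hb : s.1 0 1 ≠ 0 := by
    intro hb
    refine hy1 ((lamG_eq_one hθ).2 ?_)
    rw [hb] at hd
    rcases mul_self_eq_one_iff.1 (show s.1 0 0 * s.1 0 0 = 1 by linear_combination hd) with e | e
    · left; ext i j; fin_cases i <;> fin_cases j <;> simp [s1, s2, hb, e]
    · right; ext i j; fin_cases i <;> fin_cases j <;> simp [s1, s2, hb, e]
  have ha : s.1 0 0 ≠ 0 := by
    intro ha
    rw [ha] at hd
    have hsW : lamG hθ s = lamG hθ wS := by
      rcases mul_self_eq_one_iff.1 (show s.1 0 1 * s.1 0 1 = 1 by linear_combination hd) with e | e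
      · congr 1; ext i j; fin_cases i <;> fin_cases j <;> simp [wS_val, s1, s2, ha, e]
      · rw [← lamG_neg hθ]; congr 1; ext i j; fin_cases i <;> fin_cases j <;> simp [wS_val, s1, s2, ha, e]
    refine hy1 ?_
    rw [← hy.2, hsW]
    conv_rhs => rw [← Nat.div_add_mod (kA K) 2, kA_odd hq8, pow_succ, pow_mul, pow_two, invol_W, one_pow, one_mul]
  obtain ⟨g, hg'⟩ := comm_a0_cases hθ h0
  have hgs : g * s = s * g ∨ g * s = -(s * g) := by
    apply lamG_eq hθ
    rw [map_mul, map_mul]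
    rcases hg' with rfl | rfl
    · exact h
    · calc lamG hθ g * lamG hθ s = a0 hθ * (a0 hθ * lamG hθ g * lamG hθ s) := by
            rw [← mul_assoc, ← mul_assoc, a0_sq, one_mul]
        _ = a0 hθ * (lamG hθ s * a0 hθ * lamG hθ g) := by rw [h]; group
        _ = _ := by rw [lamG_comm hθ s, ← mul_assoc, ← mul_assoc, a0_sq, one_mul]
  have hgc : g ∈ circ K := by
    rcases hgs with e | e
    · have a := congrArg (fun z : SL(2, K) => z.1 0 0) e
      have b := congrArg (fun z : SL(2, K) => z.1 0 1) e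
      simp [Matrix.mul_apply, Fin.sum_univ_two, ent2, s1, s2] at a b
      refine mem_circ.2 ⟨mul_left_cancel₀ hb ?_, mul_left_cancel₀ hb ?_⟩
      · linear_combination -a
      · linear_combination -b
    · exfalso
      have e' : s = -(g⁻¹ * s * g) := by
        rw [mul_assoc, ← neg_neg (s * g), ← e, mul_neg, neg_neg, inv_mul_cancel_left]
      have htr := congrArg (fun z : SL(2, K) => z.1.trace) e'
      simp only [Matrix.SpecialLinearGroup.coe_neg, Matrix.trace_neg, Matrix.SpecialLinearGroup.coe_mul] at htr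
      rw [Matrix.trace_mul_cycle, ← Matrix.SpecialLinearGroup.coe_mul, mul_inv_cancel,
        Matrix.SpecialLinearGroup.coe_one, one_mul, Matrix.trace_fin_two, s2] at htr
      exact ha (by linear_combination htr - s.1 0 0 * three (K := K))
  have hm : lamG hθ g ∈ TT hθ := Or.inl ((mem_LT hθ).2 ⟨g, hgc, rfl⟩)
  rcases hg' with rfl | rfl
  · exact hm
  · exact mul_mem (a0_mem_TT hθ) hm

theorem cent_A2_V {x y v : ↥(fixG θ)} (hy : y ∈ A2 hθ) (hy1 : y ≠ 1) (hv : v ∈ VV hθ) (hv1 : v ≠ 1)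
    (h0 : x * v = v * x) (h : x * y = y * x) : x ∈ TT hθ := by
  have hn : ∃ n ∈ Subgroup.normalizer (VV hθ : Set ↥(fixG θ)), n * a0 hθ * n⁻¹ = v := by
    rcases (mem_VV hθ hq8).1 hv with rfl | rfl | rfl | rfl
    · exact absurd rfl hv1
    · exact ⟨1, one_mem _, by simp⟩
    · exact NV_transitive hθ hq8 (Or.inl rfl)
    · exact NV_transitive hθ hq8 (Or.inr rfl)
  obtain ⟨n, hn, e⟩ := hn
  have hy' : n⁻¹ * y * n ∈ A2 hθ := by
    have := NV_A2 hθ hq8 (inv_mem hn) hy
    rwa [inv_inv] at this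
  have hm := cent_A2_C0 hθ hq8 (x := n⁻¹ * x * n) hy' (fun g => hy1 (by
      calc y = n * (n⁻¹ * y * n) * n⁻¹ := by group
        _ = 1 := by rw [g]; group)) (by
      calc n⁻¹ * x * n * a0 hθ = n⁻¹ * (x * (n * a0 hθ * n⁻¹)) * n := by group
        _ = n⁻¹ * ((n * a0 hθ * n⁻¹) * x) * n := by rw [e, h0]
        _ = _ := by group) (by
      calc n⁻¹ * x * n * (n⁻¹ * y * n) = n⁻¹ * (x * y) * n := by group
        _ = n⁻¹ * (y * x) * n := by rw [h]
        _ = _ := by group)
  have := NV_TT hθ hq8 hn hm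
  rwa [show n * (n⁻¹ * x * n) * n⁻¹ = x by group] at this

/-- the centraliser of a nontrivial element of A2 is T -/
theorem cent_A2 {y : ↥(fixG θ)} (hy : y ∈ A2 hθ) (hy1 : y ≠ 1) :
    Subgroup.centralizer ({y} : Set ↥(fixG θ)) = TT hθ := by
  classical
  set D := Subgroup.centralizer ({y} : Set ↥(fixG θ))
  have hTD : TT hθ ≤ D := fun x hx => Subgroup.mem_centralizer_singleton_iff.2 (TT_comm hθ hx hy.1)
  have hVD : VV hθ ≤ D := fun x hx => hTD hx.1
  haveI : Fact (Nat.Prime 2) := ⟨Nat.prime_two⟩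
  haveI : Fact (Nat.Prime 3) := ⟨Nat.prime_three⟩
  have hoy : orderOf y ∣ kA K := orderOf_dvd_of_pow_eq_one hy.2
  have hk4 := four_kA hq8
  have hkodd := kA_odd hq8
  have hno3 : ¬ 3 ∣ Nat.card ↥D := by
    intro h
    obtain ⟨⟨w, hwD⟩, hw⟩ := exists_prime_orderOf_dvd_card' 3 h
    rw [Subgroup.orderOf_mk] at hw
    obtain ⟨g, hgB, -⟩ := three_cent hθ hw (Subgroup.mem_centralizer_singleton_iff.1 hwD).symm
    have hd := Subgroup.orderOf_dvd_natCard (Bf θ) hgB
    rw [SemiconjBy.orderOf_eq g (show g * (g⁻¹ * y * g) = y * g by group), card_Bf hθ] at hd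
    refine hy1 (orderOf_eq_one_iff.1 (Nat.eq_one_of_dvd_coprimes ?_ hoy hd))
    refine Nat.coprime_of_dvd fun r hr h1 h2 => ?_
    have hr1 : r ∣ Fintype.card K + 1 := hk4 ▸ dvd_mul_of_dvd_right h1 4
    have hr2 : r ≠ 2 := by rintro rfl; omega
    have hr3 : r ≠ 3 := by
      rintro rfl
      have := three_dvd_q (K := K)
      omega
    rcases hr.dvd_mul.1 h2 with g | g
    · obtain ⟨n, -, hn⟩ := exists_three_pow (K := K)
      rw [hn, ← pow_mul] at g
      exact hr3 ((Nat.prime_dvd_prime_iff_eq hr Nat.prime_three).1 (hr.dvd_of_dvd_pow g))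
    · exact hr2 (eq_two_of_dvd_pred_succ hr g hr1)
  have hnoq : ∀ r : ℕ, r.Prime → r ≠ 2 → r ∣ Fintype.card K - 1 → ¬ r ∣ Nat.card ↥D := by
    intro r hr h2 hrq h
    haveI : Fact r.Prime := ⟨hr⟩
    obtain ⟨⟨w, hwD⟩, hw⟩ := exists_prime_orderOf_dvd_card' r h
    rw [Subgroup.orderOf_mk] at hw
    obtain ⟨g, b, hb1, hb2, hb⟩ := split_elem hθ h2 hrq hw
    have hc := (Subgroup.mem_centralizer_singleton_iff.1 hwD).symm
    have hm : g⁻¹ * y * g ∈ Hf θ := cent_hg hθ hb1 hb2 (by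
      rw [← hb]
      calc g⁻¹ * y * g * (g⁻¹ * w * g) = g⁻¹ * (y * w) * g := by group
        _ = g⁻¹ * (w * y) * g := by rw [hc]
        _ = _ := by group)
    have hd := Subgroup.orderOf_dvd_natCard (Hf θ) hm
    rw [SemiconjBy.orderOf_eq g (show g * (g⁻¹ * y * g) = y * g by group), card_Hf' hθ] at hd
    refine hy1 (orderOf_eq_one_iff.1 (Nat.eq_one_of_dvd_coprimes ?_ hoy hd))
    refine Nat.coprime_of_dvd fun s hs h1 h3 => ?_
    have hs2 : s ≠ 2 := by rintro rfl; omega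
    exact hs2 (eq_two_of_dvd_pred_succ hs h3 (hk4 ▸ dvd_mul_of_dvd_right h1 4))
  -- a Sylow two subgroup of D
  have h8 : ∀ S : Subgroup ↥(fixG θ), S ≤ D → Nat.card ↥S ≠ 8 := by
    intro S hSD hS
    let S' : Sylow 2 ↥(fixG θ) := (IsPGroup.of_card (n := 3) (by rw [hS]; norm_num)).toSylow (by
      intro h
      have h1 := S.card_mul_index
      have h2 := (E0 hθ).card_mul_index
      rw [card_E0 hθ, ← h1, hS] at h2
      rw [← Nat.eq_of_mul_eq_mul_left (by norm_num) h2] at h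
      exact E0_index_odd hθ hq8 h)
    have hm : y ∈ (S' : Subgroup ↥(fixG θ)) := by
      rw [← sylow_two_cent hθ hq8 S']
      exact Subgroup.mem_centralizer_iff.2 fun s hs => Subgroup.mem_centralizer_singleton_iff.1 (hSD hs)
    have h2 := (sylow_two_elementary hθ hq8 S').2 y hm
    refine hy1 ?_
    rw [← hy.2]
    conv_rhs => rw [← Nat.div_add_mod (kA K) 2, hkodd, pow_succ, pow_mul, pow_two, h2, one_pow, one_mul]
  set P0 := (VV hθ).subgroupOf D
  have hP0 : Nat.card ↥P0 = 4 := by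
    rw [Nat.card_congr (Subgroup.subgroupOfEquivOfLe hVD).toEquiv, card_VV hθ hq8]
  have hidx : ¬ 2 ∣ P0.index := by
    intro h
    have h8' : 2 ^ 3 ∣ Nat.card ↥D := by
      rw [← P0.card_mul_index, hP0]
      exact Nat.mul_dvd_mul_left 4 h
    obtain ⟨S, hS⟩ := Sylow.exists_subgroup_card_pow_prime 2 h8'
    refine h8 (S.map D.subtype) (Subgroup.map_subtype_le S) ?_
    rw [Subgroup.card_map_of_injective D.subtype_injective, hS]
    norm_num
  let P : Sylow 2 ↥D := (IsPGroup.of_card (n := 2) (by rw [hP0]; norm_num)).toSylow hidx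
  have hPc : (P : Subgroup ↥D) = P0 := rfl
  have hNC : Subgroup.normalizer ((P : Subgroup ↥D) : Set ↥D) ≤
      Subgroup.centralizer ((P : Subgroup ↥D) : Set ↥D) := by
    rw [hPc]
    intro n hn
    rw [Subgroup.mem_centralizer_iff]
    intro v hv
    set N := Subgroup.normalizer (P0 : Set ↥D)
    by_cases hv1 : v = 1
    · rw [hv1, one_mul, mul_one]
    have horb := card_orbit_conj N v
    set S := N ⊓ Subgroup.centralizer {v}
    have hPS : P0 ≤ S := fun u hu => ⟨Subgroup.le_normalizer hu, Subgroup.mem_centralizer_singleton_iff.2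
      (Subtype.ext (TT_comm hθ (Subgroup.mem_subgroupOf.1 hu).1 (Subgroup.mem_subgroupOf.1 hv).1))⟩
    have h4 : 4 ∣ Nat.card ↥S := hP0 ▸ Subgroup.card_dvd_of_le hPS
    have hND : Nat.card ↥N ∣ Nat.card ↥D := Subgroup.card_subgroup_dvd_card N
    set o := Nat.card {u : ↥D // ∃ m ∈ N, m * v * m⁻¹ = u}
    have ho3 : o ≤ 3 := by
      have hsub : ∀ u : {u : ↥D // ∃ m ∈ N, m * v * m⁻¹ = u}, u.1 ∈ P0 ∧ u.1 ≠ 1 := by
        rintro ⟨u, m, hm, rfl⟩
        exact ⟨(Subgroup.mem_normalizer_iff.1 hm v).1 hv, fun e => hv1 (conj_eq_one_iff.1 e)⟩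
      refine (Nat.card_le_card_of_injective (fun u => (⟨⟨u.1, (hsub u).1⟩,
        fun e => (hsub u).2 (congrArg Subtype.val e)⟩ : {w : ↥P0 // w ≠ 1}))
        fun a b e => Subtype.ext (congrArg (fun w : {w : ↥P0 // w ≠ 1} => (w.1.1)) e)).trans ?_
      rw [Nat.card_eq_fintype_card, Fintype.card_subtype_compl, Fintype.card_subtype_eq, ← Nat.card_eq_fintype_card,
        hP0]
    have hoD : o * Nat.card ↥S ∣ Nat.card ↥D := horb ▸ hND
    have ho1 : o = 1 := by
      have hpos : 0 < o := by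
        haveI : Nonempty {u : ↥D // ∃ m ∈ N, m * v * m⁻¹ = u} := ⟨⟨v, 1, one_mem _, by simp⟩⟩
        exact Nat.card_pos
      have ho2 : o ≠ 2 := fun e => hidx (by
        rw [e] at hoD
        have h : 4 * 2 ∣ 4 * P0.index := by
          have h' := (Nat.mul_dvd_mul_left 2 h4).trans hoD
          rw [← P0.card_mul_index, hP0] at h'
          exact h'
        exact (Nat.mul_dvd_mul_iff_left (by norm_num)).1 h)
      have ho3' : o ≠ 3 := fun e => hno3 (e ▸ (dvd_mul_right o _).trans hoD)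
      omega
    have hsing : (⟨n * v * n⁻¹, n, hn, rfl⟩ : {u : ↥D // ∃ m ∈ N, m * v * m⁻¹ = u}) = ⟨v, 1, one_mem _, by simp⟩ :=
      @Subsingleton.elim _ (Nat.card_eq_one_iff_unique.1 ho1).1 _ _
    exact (mul_inv_eq_iff_eq_mul.1 (congrArg Subtype.val hsing)).symm
  set O := (MonoidHom.transferSylow P hNC).ker
  have hcompl := MonoidHom.ker_transferSylow_isComplement' P hNC
  have hOcard : Nat.card ↥O * 4 = Nat.card ↥D := by
    rw [← hP0]; exact hcompl.card_mul
  have hOodd : ¬ 2 ∣ Nat.card ↥O := MonoidHom.not_dvd_card_ker_transferSylow P hNC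
  -- each odd Sylow subgroup of D lies in T
  have hdvd : Nat.card ↥D ∣ Fintype.card K + 1 := by
    rw [Nat.dvd_iff_prime_pow_dvd_dvd]
    intro r e hr he
    by_cases hr2 : r = 2
    · subst hr2
      have he2 : e ≤ 2 := by
        by_contra hlt
        push Not at hlt
        have h8' : 2 ^ 3 ∣ Nat.card ↥O * 4 := hOcard ▸ (pow_dvd_pow 2 hlt).trans he
        exact hOodd ((Nat.mul_dvd_mul_iff_right (show 0 < 4 by norm_num)).1 (by simpa using h8'))
      exact (pow_dvd_pow 2 he2).trans ⟨kA K, by rw [hk4]; norm_num⟩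
    by_cases he0 : e = 0
    · subst he0; simp
    haveI : Fact r.Prime := ⟨hr⟩
    have hrD : r ∣ Nat.card ↥D := (dvd_pow_self r he0).trans he
    have hre : r ^ e ∣ Nat.card ↥O := by
      refine Nat.Coprime.dvd_of_dvd_mul_right ?_ (hOcard ▸ he)
      refine Nat.Coprime.pow_left _ ((Nat.Prime.coprime_iff_not_dvd hr).2 fun h => hr2 ?_)
      exact (Nat.prime_dvd_prime_iff_eq hr Nat.prime_two).1 (hr.dvd_of_dvd_pow (show r ∣ 2 ^ 2 by simpa using h))
    -- a fixed Sylow subgroup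
    let φ : ↥P0 →* MulAut ↥O := (MulAut.conjNormal (H := O)).comp P0.subtype
    let _ : MulDistribMulAction ↥P0 ↥O := MulDistribMulAction.compHom _ φ
    have hnot : ¬ 2 ∣ Nat.card (Sylow r ↥O) := fun h => by
      obtain ⟨R⟩ : Nonempty (Sylow r ↥O) := inferInstance
      exact hOodd (h.trans (R.card_dvd_index.trans (Subgroup.index_dvd_card _)))
    obtain ⟨R, hR⟩ := (IsPGroup.of_card (G := ↥P0) (n := 2) (by rw [hP0]; norm_num)).nonempty_fixed_point_of_prime_not_dvd_card
      (Sylow r ↥O) hnot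
    set RD := ((R : Subgroup ↥O).map O.subtype).map D.subtype
    have hcardR : Nat.card ↥RD = Nat.card ↥(R : Subgroup ↥O) := by
      rw [Subgroup.card_map_of_injective D.subtype_injective, Subgroup.card_map_of_injective O.subtype_injective]
    have hpowR : r ^ e ∣ Nat.card ↥RD := by
      rw [hcardR]; exact R.pow_dvd_card_of_pow_dvd_card hre
    have hpR : IsPGroup r ↥RD := (R.isPGroup'.map O.subtype).map D.subtype
    obtain ⟨S, hS⟩ := hpR.exists_le_sylow
    have hRcyc : IsCyclic ↥RD := by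
      haveI : IsCyclic ↥(S : Subgroup ↥(fixG θ)) := by
        rcases prime_cases hθ hr (hrD.trans (Subgroup.card_subgroup_dvd_card D)) with h | h | ⟨h3, -⟩
        · exact absurd h hr2
        · exact absurd (h ▸ hrD) hno3
        · exact sylow_cyclic hθ hq8 h3 S
      exact isCyclic_of_injective (Subgroup.inclusion hS) (Subgroup.inclusion_injective hS)
    have hinv : ∀ v ∈ VV hθ, ∀ x ∈ RD, v * x * v⁻¹ ∈ RD := by
      intro v hv x hx
      obtain ⟨d, ⟨o, ho, rfl⟩, rfl⟩ := hx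
      have hfix := hR ⟨⟨v, hVD hv⟩, Subgroup.mem_subgroupOf.2 hv⟩
      have hmem : φ ⟨⟨v, hVD hv⟩, Subgroup.mem_subgroupOf.2 hv⟩ o ∈ (R : Subgroup ↥O) := by
        have hh' := Subgroup.smul_mem_pointwise_smul o
          (⟨⟨v, hVD hv⟩, Subgroup.mem_subgroupOf.2 hv⟩ : ↥P0) (R : Subgroup ↥O) ho
        rw [← Sylow.pointwise_smul_def, hfix] at hh'
        exact hh'
      exact ⟨_, ⟨_, hmem, rfl⟩, rfl⟩
    obtain ⟨c, hc⟩ := IsCyclic.exists_generator (α := ↥RD)
    obtain ⟨k, hk⟩ := IsPGroup.iff_orderOf.1 hpR c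
    have hck : orderOf (c : ↥(fixG θ)) = r ^ k := by rw [Subgroup.orderOf_coe, hk]
    have hact : ∀ v ∈ VV hθ, v * c.1 * v⁻¹ = c.1 ∨ v * c.1 * v⁻¹ = c.1⁻¹ := by
      intro v hv
      obtain ⟨j, hj⟩ := Subgroup.mem_zpowers_iff.1 (hc ⟨_, hinv v hv c.1 c.2⟩)
      exact sq_eq_one_cyclic hr hr2 hck (j := j) (congrArg Subtype.val hj).symm hv.2
    have hav : a0 hθ ∈ VV hθ := ⟨a0_mem_TT hθ, a0_sq hθ⟩
    have hwv : lamG hθ wS ∈ VV hθ := ⟨W_mem_TT hθ, invol_W hθ⟩
    obtain ⟨v, hv, hv1, hcv⟩ : ∃ v ∈ VV hθ, v ≠ 1 ∧ c.1 * v = v * c.1 := by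
      rcases hact _ hav with h1 | h1
      · exact ⟨_, hav, a0_ne_one hθ, (mul_inv_eq_iff_eq_mul.1 h1).symm⟩
      rcases hact _ hwv with h2 | h2
      · exact ⟨_, hwv, W_ne_one hθ hq8, (mul_inv_eq_iff_eq_mul.1 h2).symm⟩
      · refine ⟨_, mul_mem hav hwv, fun e => a0_ne_lamG hθ wS (by
          rw [eq_inv_of_mul_eq_one_left e, inv_eq_of_mul_eq_one_right (invol_W hθ)]), ?_⟩
        refine (mul_inv_eq_iff_eq_mul.1 ?_).symm
        rw [show a0 hθ * lamG hθ wS * c.1 * (a0 hθ * lamG hθ wS)⁻¹ =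
          a0 hθ * (lamG hθ wS * c.1 * (lamG hθ wS)⁻¹) * (a0 hθ)⁻¹ by group, h2, ← conj_inv, h1, inv_inv]
    have hcy : c.1 * y = y * c.1 := by
      obtain ⟨d, -, hd'⟩ := c.2
      rw [← hd']
      exact Subgroup.mem_centralizer_singleton_iff.1 d.2
    have hcT : c.1 ∈ TT hθ := cent_A2_V hθ hq8 hy hy1 hv hv1 hcv hcy
    have hle : RD ≤ TT hθ := fun x hx => by
      obtain ⟨j, hj⟩ := Subgroup.mem_zpowers_iff.1 (hc ⟨x, hx⟩)
      rw [show x = (c.1) ^ j from (congrArg Subtype.val hj).symm]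
      exact zpow_mem hcT j
    rw [← card_TT hθ hq8]
    exact hpowR.trans (Subgroup.card_dvd_of_le hle)
  exact (Subgroup.eq_of_le_of_card_ge hTD (card_TT hθ hq8 ▸ Nat.le_of_dvd (by omega) hdvd)).symm

/-- the normaliser of a nontrivial subgroup of A2 -/
theorem normalizer_A2_sub {A : Subgroup ↥(fixG θ)} (hA : A ≤ A2 hθ) (hA1 : A ≠ ⊥) :
    Subgroup.normalizer (A : Set ↥(fixG θ)) = Subgroup.normalizer (VV hθ : Set ↥(fixG θ)) := by
  haveI := A2_cyclic hθ hq8
  refine le_antisymm (fun n hn => ?_) fun n hn => ?_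
  · obtain ⟨⟨y, hy⟩, hy1⟩ := Subgroup.ne_bot_iff_exists_ne_one.1 hA1
    have hy1' : y ≠ 1 := fun e => hy1 (Subtype.ext e)
    have hy2 : n * y * n⁻¹ ∈ A := (Subgroup.mem_normalizer_iff.1 hn y).1 hy
    refine mem_normalizer_of_conj fun v hv => ⟨?_, ?_⟩
    · rw [← cent_A2 hθ hq8 (hA hy2) (fun e => hy1' (conj_eq_one_iff.1 e)),
        Subgroup.mem_centralizer_singleton_iff]
      have hc : v * y = y * v := TT_comm hθ hv.1 (hA hy).1
      calc n * v * n⁻¹ * (n * y * n⁻¹) = n * (v * y) * n⁻¹ := by group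
        _ = n * (y * v) * n⁻¹ := by rw [hc]
        _ = _ := by group
    · calc n * v * n⁻¹ * (n * v * n⁻¹) = n * (v * v) * n⁻¹ := by group
        _ = 1 := by rw [hv.2]; group
  · refine mem_normalizer_of_conj fun x hx => mem_of_pow_card hA (NV_A2 hθ hq8 hn (hA hx)) ?_
    rw [conj_pow, orderOf_dvd_iff_pow_eq_one.1 (Subgroup.orderOf_dvd_natCard A hx), mul_one, mul_inv_cancel]

end CfsgLib.ReeG2
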