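import Cfsg.Agent.Lib.ReeG2.Singer

/-!
The numbers of elements of each order in ²G₂(q).
-/

set_option autoImplicit false
set_option linter.unusedSectionVars false

namespace CfsgLib.ReeG2

open Cfsg.Lie CfsgLib.Chev
open scoped Pointwise

theorem card_order {G : Type*} [Group G] (T : Set G) (N : Subgroup G) (n : ℕ)
    (hcov : ∀ x, orderOf x = n → ∃ g, ∃ y ∈ T, g * y * g⁻¹ = x)
    (hN : ∀ g ∈ N, ∀ y ∈ T, g * y * g⁻¹ ∈ T)
    (hsep : ∀ g y, y ∈ T → orderOf y = n → g * y * g⁻¹ ∈ T → g ∈ N) :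
    Nat.card {g : G // orderOf g = n} = N.index * Nat.card ↥{y | y ∈ T ∧ orderOf y = n} := by
  have ho : ∀ g y : G, orderOf (g * y * g⁻¹) = orderOf y := fun g y =>
    (SemiconjBy.orderOf_eq g (show g * y = g * y * g⁻¹ * g by group)).symm
  have e : {x : G | orderOf x = n} = conjSet {y | y ∈ T ∧ orderOf y = n} := by
    ext x
    constructor
    · intro hx
      obtain ⟨g, y, hy, rfl⟩ := hcov x hx
      exact ⟨g, y, ⟨hy, (ho g y).symm.trans hx⟩, rfl⟩
    · rintro ⟨g, y, ⟨-, hy⟩, rfl⟩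
      exact (ho g y).trans hy
  have h : Nat.card {g : G // orderOf g = n} = Nat.card ↥{x : G | orderOf x = n} := rfl
  rw [h, e]
  exact card_conjSet _ N (fun g hg y hy => ⟨hN g hg y hy.1, (ho g y).trans hy.2⟩)
    (fun g y hy hgy => hsep g y hy.1 hy.2 hgy.1)

theorem card_cyclic_order {G : Type*} [Group G] [Finite G] (T : Subgroup G) [IsCyclic T] {n : ℕ}
    (h : n ∣ Nat.card T) : Nat.card ↥{y : G | y ∈ T ∧ orderOf y = n} = n.totient := by
  classical
  letI := Fintype.ofFinite T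
  let f : {a : T // orderOf a = n} → ↥{y : G | y ∈ T ∧ orderOf y = n} := fun a =>
    ⟨a.1, a.1.2, (Subgroup.orderOf_coe a.1).trans a.2⟩
  have hf : Function.Bijective f := by
    refine ⟨fun a b e => Subtype.ext (Subtype.ext (congrArg Subtype.val e :)), ?_⟩
    rintro ⟨y, hy, hy'⟩
    exact ⟨⟨⟨y, hy⟩, (Subgroup.orderOf_mk y hy).trans hy'⟩, rfl⟩
  rw [← Nat.card_eq_of_bijective f hf, Nat.card_eq_fintype_card, Fintype.card_subtype]
  rw [Nat.card_eq_fintype_card] at h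
  exact IsCyclic.card_orderOf_eq_totient h

variable {K : Type*} [Field K] [Fintype K] [CharP K 3] {θ : K ≃+* K} (hθ : IsRee θ)
  (hq8 : Fintype.card K % 8 = 3)
include hθ hq8

theorem count_two : Nat.card {g : ↥(fixG θ) // orderOf g = 2} = Fintype.card K ^ 2 * nq K := by
  rw [card_order ({a0 hθ} : Set ↥(fixG θ)) (Subgroup.centralizer {a0 hθ}) 2]
  · haveI : Fact (Nat.Prime 2) := ⟨Nat.prime_two⟩
    have ha : orderOf (a0 hθ) = 2 := orderOf_eq_prime (by rw [pow_two, a0_sq]) (a0_ne_one hθ)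
    rw [show {y | y ∈ ({a0 hθ} : Set ↥(fixG θ)) ∧ orderOf y = 2} = {a0 hθ} by
        ext y; exact ⟨fun h => h.1, fun h => ⟨h, by rw [Set.mem_singleton_iff.1 h, ha]⟩⟩,
      Nat.card_coe_set_eq, Set.ncard_singleton, mul_one]
    have hi := (Subgroup.centralizer ({a0 hθ} : Set ↥(fixG θ))).card_mul_index
    rw [card_cent_a0 hθ, card_eq hθ] at hi
    have h1 := Fintype.one_lt_card (α := K)
    refine Nat.eq_of_mul_eq_mul_left (show 0 < Fintype.card K * (Fintype.card K - 1) * (Fintype.card K + 1) from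
      Nat.mul_pos (Nat.mul_pos (by omega) (by omega)) (by omega)) (hi.trans (by ring))
  · intro x hx
    have h2 : x ^ 2 = 1 := hx ▸ pow_orderOf_eq_one x
    have hx1 : x ≠ 1 := fun e => by rw [e, orderOf_one] at hx; omega
    have hmem : x ∈ {x : ↥(fixG θ) | x ^ 6 = 1 ∧ x ^ 3 ≠ 1} :=
      ⟨by rw [show 6 = 2 * 3 from rfl, pow_mul, h2, one_pow], by rwa [pow_succ, h2, one_mul]⟩
    rw [setI_eq hθ] at hmem
    obtain ⟨g, y, hy, rfl⟩ := hmem
    refine ⟨g, y, ?_, rfl⟩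
    obtain ⟨u, hu, h3, rfl⟩ := hy
    rw [conj_pow, conj_eq_one_iff, (show Commute (a0 hθ) u from hu.symm).mul_pow, pow_two (a0 hθ), a0_sq,
      one_mul] at h2
    rw [pow_succ, h2, one_mul] at h3
    rw [h3, mul_one]
    rfl
  · rintro g hg y hy
    rw [Set.mem_singleton_iff] at hy ⊢
    rw [hy, Subgroup.mem_centralizer_singleton_iff.1 hg, mul_inv_cancel_right]
  · rintro g y hy - hgy
    rw [Set.mem_singleton_iff] at hy hgy
    rw [hy, mul_inv_eq_iff_eq_mul] at hgy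
    exact Subgroup.mem_centralizer_singleton_iff.2 hgy

theorem count_six :
    Nat.card {g : ↥(fixG θ) // orderOf g = 6} = Fintype.card K ^ 2 * nq K * (Fintype.card K ^ 2 - 1) := by
  classical
  have h2 := count_two hθ hq8
  have hI := cardI hθ
  have e : {x : ↥(fixG θ) | x ^ 6 = 1 ∧ x ^ 3 ≠ 1} = {x | orderOf x = 2} ∪ {x | orderOf x = 6} := by
    ext x
    constructor
    · rintro ⟨h6, h3⟩
      have hd := orderOf_dvd_of_pow_eq_one h6
      have hn3 : ¬ orderOf x ∣ 3 := fun h => h3 (orderOf_dvd_iff_pow_eq_one.1 h)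
      have hle := Nat.le_of_dvd (by norm_num) hd
      show orderOf x = 2 ∨ orderOf x = 6
      interval_cases orderOf x <;> simp_all
    · rintro (h | h) <;>
        exact ⟨orderOf_dvd_iff_pow_eq_one.1 (h.symm ▸ by norm_num),
          fun h3 => absurd (h ▸ orderOf_dvd_of_pow_eq_one h3) (by norm_num)⟩
  rw [e, Nat.card_coe_set_eq, Set.ncard_union_eq (Set.disjoint_left.2 fun x h h' => by
    rw [Set.mem_setOf_eq] at h h'; omega), ← Nat.card_coe_set_eq, ← Nat.card_coe_set_eq] at hI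
  have hi : (Subgroup.centralizer ({a0 hθ} : Set ↥(fixG θ))).index = Fintype.card K ^ 2 * nq K := by
    have hi := (Subgroup.centralizer ({a0 hθ} : Set ↥(fixG θ))).card_mul_index
    rw [card_cent_a0 hθ, card_eq hθ] at hi
    have h1 := Fintype.one_lt_card (α := K)
    refine Nat.eq_of_mul_eq_mul_left (show 0 < Fintype.card K * (Fintype.card K - 1) * (Fintype.card K + 1) from
      Nat.mul_pos (Nat.mul_pos (by omega) (by omega)) (by omega)) (hi.trans (by ring))
  rw [hi] at hI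
  change Nat.card {g : ↥(fixG θ) // orderOf g = 2} + Nat.card {g : ↥(fixG θ) // orderOf g = 6} = _ at hI
  rw [h2] at hI
  rw [Nat.mul_sub, mul_one]
  omega

omit hq8 in
theorem Uf_count (n : ℕ) (hn : n = 3 ∨ n = 9) : Nat.card {g : ↥(fixG θ) // orderOf g = n} =
    (Fintype.card K + 1) * nq K * Nat.card ↥{y | y ∈ (Uf θ : Set ↥(fixG θ)) ∧ orderOf y = n} := by
  rw [card_order (Uf θ : Set ↥(fixG θ)) (Bf θ) n]
  · congr 1
    have hi := (Bf θ).card_mul_index
    rw [card_Bf hθ, card_eq hθ] at hi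
    have h1 := Fintype.one_lt_card (α := K)
    exact Nat.eq_of_mul_eq_mul_left (show 0 < Fintype.card K ^ 3 * (Fintype.card K - 1) from
      Nat.mul_pos (pow_pos (by omega) _) (by omega)) (hi.trans (by ring))
  · intro x hx
    have hmem : x ∈ {x : ↥(fixG θ) | x ≠ 1 ∧ x ^ 9 = 1} := by
      refine ⟨fun e => by rw [e, orderOf_one] at hx; omega, orderOf_dvd_iff_pow_eq_one.1 ?_⟩
      rcases hn with h | h <;> rw [hx, h]
      norm_num
    rw [setP_eq hθ] at hmem
    obtain ⟨g, y, ⟨hy, -⟩, e⟩ := hmem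
    exact ⟨g, y, hy, e⟩
  · intro g hg y hy
    show g * y * g⁻¹ ∈ Uf θ
    rw [← conj_Uf hθ hg]
    exact ⟨y, hy, rfl⟩
  · rintro g y hy ho hgy
    by_contra hg'
    have hm : g * y * g⁻¹ ∈ Uf θ ⊓ MulAut.conj g • Uf θ := ⟨hgy, y, hy, rfl⟩
    rw [ti_of_not_mem hθ hg', Subgroup.mem_bot, conj_eq_one_iff] at hm
    rw [hm, orderOf_one] at ho
    omega

omit hq8 in
theorem Uf_cube : Nat.card ↥{y : ↥(fixG θ) | y ∈ Uf θ ∧ y ^ 3 = 1} = Fintype.card K ^ 2 := by
  let f : K × K → ↥{y : ↥(fixG θ) | y ∈ Uf θ ∧ y ^ 3 = 1} := fun p =>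
    ⟨rg hθ 0 p.1 p.2, (mem_Uf hθ).2 ⟨0, p.1, p.2, rfl⟩, Subtype.ext ((ru_cube_eq_one hθ).2 rfl)⟩
  have hf : Function.Bijective f := by
    refine ⟨fun a b h => ?_, ?_⟩
    · have := ru_injective (congrArg (fun z : ↥{y : ↥(fixG θ) | y ∈ Uf θ ∧ y ^ 3 = 1} =>
        ((z : ↥(fixG θ)) : GL chevG2.Idx K)) h)
      exact Prod.ext this.2.1 this.2.2
    · rintro ⟨y, hy, h3⟩
      obtain ⟨t, u, v, e⟩ := (mem_Uf hθ).1 hy
      have ht : t = 0 := (ru_cube_eq_one hθ).1 (by rw [← e]; exact congrArg Subtype.val h3)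
      subst ht
      exact ⟨(u, v), Subtype.ext (Subtype.ext e.symm)⟩
  rw [← Nat.card_eq_of_bijective f hf, Nat.card_prod, Nat.card_eq_fintype_card, pow_two]

omit hq8 in
theorem count_three : Nat.card {g : ↥(fixG θ) // orderOf g = 3} =
    (Fintype.card K + 1) * nq K * (Fintype.card K ^ 2 - 1) := by
  classical
  haveI : Fact (Nat.Prime 3) := ⟨Nat.prime_three⟩
  rw [Uf_count hθ 3 (Or.inl rfl)]
  congr 1
  rw [show {y | y ∈ (Uf θ : Set ↥(fixG θ)) ∧ orderOf y = 3} = {y | y ∈ Uf θ ∧ y ^ 3 = 1} \ {1} by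
      ext y
      constructor
      · exact fun h => ⟨⟨h.1, h.2 ▸ pow_orderOf_eq_one y⟩, fun e => by
          have h' := h.2; rw [Set.mem_singleton_iff.1 e, orderOf_one] at h'; omega⟩
      · exact fun h => ⟨h.1.1, orderOf_eq_prime h.1.2 h.2⟩,
    Nat.card_coe_set_eq, Set.ncard_sdiff_singleton_of_mem (by exact ⟨one_mem _, one_pow _⟩), ← Nat.card_coe_set_eq,
    Uf_cube hθ]

omit hq8 in
theorem count_nine : Nat.card {g : ↥(fixG θ) // orderOf g = 9} =
    (Fintype.card K + 1) * nq K * (Fintype.card K ^ 3 - Fintype.card K ^ 2) := by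
  classical
  haveI : Fact (Nat.Prime 3) := ⟨Nat.prime_three⟩
  rw [Uf_count hθ 9 (Or.inr rfl)]
  congr 1
  rw [show {y | y ∈ (Uf θ : Set ↥(fixG θ)) ∧ orderOf y = 9} =
      (Uf θ : Set ↥(fixG θ)) \ {y | y ∈ Uf θ ∧ y ^ 3 = 1} by
      ext y
      constructor
      · exact fun h => ⟨h.1, fun h' => absurd (h.2 ▸ orderOf_dvd_of_pow_eq_one h'.2) (by norm_num)⟩
      · exact fun h => ⟨h.1, orderOf_eq_prime_pow (p := 3) (n := 1)
          (by rw [pow_one]; exact fun e => h.2 ⟨h.1, e⟩) (Uf_pow hθ h.1)⟩,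
    Nat.card_coe_set_eq, Set.ncard_sdiff (show {y | y ∈ Uf θ ∧ y ^ 3 = 1} ⊆ (Uf θ : Set ↥(fixG θ)) from
      fun y h => h.1) (Set.toFinite _), ← Nat.card_coe_set_eq, ← Nat.card_coe_set_eq, SetLike.coe_sort_coe,
    card_Uf' hθ, Uf_cube hθ]

theorem big_prime {i : ℕ} (hi : 1 < i) (h : i ∣ kA K) :
    ∃ l : ℕ, l.Prime ∧ 3 < l ∧ l ∣ i ∧ l ∣ Fintype.card K + 1 := by
  obtain ⟨l, hl, hli⟩ := Nat.exists_prime_and_dvd (show i ≠ 1 by omega)
  have h4 := four_kA hq8
  have h5 := kA_odd hq8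
  have h3 := three_dvd_q (K := K)
  have := hl.two_le
  have hk : l ∣ kA K := hli.trans h
  refine ⟨l, hl, ?_, hli, h4 ▸ Dvd.dvd.mul_left hk 4⟩
  by_contra hlt
  rcases (show l = 2 ∨ l = 3 by omega) with rfl | rfl <;> omega

theorem sep_TT {g x : ↥(fixG θ)} (hx : x ∈ TT hθ) (hx2 : x * x ≠ 1) (h : g * x * g⁻¹ ∈ TT hθ) :
    g ∈ Subgroup.normalizer (VV hθ : Set ↥(fixG θ)) := by
  have hy := TT_sq hθ hq8 hx
  have hgy : g * (x * x) * g⁻¹ ∈ A2 hθ := by
    rw [show g * (x * x) * g⁻¹ = (g * x * g⁻¹) * (g * x * g⁻¹) by group]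
    exact TT_sq hθ hq8 h
  refine mem_normalizer_of_conj fun v hv => ⟨?_, ?_⟩
  · rw [← cent_A2 hθ hq8 hgy (fun e => hx2 (conj_eq_one_iff.1 e)), Subgroup.mem_centralizer_singleton_iff]
    have hc : v * (x * x) = (x * x) * v := TT_comm hθ hv.1 hy.1
    calc g * v * g⁻¹ * (g * (x * x) * g⁻¹) = g * (v * (x * x)) * g⁻¹ := by group
      _ = g * ((x * x) * v) * g⁻¹ := by rw [hc]
      _ = _ := by group
  · calc g * v * g⁻¹ * (g * v * g⁻¹) = g * (v * v) * g⁻¹ := by group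
      _ = 1 := by rw [hv.2]; group

theorem count_circle {i : ℕ} (hi : 1 < i) (hdvd : i ∣ kA K) :
    6 * Nat.card {g : ↥(fixG θ) // orderOf g = i} =
        i.totient * (Fintype.card K ^ 3 * ((Fintype.card K - 1) * nq K)) ∧
      2 * Nat.card {g : ↥(fixG θ) // orderOf g = 2 * i} =
        i.totient * (Fintype.card K ^ 3 * ((Fintype.card K - 1) * nq K)) := by
  classical
  obtain ⟨l, hl, hl3, hli, hlq⟩ := big_prime hθ hq8 hi hdvd
  have hkodd := kA_odd hq8
  have hiodd : i % 2 = 1 := by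
    by_contra h
    have : 2 ∣ kA K := (Nat.dvd_of_mod_eq_zero (by omega : i % 2 = 0)).trans hdvd
    omega
  have hord : ∀ j : ℕ, i ∣ j → j ∣ 2 * i →
      Nat.card {g : ↥(fixG θ) // orderOf g = j} = (Subgroup.normalizer (VV hθ : Set ↥(fixG θ))).index *
        Nat.card ↥{y | y ∈ (TT hθ : Set ↥(fixG θ)) ∧ orderOf y = j} := by
    intro j hij hj
    refine card_order _ _ j (fun x hx => ?_) (fun g hg y hy => NV_TT hθ hq8 hg hy) (fun g y hy ho hgy => ?_)
    · obtain ⟨g, y, ⟨hy, -⟩, e⟩ := bigQ2_conj hθ hq8 (x := x) ⟨l, hl, hl3, hx ▸ hli.trans hij, hlq⟩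
      exact ⟨g, y, hy, e⟩
    · refine sep_TT hθ hq8 hy (fun e => ?_) hgy
      have h1 : orderOf y ∣ 2 := orderOf_dvd_of_pow_eq_one (by rw [pow_two, e])
      have := Nat.le_of_dvd two_pos ((ho ▸ hli.trans hij).trans h1)
      omega
  haveI := A2_cyclic hθ hq8
  have eA : Nat.card ↥{y | y ∈ (TT hθ : Set ↥(fixG θ)) ∧ orderOf y = i} = i.totient := by
    rw [← card_cyclic_order (A2 hθ) (show i ∣ Nat.card (A2 hθ) from (card_A2 hθ hq8).symm ▸ hdvd)]
    congr 2
    ext y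
    constructor
    · exact fun h => ⟨⟨h.1, orderOf_dvd_iff_pow_eq_one.1 (h.2.symm ▸ hdvd)⟩, h.2⟩
    · exact fun h => ⟨h.1.1, h.2⟩
  have e2 : Nat.card ↥{y | y ∈ (TT hθ : Set ↥(fixG θ)) ∧ orderOf y = 2 * i} = 3 * i.totient := by
    let f : ↥{y | y ∈ (TT hθ : Set ↥(fixG θ)) ∧ orderOf y = i} × ↥((VV hθ : Set ↥(fixG θ)) \ {1}) →
        ↥{y | y ∈ (TT hθ : Set ↥(fixG θ)) ∧ orderOf y = 2 * i} := fun p =>
      ⟨p.1.1 * p.2.1, mul_mem p.1.2.1 p.2.2.1.1, by
        haveI : Fact (Nat.Prime 2) := ⟨Nat.prime_two⟩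
        have h2 : orderOf p.2.1 = 2 := orderOf_eq_prime (by rw [pow_two]; exact p.2.2.1.2) p.2.2.2
        rw [(show Commute p.1.1 p.2.1 from TT_comm hθ p.1.2.1 p.2.2.1.1).orderOf_mul_eq_mul_orderOf_of_coprime
          (by rw [p.1.2.2, h2]; exact Nat.coprime_two_right.2 (Nat.odd_iff.2 hiodd)), p.1.2.2, h2, mul_comm]⟩
    have hf : Function.Bijective f := by
      obtain ⟨k, hk⟩ : ∃ k, i = 2 * k + 1 := ⟨i / 2, by omega⟩
      constructor
      · rintro ⟨⟨a, ha, ha'⟩, ⟨v, hv, hv1⟩⟩ ⟨⟨b, hb, hb'⟩, ⟨w, hw, hw1⟩⟩ h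
        have h' : a * v = b * w := congrArg Subtype.val h
        have hpow : ∀ z ∈ VV hθ, z ^ i = z := fun z hz => by
          rw [hk, pow_succ, pow_mul, pow_two, hz.2, one_pow, one_mul]
        have h'' := congrArg (· ^ i) h'
        simp only [(show Commute a v from TT_comm hθ ha hv.1).mul_pow,
          (show Commute b w from TT_comm hθ hb hw.1).mul_pow, hpow v hv, hpow w hw,
          (ha' ▸ pow_orderOf_eq_one a : a ^ i = 1), (hb' ▸ pow_orderOf_eq_one b : b ^ i = 1), one_mul] at h''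
        subst h''
        exact Prod.ext (Subtype.ext (mul_right_cancel h')) rfl
      · rintro ⟨y, hy, ho⟩
        have hy2 : y ^ (2 * i) = 1 := ho ▸ pow_orderOf_eq_one y
        refine ⟨⟨⟨y ^ (i + 1), pow_mem hy _, ?_⟩, ⟨y ^ i, ⟨pow_mem hy _, ?_⟩, ?_⟩⟩, Subtype.ext ?_⟩
        · rw [orderOf_pow, ho, Nat.gcd_comm, hk, show 2 * k + 1 + 1 = 2 * (k + 1) by ring, Nat.gcd_mul_left,
            show Nat.gcd (k + 1) (2 * k + 1) = 1 by
              rw [show 2 * k + 1 = k + (k + 1) by ring, Nat.gcd_add_self_right,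
                Nat.gcd_comm, Nat.gcd_self_add_right, Nat.gcd_one_right],
            mul_one, Nat.mul_div_cancel_left _ two_pos]
        · show y ^ i * y ^ i = 1
          rw [← pow_add, show i + i = 2 * i by ring, hy2]
        · intro e
          have := Nat.le_of_dvd (by omega) (ho ▸ orderOf_dvd_of_pow_eq_one (Set.mem_singleton_iff.1 e))
          omega
        · show y ^ (i + 1) * y ^ i = y
          rw [← pow_add, show i + 1 + i = 2 * i + 1 by ring, pow_succ, hy2, one_mul]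
    rw [← Nat.card_eq_of_bijective f hf, Nat.card_prod, eA, Nat.card_coe_set_eq,
      Set.ncard_sdiff_singleton_of_mem (one_mem _), ← Nat.card_coe_set_eq, SetLike.coe_sort_coe,
      card_VV hθ hq8]
    ring
  have hN := (Subgroup.normalizer (VV hθ : Set ↥(fixG θ))).card_mul_index
  rw [card_NV hθ hq8, card_eq hθ] at hN
  have hN' : 6 * (Subgroup.normalizer (VV hθ : Set ↥(fixG θ))).index =
      Fintype.card K ^ 3 * ((Fintype.card K - 1) * nq K) :=
    Nat.eq_of_mul_eq_mul_left (show 0 < Fintype.card K + 1 by omega)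
      ((show (Fintype.card K + 1) * (6 * (Subgroup.normalizer (VV hθ : Set ↥(fixG θ))).index) =
        6 * (Fintype.card K + 1) * (Subgroup.normalizer (VV hθ : Set ↥(fixG θ))).index by ring).trans
        (hN.trans (by ring)))
  rw [hord i dvd_rfl (dvd_mul_left _ _), hord (2 * i) (dvd_mul_left _ _) dvd_rfl, eA, e2, ← hN']
  exact ⟨by ring, by ring⟩

theorem count_split {i : ℕ} (hi : 2 < i) (hdvd : i ∣ Fintype.card K - 1) :
    2 * Nat.card {g : ↥(fixG θ) // orderOf g = i} =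
      i.totient * (Fintype.card K ^ 3 * ((Fintype.card K + 1) * nq K)) := by
  haveI := Hf_cyclic hθ
  obtain ⟨k, hk, hkodd⟩ := half_pred_odd hθ hq8
  obtain ⟨l, hl, hli, hl3⟩ : ∃ l : ℕ, l.Prime ∧ l ∣ i ∧ 3 < l := by
    by_contra hne
    push Not at hne
    have hp : ∀ p : ℕ, p.Prime → p ∣ i → p = 2 := fun p hp hpi => by
      have h1 := hne p hp hpi
      have h2 := hp.two_le
      rcases (show p = 2 ∨ p = 3 by omega) with rfl | rfl
      · rfl
      · have h3 := three_dvd_q (K := K)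
        have := hpi.trans hdvd
        have := Fintype.card_pos (α := K)
        omega
    have := Nat.eq_prime_pow_of_unique_prime_dvd (show i ≠ 0 by omega) (fun {d} hd hd' => hp d hd hd')
    generalize i.primeFactorsList.length = e at this
    rcases e with _ | _ | e
    · omega
    · omega
    · have h4 : 4 ∣ Fintype.card K - 1 := Dvd.dvd.trans ⟨2 ^ e, by rw [this]; ring⟩ hdvd
      omega
  have hsep : ∀ g y, y ∈ (Hf θ : Set ↥(fixG θ)) → orderOf y = i → g * y * g⁻¹ ∈ (Hf θ : Set ↥(fixG θ)) →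
      g ∈ Nf θ := fun g y hy ho hgy => sep_Hf hθ hy (fun e => by
    have := Nat.le_of_dvd two_pos (ho ▸ orderOf_dvd_of_pow_eq_one (show y ^ 2 = 1 by rw [pow_two, e]))
    omega) hgy
  rw [card_order (Hf θ : Set ↥(fixG θ)) (Nf θ) i ?_ (fun g hg y hy => Nf_conj hθ hg hy) hsep]
  · rw [show {y | y ∈ (Hf θ : Set ↥(fixG θ)) ∧ orderOf y = i} = {y | y ∈ Hf θ ∧ orderOf y = i} from rfl,
      card_cyclic_order (Hf θ) (by rw [card_Hf' hθ]; exact hdvd)]
    have hN := (Nf θ).card_mul_index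
    rw [card_Nf hθ, card_eq hθ] at hN
    have h1 := Fintype.one_lt_card (α := K)
    have hN' : 2 * (Nf θ).index = Fintype.card K ^ 3 * ((Fintype.card K + 1) * nq K) :=
      Nat.eq_of_mul_eq_mul_left (show 0 < Fintype.card K - 1 by omega)
        ((show (Fintype.card K - 1) * (2 * (Nf θ).index) = 2 * (Fintype.card K - 1) * (Nf θ).index by ring).trans
          (hN.trans (by ring)))
    rw [← hN']
    ring
  · intro x hx
    obtain ⟨g, y, ⟨hy, -⟩, e⟩ := bigQ1_conj hθ (x := x) ⟨l, hl, hl3, hx ▸ hli, hli.trans hdvd⟩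
    exact ⟨g, y, hy, e⟩

theorem count_singer {A B : Subgroup ↥(fixG θ)} (hA : IsSinger A)
    (hNA : Nat.card ↥(Subgroup.normalizer (A : Set ↥(fixG θ))) = 6 * Nat.card ↥A)
    (hAB : Nat.card ↥A * Nat.card ↥B = nq K) (hco : (Nat.card ↥A).Coprime (Nat.card ↥B))
    (hcov : ∀ x : ↥(fixG θ), HasBig (nq K) x → x ∈ orb A ∨ x ∈ orb B)
    {i : ℕ} (hi : 1 < i) (hdvd : i ∣ Nat.card ↥A) :
    6 * Nat.card {g : ↥(fixG θ) // orderOf g = i} =
      i.totient * (Fintype.card K ^ 3 * ((Fintype.card K - 1) * (Fintype.card K + 1)) * Nat.card ↥B) := by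
  haveI := (hA.comm hθ hq8).1
  rw [card_order (A : Set ↥(fixG θ)) (Subgroup.normalizer (A : Set ↥(fixG θ))) i ?_
    (fun g hg y hy => (Subgroup.mem_normalizer_iff.1 hg y).1 hy)
    (fun g y hy ho hgy => hA.sep hθ hq8 hy (fun e => by rw [e, orderOf_one] at ho; omega) hgy)]
  · rw [show {y | y ∈ (A : Set ↥(fixG θ)) ∧ orderOf y = i} = {y | y ∈ A ∧ orderOf y = i} from rfl,
      card_cyclic_order A hdvd]
    have hN := (Subgroup.normalizer (A : Set ↥(fixG θ))).card_mul_index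
    rw [hNA, card_eq hθ, ← hAB] at hN
    have hN' : 6 * (Subgroup.normalizer (A : Set ↥(fixG θ))).index =
        Fintype.card K ^ 3 * ((Fintype.card K - 1) * (Fintype.card K + 1)) * Nat.card ↥B :=
      Nat.eq_of_mul_eq_mul_left (show 0 < Nat.card ↥A from Nat.card_pos)
        ((show Nat.card ↥A * (6 * (Subgroup.normalizer (A : Set ↥(fixG θ))).index) =
          6 * Nat.card ↥A * (Subgroup.normalizer (A : Set ↥(fixG θ))).index by ring).trans (hN.trans (by ring)))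
    rw [← hN']
    ring
  · intro x hx
    obtain ⟨l, hl, hli⟩ := Nat.exists_prime_and_dvd (show i ≠ 1 by omega)
    have hlN : l ∣ nq K := hli.trans (hdvd.trans (hA.card_dvd hθ hq8))
    rcases hcov x ⟨l, hl, by have := seven_le hl hlN; omega, hx ▸ hli, hlN⟩ with ⟨g, y, ⟨hy, -⟩, e⟩ | ⟨g, y, ⟨hy, -⟩, e⟩
    · exact ⟨g, y, hy, e⟩
    · exfalso
      have hiB : i ∣ Nat.card ↥B := by
        rw [← hx, ← e, orderOf_conj' hθ]
        exact Subgroup.orderOf_dvd_natCard _ hy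
      have := Nat.eq_one_of_dvd_coprimes hco hdvd hiB
      omega

theorem count_singer_r (hq : 3 < Fintype.card K) {r : ℕ} (hr : r * r = 3 * Fintype.card K) {i : ℕ} (hi : 1 < i) :
    (i ∣ Fintype.card K - r + 1 → 6 * Nat.card {g : ↥(fixG θ) // orderOf g = i} =
      i.totient * (Fintype.card K ^ 3 * ((Fintype.card K - 1) * (Fintype.card K + 1)) * (Fintype.card K + r + 1))) ∧
    (i ∣ Fintype.card K + r + 1 → 6 * Nat.card {g : ↥(fixG θ) // orderOf g = i} =
      i.totient * (Fintype.card K ^ 3 * ((Fintype.card K - 1) * (Fintype.card K + 1)) * (Fintype.card K - r + 1))) := by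
  obtain ⟨A, B, hA, hB, hcA, hcB, hNA, hNB, hcov⟩ := singer_tori_r hθ hq8 hq hr
  have hrq : r ≤ Fintype.card K := by
    by_contra h
    push Not at h
    nlinarith
  have hprod : Nat.card ↥A * Nat.card ↥B = nq K := by
    rw [hcA, hcB]
    show _ = Fintype.card K * Fintype.card K - Fintype.card K + 1
    have h3 := Nat.le_mul_self (Fintype.card K)
    zify [hrq, h3] at hr ⊢
    linear_combination -hr
  have hco : (Nat.card ↥A).Coprime (Nat.card ↥B) := Nat.coprime_of_dvd fun l hl h1 h2 => by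
    have hlN : l ∣ nq K := h1.trans (hA.card_dvd hθ hq8)
    have h7 := seven_le hl hlN
    have h2r : l ∣ 2 * r := by
      have := Nat.dvd_sub h2 h1
      rw [hcA, hcB] at this
      rwa [show Fintype.card K + r + 1 - (Fintype.card K - r + 1) = 2 * r by omega] at this
    rcases hl.dvd_mul.1 h2r with h | h
    · have := Nat.le_of_dvd two_pos h; omega
    · rcases hl.dvd_mul.1 (hr ▸ h.mul_right r) with h' | h'
      · have := Nat.le_of_dvd three_pos h'; omega
      · exact not_dvd_nq_self hl h' hlN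
  refine ⟨fun h => ?_, fun h => ?_⟩
  · rw [← hcB]
    exact count_singer hθ hq8 hA hNA hprod hco hcov hi (hcA.symm ▸ h)
  · rw [← hcA]
    exact count_singer hθ hq8 hB hNB (by rw [mul_comm]; exact hprod) hco.symm (fun x hx => (hcov x hx).symm) hi
      (hcB.symm ▸ h)

end CfsgLib.ReeG2
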