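import Cfsg.Agent.Lib.ReeG2.WZero

/-!
The subgroup of G₂ fixed by the exceptional endomorphism and its Bruhat decomposition with two cells.
-/

set_option autoImplicit false
set_option linter.unusedSectionVars false

namespace CfsgLib.ReeG2

open Cfsg.Lie CfsgLib.Chev
open scoped Matrix

variable {K : Type*} [Field K] [CharP K 3]

/-- the hypothesis on the field automorphism θ: its square composed with the cube map is trivial -/
def IsRee (θ : K ≃+* K) : Prop := ∀ x, θ (θ x) ^ 3 = x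

variable (θ : K ≃+* K)

/-- coordinates of the fixed element with parameters t, u, v -/
def rc (t u v : K) : Co K where
  p := θ t
  q := t
  r := t * θ t + θ u
  s := t * θ t ^ 2 + θ v
  y := u
  z := v

/-- the fixed element with parameters t, u, v -/
noncomputable def ru (t u v : K) : GL chevG2.Idx K := uu (rc θ t u v)

/-- the torus element with value a at the short fundamental root -/
noncomputable def hh (a : Kˣ) : GL chevG2.Idx K := tor a (Units.map (θ : K →* K) a ^ 3)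

/-- the fixed subgroup -/
noncomputable def fixG : Subgroup (GL chevG2.Idx K) where
  carrier := {g | g ∈ chevG2.group K ∧ Img θ g g}
  mul_mem' := fun a b => ⟨mul_mem a.1 b.1, a.2.mul b.2⟩
  one_mem' := ⟨one_mem _, Img.one θ⟩
  inv_mem' := fun a => ⟨inv_mem a.1, a.2.inv⟩

variable {θ}

theorem mem_fixG {g : GL chevG2.Idx K} : g ∈ fixG θ ↔ g ∈ chevG2.group K ∧ Img θ g g := Iff.rfl

theorem uu_mem_group (c : Co K) : uu c ∈ chevG2.group K :=
  borel_le_group hc (Subgroup.mem_sup_left (uu_mem c))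

theorem tor_mem_group (a b : Kˣ) : tor a b ∈ chevG2.group K := diagonal_le_group hc (tor_mem a b)

theorem ru_zero : ru θ (0 : K) 0 0 = 1 := by
  rw [ru, show rc θ (0 : K) 0 0 = ⟨0, 0, 0, 0, 0, 0⟩ by ext <;> simp [rc], uu_one]

theorem ru_injective {t u v t' u' v' : K} (h : ru θ t u v = ru θ t' u' v') : t = t' ∧ u = u' ∧ v = v' := by
  have e := uu_injective h
  exact ⟨congrArg Co.q e, congrArg Co.y e, congrArg Co.z e⟩

theorem ru_mem_pos (t u v : K) : ru θ t u v ∈ chevG2.posUnipotent K := uu_mem _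

theorem hh_mem_diag (a : Kˣ) : hh θ a ∈ chevG2.diagonalSubgroup K := tor_mem _ _

theorem hh_mul (a b : Kˣ) : hh θ a * hh θ b = hh θ (a * b) := by
  rw [hh, hh, hh, tor_mul, map_mul, mul_pow]

theorem hh_one : hh θ (1 : Kˣ) = 1 := by rw [hh, map_one, one_pow, tor_one]

theorem hh_inv (a : Kˣ) : (hh θ a)⁻¹ = hh θ a⁻¹ := by
  rw [inv_eq_iff_mul_eq_one, hh_mul, mul_inv_cancel, hh_one]

theorem hh_injective {a b : Kˣ} (h : hh θ a = hh θ b) : a = b := (tor_injective h).1

theorem hh_ne_one {a : Kˣ} (h : a ≠ 1) : hh θ a ≠ 1 := fun e => h (hh_injective (e.trans hh_one.symm))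

theorem n0_conj_hh (a : Kˣ) : n0 K * hh θ a * (n0 K)⁻¹ = hh θ a⁻¹ := by
  rw [hh, hh, n0_conj_tor, map_inv, inv_pow]

theorem n0_mul_hh (a : Kˣ) : n0 K * hh θ a = hh θ a⁻¹ * n0 K := by
  rw [← n0_conj_hh, inv_mul_cancel_right]

theorem uu_conj_n0 (c : Co K) :
    n0 K * uu c * (n0 K)⁻¹ = X 4 (-c.p) * X 5 (-c.q) * X 3 (-c.r) * X 2 (-c.s) * X 1 (-c.y) * X 0 (-c.z) := by
  have h := fun (r : ℕ) (hr : r < 12) (t : K) => n0_conj hr t
  rw [← h 7 (by omega), ← h 6 (by omega), ← h 8 (by omega), ← h 9 (by omega), ← h 10 (by omega),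
    ← h 11 (by omega), uu]
  group

theorem uu_conj_n0_mem (c : Co K) :
    n0 K * uu c * (n0 K)⁻¹ ∈ uGen chevG2 K (fun r => r < chevG2.nroots / 2) := by
  rw [uu_conj_n0]
  have m : ∀ r, r < 6 → ∀ t : K, X r t ∈ uGen chevG2 K (fun r => r < chevG2.nroots / 2) :=
    fun r hr t => elX_mem_uGen (show r < chevG2.nroots by change r < 12; omega)
      (show r < chevG2.nroots / 2 from hr) t
  exact mul_mem (mul_mem (mul_mem (mul_mem (mul_mem (m 4 (by omega) _) (m 5 (by omega) _)) (m 3 (by omega) _))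
    (m 2 (by omega) _)) (m 1 (by omega) _)) (m 0 (by omega) _)

/-- uniqueness in the big cell -/
theorem cell_unique {u u' : Co K} {a b a' b' : Kˣ} {v v' : Co K}
    (h : uu u * tor a b * n0 K * uu v = uu u' * tor a' b' * n0 K * uu v') :
    u = u' ∧ a = a' ∧ b = b' ∧ v = v' := by
  have e : (uu u' * tor a' b')⁻¹ * (uu u * tor a b) = n0 K * (uu v' * (uu v)⁻¹) * (n0 K)⁻¹ := by
    calc (uu u' * tor a' b')⁻¹ * (uu u * tor a b)
        = (uu u' * tor a' b')⁻¹ * (uu u * tor a b * n0 K * uu v) * (uu v)⁻¹ * (n0 K)⁻¹ := by group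
      _ = _ := by rw [h]; group
  rw [uu_inv, uu_mul] at e
  have hb : (uu u' * tor a' b')⁻¹ * (uu u * tor a b) ∈ chevG2.borelSubgroup K :=
    mul_mem (inv_mem (mul_mem (Subgroup.mem_sup_left (uu_mem _)) (Subgroup.mem_sup_right (tor_mem _ _))))
      (mul_mem (Subgroup.mem_sup_left (uu_mem _)) (Subgroup.mem_sup_right (tor_mem _ _)))
  have h1 := borel_inf_neg hc hb (e ▸ uu_conj_n0_mem _)
  have h2 : v' = v := by
    have : uu (v'.mul v.inv) = 1 := by
      rw [e] at h1
      have := congrArg (fun g => (n0 K)⁻¹ * g * n0 K) h1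
      simpa [mul_assoc] using this
    rw [← uu_mul, ← uu_inv] at this
    exact uu_injective (mul_inv_eq_one.1 this)
  have h3 : uu u * tor a b = uu u' * tor a' b' := (inv_mul_eq_one.1 h1).symm
  have h4 : (uu u')⁻¹ * uu u = tor a' b' * (tor a b)⁻¹ := by
    rw [eq_mul_inv_iff_mul_eq, mul_assoc, h3, inv_mul_cancel_left]
  have h5 := pos_inf_diag hc (F := K) (g := (uu u')⁻¹ * uu u)
    (by rw [← posUnipotent_eq hc]; exact mul_mem (inv_mem (uu_mem _)) (uu_mem _))
    (h4 ▸ mul_mem (tor_mem _ _) (inv_mem (tor_mem _ _)))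
  have h6 := uu_injective (inv_mul_eq_one.1 h5).symm
  obtain ⟨e1, e2⟩ := tor_injective (mul_inv_eq_one.1 (h4.symm.trans h5)).symm
  exact ⟨h6, e1, e2, h2.symm⟩

theorem borel_unique {u u' : Co K} {a b a' b' : Kˣ} (h : uu u * tor a b = uu u' * tor a' b') :
    u = u' ∧ a = a' ∧ b = b' := by
  have := cell_unique (v := u) (v' := u) (u := u) (u' := u') (a := a) (b := b) (a' := a') (b' := b')
    (by rw [h])
  exact ⟨this.1, this.2.1, this.2.2.1⟩

variable (hθ : IsRee θ)
include hθ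

theorem sigCo_eq_self {c : Co K} (h : sigCo θ c = c) : c = rc θ c.q c.y c.z := by
  have ep := congrArg Co.p h
  have eq' := congrArg Co.q h
  have er := congrArg Co.r h
  have es := congrArg Co.s h
  simp only [sigCo] at ep eq' er es
  rw [ep] at er es
  rw [eq'] at er es
  ext <;> simp only [rc]
  · exact ep.symm
  · rw [← er, ← ep]; ring
  · rw [← es, ← ep]; ring

theorem sigCo_rc (t u v : K) : sigCo θ (rc θ t u v) = rc θ t u v := by
  ext <;> simp only [sigCo, rc, map_add, map_mul, map_pow]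
  · exact hθ t
  · rw [hθ t]; ring
  · rw [hθ t]; ring
  · linear_combination hθ u + (θ t ^ 2 * θ (θ t) ^ 2 * θ (θ u) + θ t * θ (θ t) * θ (θ u) ^ 2) * three (K := K)
  · linear_combination hθ v + (θ t ^ 2 * θ (θ t) ^ 4 * θ (θ v) + θ t * θ (θ t) ^ 2 * θ (θ v) ^ 2) * three (K := K)

theorem ru_mem_fixG (t u v : K) : ru θ t u v ∈ fixG θ := by
  refine ⟨uu_mem_group _, ?_⟩
  have := img_uu hθ (rc θ t u v)
  rw [sigCo_rc hθ] at this
  exact this

theorem uu_mem_fixG_iff {c : Co K} : uu c ∈ fixG θ ↔ ∃ t u v, c = rc θ t u v := by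
  constructor
  · intro h
    refine ⟨_, _, _, sigCo_eq_self hθ ?_⟩
    exact (uu_injective (Img.unique hθ h.1 (uu_mem_group _) h.2 (img_uu hθ c))).symm
  · rintro ⟨t, u, v, rfl⟩; exact ru_mem_fixG hθ t u v

theorem hh_mem_fixG (a : Kˣ) : hh θ a ∈ fixG θ := by
  refine ⟨tor_mem_group _ _, ?_⟩
  have := img_tor hθ a (Units.map (θ : K →* K) a ^ 3)
  rw [map_pow, show Units.map (θ : K →* K) (Units.map (θ : K →* K) a) ^ 3 = a from Units.ext (by simpa using hθ a)]
    at this
  exact this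

theorem tor_mem_fixG_iff {a b : Kˣ} : tor a b ∈ fixG θ ↔ b = Units.map (θ : K →* K) a ^ 3 := by
  constructor
  · intro h
    exact (tor_injective (Img.unique hθ h.1 (tor_mem_group _ _) h.2 (img_tor hθ a b))).2
  · rintro rfl; exact hh_mem_fixG hθ a

theorem n0_mem_fixG : n0 K ∈ fixG θ := by
  refine ⟨n0_mem_group, ?_⟩
  have key : ∀ p q n m : ℕ, p < 12 → n < 12 → chevG2.neg p = n → chevG2.neg q = m → bar p = q → bar n = m →
      Img θ (elN chevG2 K p 1) (elN chevG2 K q 1) := by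
    intro p q n m hp hn e1 e2 e3 e4
    have h := ((img_X hθ hp (1 : K)).mul (img_X hθ hn (-(1 : K)⁻¹))).mul (img_X hθ hp (1 : K))
    have hb : ∀ r, barPar θ r (1 : K) = 1 ∧ barPar θ r (-(1 : K)⁻¹) = -(1 : K)⁻¹ := fun r => by
      unfold barPar; split_ifs <;> simp [Odd.neg_pow (by decide : Odd 3)]
    rw [(hb p).1, (hb n).2, e3, e4] at h
    rw [elN, elN, e1, e2]
    exact h
  have h := (key 8 10 3 1 (by omega) (by omega) (by decide +kernel) (by decide +kernel) (by decide) (by decide)).mul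
    (key 10 8 1 3 (by omega) (by omega) (by decide +kernel) (by decide +kernel) (by decide) (by decide))
  rw [← (n0_commute (1 : K) 1).eq] at h
  exact h

/-- the two cells -/
theorem fixG_cases {g : GL chevG2.Idx K} (hg : g ∈ fixG θ) :
    (∃ t u v a, g = ru θ t u v * hh θ a) ∨
      ∃ t u v a t' u' v', g = ru θ t u v * hh θ a * n0 K * ru θ t' u' v' := by
  rcases fixed_cases hθ hg.1 hg.2 with hb | ⟨c, d, a, b, e⟩
  · left
    obtain ⟨u, hu, t, ht, rfl⟩ := (mem_borel hc).1 hb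
    rw [← posUnipotent_eq hc] at hu
    obtain ⟨c, rfl⟩ := mem_pos.1 hu
    obtain ⟨a, b, rfl⟩ := mem_diag.1 ht
    have := Img.unique hθ hg.1 (mul_mem (uu_mem_group _) (tor_mem_group _ _)) hg.2
      ((img_uu hθ c).mul (img_tor hθ a b))
    obtain ⟨e1, -, e3⟩ := borel_unique this
    refine ⟨c.q, c.y, c.z, a, ?_⟩
    rw [ru, ← sigCo_eq_self hθ e1.symm, hh]
    nth_rw 1 [e3]
  · right
    subst e
    have := Img.unique hθ hg.1
      (mul_mem (mul_mem (mul_mem (uu_mem_group _) (tor_mem_group _ _)) n0_mem_group) (uu_mem_group _)) hg.2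
      ((((img_uu hθ c).mul (img_tor hθ a b)).mul (n0_mem_fixG hθ).2).mul (img_uu hθ d))
    obtain ⟨e1, -, e3, e4⟩ := cell_unique this
    refine ⟨c.q, c.y, c.z, a, d.q, d.y, d.z, ?_⟩
    rw [ru, ru, ← sigCo_eq_self hθ e1.symm, ← sigCo_eq_self hθ e4.symm, hh]
    nth_rw 1 [e3]

end CfsgLib.ReeG2
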