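import Cfsg.Agent.Lib.ReeG2.Fix

/-!
The group generated by the two fixed unipotent subgroups is the whole fixed group.
-/

set_option autoImplicit false
set_option linter.unusedSectionVars false

namespace CfsgLib.ReeG2

open Cfsg.Lie CfsgLib.Chev
open scoped Matrix

variable {K : Type*} [Field K] [CharP K 3] {θ : K ≃+* K} (hθ : IsRee θ)

/-- the value of hh a at the long fundamental root -/
noncomputable def bb (θ : K ≃+* K) (a : Kˣ) : Kˣ := Units.map (θ : K →* K) a ^ 3

theorem coe_bb (a : Kˣ) : (bb θ a : K) = θ (a : K) ^ 3 := rfl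

theorem hh_def (a : Kˣ) : hh θ a = tor a (bb θ a) := rfl

theorem rv_pos :
    rv chevG2 G2.tabs 7 = (fun j : Fin chevG2.rank => if j.val = 0 then 1 else 0) ∧
    rv chevG2 G2.tabs 6 = (fun j : Fin chevG2.rank => if j.val = 0 then 0 else 1) ∧
    rv chevG2 G2.tabs 8 = (fun j : Fin chevG2.rank => if j.val = 0 then 1 else 1) ∧
    rv chevG2 G2.tabs 9 = (fun j : Fin chevG2.rank => if j.val = 0 then 2 else 1) ∧
    rv chevG2 G2.tabs 10 = (fun j : Fin chevG2.rank => if j.val = 0 then 3 else 1) ∧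
    rv chevG2 G2.tabs 11 = (fun j : Fin chevG2.rank => if j.val = 0 then 3 else 2) := by decide +kernel

theorem tor_conj_uu (a b : Kˣ) (c : Co K) :
    tor a b * uu c * (tor a b)⁻¹ = uu ⟨a * c.p, b * c.q, a * b * c.r, a ^ 2 * b * c.s, a ^ 3 * b * c.y,
      a ^ 3 * b ^ 2 * c.z⟩ := by
  have h := fun (r : ℕ) (hr : r < 12) (t : K) => tor_conj_X a b hr t
  obtain ⟨h7, h6, h8, h9, h10, h11⟩ := rv_pos
  have e7 := h 7 (by omega) c.p
  have e6 := h 6 (by omega) c.q
  have e8 := h 8 (by omega) c.r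
  have e9 := h 9 (by omega) c.s
  have e10 := h 10 (by omega) c.y
  have e11 := h 11 (by omega) c.z
  rw [rv_chr a b h7] at e7
  rw [rv_chr a b h6] at e6
  rw [rv_chr a b h8] at e8
  rw [rv_chr a b h9] at e9
  rw [rv_chr a b h10] at e10
  rw [rv_chr a b h11] at e11
  simp only [zpow_one, zpow_zero, mul_one, one_mul, zpow_ofNat, pow_one, pow_zero, Units.val_mul,
    Units.val_pow_eq_pow_val, Units.val_one] at e7 e6 e8 e9 e10 e11
  simp only [uu]
  rw [← e7, ← e6, ← e8, ← e9, ← e10, ← e11]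
  group

include hθ

theorem ru_mul (t u v t' u' v' : K) : ru θ t u v * ru θ t' u' v' =
    ru θ (t + t') (u + u' - θ t' ^ 3 * t) (v + v' - θ t' ^ 3 * t ^ 2 - t' * (u - θ t' ^ 3 * t)) := by
  have h := mul_mem (ru_mem_fixG hθ t u v) (ru_mem_fixG hθ t' u' v')
  simp only [ru, uu_mul] at h ⊢
  obtain ⟨a, b, c, e⟩ := (uu_mem_fixG_iff hθ).1 h
  rw [e]
  have eq' := congrArg Co.q e
  have ey := congrArg Co.y e
  have ez := congrArg Co.z e
  simp only [Co.mul, rc] at eq' ey ez
  rw [← eq', ← ey, ← ez]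

theorem ru_inv (t u v : K) : (ru θ t u v)⁻¹ =
    ru θ (-t) (-u - θ t ^ 3 * t) (-v - θ t ^ 3 * t ^ 2 - t * (u + θ t ^ 3 * t)) := by
  rw [inv_eq_iff_mul_eq_one, ru_mul hθ, ← ru_zero (θ := θ)]
  congr 1
  all_goals (try simp only [map_neg])
  all_goals ring

theorem hh_conj_ru (a : Kˣ) (t u v : K) : hh θ a * ru θ t u v * (hh θ a)⁻¹ =
    ru θ (bb θ a * t) (a ^ 3 * bb θ a * u) (a ^ 3 * bb θ a ^ 2 * v) := by
  have h := mul_mem (mul_mem (hh_mem_fixG hθ a) (ru_mem_fixG hθ t u v)) (inv_mem (hh_mem_fixG hθ a))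
  rw [hh_def, ru, tor_conj_uu] at h ⊢
  obtain ⟨x, y, z, e⟩ := (uu_mem_fixG_iff hθ).1 h
  rw [e, ru]
  have eq' := congrArg Co.q e
  have ey := congrArg Co.y e
  have ez := congrArg Co.z e
  simp only [rc] at eq' ey ez
  rw [← eq', ← ey, ← ez]

theorem ru_mul_hh (t u v : K) (a : Kˣ) : hh θ a * ru θ t u v =
    ru θ (bb θ a * t) (a ^ 3 * bb θ a * u) (a ^ 3 * bb θ a ^ 2 * v) * hh θ a := by
  rw [← hh_conj_ru hθ, inv_mul_cancel_right]

omit hθ in
theorem bb_neg_one : bb θ (-1 : Kˣ) = -1 := by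
  apply Units.ext
  simp [coe_bb, Odd.neg_pow (by decide : Odd 3)]

theorem neg_one_conj_ru (t u v : K) :
    hh θ (-1 : Kˣ) * ru θ t u v * (hh θ (-1 : Kˣ))⁻¹ = ru θ (-t) u (-v) := by
  rw [hh_conj_ru hθ, bb_neg_one]
  congr 1 <;> simp [pow_succ]

omit hθ in
theorem n0_not_mem_borel : n0 K ∉ chevG2.borelSubgroup K := by
  intro h
  obtain ⟨a, b, e⟩ := mem_diag.1 (borel_inf_monomial hc h n0_mem_monomial)
  have h1 := n0_conj (K := K) (show 7 < 12 by omega) 1
  rw [e, tor_conj_X a b (by omega)] at h1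
  have := elX_root_unique hc (F := K) (show 7 < chevG2.nroots by decide) (show 11 - 7 < chevG2.nroots by decide)
    (by simp) h1
  omega

omit hθ in
theorem big_not_mem_borel (t u v : K) (a : Kˣ) (t' u' v' : K) :
    ru θ t u v * hh θ a * n0 K * ru θ t' u' v' ∉ chevG2.borelSubgroup K := fun h => by
  have m : ∀ x y z : K, ru θ x y z ∈ chevG2.borelSubgroup K := fun x y z =>
    Subgroup.mem_sup_left (ru_mem_pos x y z)
  have m' : hh θ a ∈ chevG2.borelSubgroup K := Subgroup.mem_sup_right (hh_mem_diag a)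
  rw [Subgroup.mul_mem_cancel_right _ (m t' u' v'),
    Subgroup.mul_mem_cancel_left _ (mul_mem (m t u v) m')] at h
  exact n0_not_mem_borel h

omit hθ in
theorem small_mem_borel (t u v : K) (a : Kˣ) : ru θ t u v * hh θ a ∈ chevG2.borelSubgroup K :=
  mul_mem (Subgroup.mem_sup_left (ru_mem_pos t u v)) (Subgroup.mem_sup_right (hh_mem_diag a))

omit hθ in
theorem small_unique {t u v t' u' v' : K} {a a' : Kˣ} (h : ru θ t u v * hh θ a = ru θ t' u' v' * hh θ a') :
    t = t' ∧ u = u' ∧ v = v' ∧ a = a' := by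
  obtain ⟨h1, h2, -⟩ := borel_unique h
  exact ⟨congrArg Co.q h1, congrArg Co.y h1, congrArg Co.z h1, h2⟩

omit hθ in
theorem big_unique {t u v t' u' v' x y z x' y' z' : K} {a a' : Kˣ}
    (h : ru θ t u v * hh θ a * n0 K * ru θ x y z = ru θ t' u' v' * hh θ a' * n0 K * ru θ x' y' z') :
    t = t' ∧ u = u' ∧ v = v' ∧ a = a' ∧ x = x' ∧ y = y' ∧ z = z' := by
  obtain ⟨h1, h2, -, h4⟩ := cell_unique h
  exact ⟨congrArg Co.q h1, congrArg Co.y h1, congrArg Co.z h1, h2, congrArg Co.q h4, congrArg Co.y h4,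
    congrArg Co.z h4⟩

omit hθ in
/-- the group generated by the fixed parts of U and of its conjugate by n₀ -/
noncomputable def genG (θ : K ≃+* K) : Subgroup (GL chevG2.Idx K) :=
  Subgroup.closure {g | ∃ t u v : K, g = ru θ t u v ∨ g = n0 K * ru θ t u v * (n0 K)⁻¹}

omit hθ in
theorem ru_mem_genG (t u v : K) : ru θ t u v ∈ genG θ := Subgroup.subset_closure ⟨t, u, v, Or.inl rfl⟩

omit hθ in
theorem ru_conj_mem_genG (t u v : K) : n0 K * ru θ t u v * (n0 K)⁻¹ ∈ genG θ :=
  Subgroup.subset_closure ⟨t, u, v, Or.inr rfl⟩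

theorem genG_le : genG θ ≤ fixG θ := by
  rw [genG, Subgroup.closure_le]
  rintro g ⟨t, u, v, rfl | rfl⟩
  · exact ru_mem_fixG hθ t u v
  · exact mul_mem (mul_mem (n0_mem_fixG hθ) (ru_mem_fixG hθ t u v)) (inv_mem (n0_mem_fixG hθ))

omit hθ in
theorem pair_mem_genG (u : Kˣ) :
    elN chevG2 K 8 (Units.map (θ : K →* K) u : Kˣ) * elN chevG2 K 10 (u : K) ∈ genG θ := by
  have hy : ∀ w : K, ru θ 0 w 0 = X 8 (θ w) * X 10 w := fun w => by
    simp [ru, rc, uu, X_zero]
  have hz : ∀ w : K, n0 K * (X 8 (θ w) * X 10 w) * (n0 K)⁻¹ = X 3 (-θ w) * X 1 (-w) := fun w => by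
    rw [← n0_conj (show 8 < 12 by omega) (θ w), ← n0_conj (show 10 < 12 by omega) w]; group
  have h := mul_mem (mul_mem (ru_mem_genG (θ := θ) 0 (u : K) 0) (ru_conj_mem_genG 0 ((u : K)⁻¹) 0))
    (ru_mem_genG (θ := θ) 0 (u : K) 0)
  rw [hy, hy, hz, map_inv₀] at h
  have e8 : chevG2.neg 8 = 3 := by decide +kernel
  have e10 : chevG2.neg 10 = 1 := by decide +kernel
  rw [elN, elN, e8, e10]
  simp only [Units.coe_map, MonoidHom.coe_coe]
  have hch : ∀ z ∈ ([(8, 10), (8, 1), (3, 10), (3, 1)] : List (ℕ × ℕ)), z.1 < 12 ∧ z.2 < 12 ∧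
      z.2 ≠ chevG2.neg z.1 ∧ chevG2.chainEntry z.1 z.2 = [] := by decide +kernel
  have c : ∀ p q : ℕ, (p, q) ∈ [(8, 10), (8, 1), (3, 10), (3, 1)] → ∀ a b : K, Commute (X p a) (X q b) := by
    intro p q hm a b
    obtain ⟨hp, hq, h1, h2⟩ := hch (p, q) hm
    exact CfsgLib.Twisted.commute_elX hc hp hq h1 h2 a b
  set A := X 8 (θ (u : K))
  set B := X 3 (-(θ (u : K))⁻¹)
  set C := X 10 (u : K)
  set D := X 1 (-(u : K)⁻¹)
  have h1 : C * B = B * C := (c 3 10 (by simp) _ _).eq.symm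
  have h2 : C * A = A * C := (c 8 10 (by simp) _ _).eq.symm
  have h3 : D * A = A * D := (c 8 1 (by simp) _ _).eq.symm
  have e : A * B * A * (C * D * C) = A * C * (B * D) * (A * C) := by
    calc A * B * A * (C * D * C) = A * B * (A * C) * D * C := by group
      _ = A * B * (C * A) * D * C := by rw [h2]
      _ = A * (B * C) * (A * D) * C := by group
      _ = A * (C * B) * (D * A) * C := by rw [h1, h3]
      _ = _ := by group
  rw [e]
  exact h

omit hθ in
theorem n0_mem_genG : n0 K ∈ genG θ := by simpa [n0] using pair_mem_genG (θ := θ) 1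

/-- the parameters of the torus elements of genG -/
noncomputable def torPar (θ : K ≃+* K) : Subgroup Kˣ where
  carrier := {a | hh θ a ∈ genG θ}
  mul_mem' := fun {a b} ha hb => by simpa [← hh_mul] using mul_mem ha hb
  one_mem' := by simp only [Set.mem_ofPred_eq, hh_one]; exact one_mem _
  inv_mem' := fun {a} ha => by simpa [← hh_inv] using inv_mem (show hh θ a ∈ genG θ from ha)

theorem torPar_gen (u : Kˣ) : (Units.map (θ : K →* K) u)⁻¹ * u ∈ torPar θ := by
  show hh θ _ ∈ genG θ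
  have h := mul_mem (pair_mem_genG (θ := θ) u) (inv_mem (n0_mem_genG (θ := θ)))
  rw [elN_pair, mul_inv_cancel_right] at h
  rw [hh_def]
  convert h using 3
  apply Units.ext
  simp only [coe_bb, Units.val_mul, Units.val_inv_eq_inv_val, Units.coe_map, MonoidHom.coe_coe,
    Units.val_pow_eq_pow_val, map_mul, map_inv₀, mul_pow, inv_pow]
  rw [hθ]
  ring

theorem normalises {x g : GL chevG2.Idx K} (hx : x ∈ fixG θ) (hg : g ∈ genG θ) : x * g * x⁻¹ ∈ genG θ := by
  have hhh : ∀ a : Kˣ, ∀ g ∈ genG θ, hh θ a * g * (hh θ a)⁻¹ ∈ genG θ := by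
    intro a g hg
    induction hg using Subgroup.closure_induction with
    | mem y hy =>
        obtain ⟨t, u, v, rfl | rfl⟩ := hy
        · rw [hh_conj_ru hθ]; exact ru_mem_genG _ _ _
        · have e : hh θ a * (n0 K * ru θ t u v * (n0 K)⁻¹) * (hh θ a)⁻¹ =
              n0 K * (hh θ a⁻¹ * ru θ t u v * (hh θ a⁻¹)⁻¹) * (n0 K)⁻¹ := by
            have h1 : hh θ a = n0 K * hh θ a⁻¹ * (n0 K)⁻¹ := by rw [n0_conj_hh, inv_inv]
            conv_lhs => rw [h1]
            group
          rw [e, hh_conj_ru hθ]; exact ru_conj_mem_genG _ _ _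
    | one => simp
    | mul y z _ _ hy hz =>
        rw [show hh θ a * (y * z) * (hh θ a)⁻¹ = (hh θ a * y * (hh θ a)⁻¹) * (hh θ a * z * (hh θ a)⁻¹) by group]
        exact mul_mem hy hz
    | inv y _ hy =>
        rw [show hh θ a * y⁻¹ * (hh θ a)⁻¹ = (hh θ a * y * (hh θ a)⁻¹)⁻¹ by group]
        exact inv_mem hy
  rcases fixG_cases hθ hx with ⟨t, u, v, a, rfl⟩ | ⟨t, u, v, a, t', u', v', rfl⟩
  · rw [show ru θ t u v * hh θ a * g * (ru θ t u v * hh θ a)⁻¹ =
      ru θ t u v * (hh θ a * g * (hh θ a)⁻¹) * (ru θ t u v)⁻¹ by group]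
    exact mul_mem (mul_mem (ru_mem_genG _ _ _) (hhh a g hg)) (inv_mem (ru_mem_genG _ _ _))
  · set w := n0 K * ru θ t' u' v'
    have hw : w ∈ genG θ := mul_mem n0_mem_genG (ru_mem_genG _ _ _)
    rw [show ru θ t u v * hh θ a * n0 K * ru θ t' u' v' * g * (ru θ t u v * hh θ a * n0 K * ru θ t' u' v')⁻¹ =
      ru θ t u v * (hh θ a * (w * g * w⁻¹) * (hh θ a)⁻¹) * (ru θ t u v)⁻¹ by simp only [w]; group]
    exact mul_mem (mul_mem (ru_mem_genG _ _ _) (hhh a _ (mul_mem (mul_mem hw hg) (inv_mem hw))))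
      (inv_mem (ru_mem_genG _ _ _))

variable [Fintype K]

/-- the number of elements of the fixed group -/
theorem card_fixG : Nat.card ↥(fixG θ) =
    Fintype.card K ^ 3 * (Fintype.card K - 1) * (Fintype.card K ^ 3 + 1) := by
  classical
  let f : (K × K × K × Kˣ) ⊕ ((K × K × K × Kˣ) × (K × K × K)) → ↥(fixG θ) :=
    Sum.elim (fun p => ⟨ru θ p.1 p.2.1 p.2.2.1 * hh θ p.2.2.2,
        mul_mem (ru_mem_fixG hθ _ _ _) (hh_mem_fixG hθ _)⟩)
      fun p => ⟨ru θ p.1.1 p.1.2.1 p.1.2.2.1 * hh θ p.1.2.2.2 * n0 K * ru θ p.2.1 p.2.2.1 p.2.2.2,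
        mul_mem (mul_mem (mul_mem (ru_mem_fixG hθ _ _ _) (hh_mem_fixG hθ _)) (n0_mem_fixG hθ))
          (ru_mem_fixG hθ _ _ _)⟩
  have hf : Function.Bijective f := by
    constructor
    · rintro (⟨t, u, v, a⟩ | ⟨⟨t, u, v, a⟩, x, y, z⟩) (⟨t', u', v', a'⟩ | ⟨⟨t', u', v', a'⟩, x', y', z'⟩) h <;>
        have h' := congrArg Subtype.val h
      · obtain ⟨rfl, rfl, rfl, rfl⟩ := small_unique h'; rfl
      · exfalso
        exact big_not_mem_borel (θ := θ) t' u' v' a' x' y' z'
          ((show ru θ t u v * hh θ a = ru θ t' u' v' * hh θ a' * n0 K * ru θ x' y' z' from h') ▸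
            small_mem_borel t u v a)
      · exfalso
        exact big_not_mem_borel (θ := θ) t u v a x y z
          ((show ru θ t u v * hh θ a * n0 K * ru θ x y z = ru θ t' u' v' * hh θ a' from h').symm ▸
            small_mem_borel t' u' v' a')
      · obtain ⟨rfl, rfl, rfl, rfl, rfl, rfl, rfl⟩ := big_unique h'; rfl
    · rintro ⟨g, hg⟩
      rcases fixG_cases hθ hg with ⟨t, u, v, a, rfl⟩ | ⟨t, u, v, a, t', u', v', rfl⟩
      · exact ⟨Sum.inl (t, u, v, a), rfl⟩
      · exact ⟨Sum.inr ((t, u, v, a), t', u', v'), rfl⟩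
  rw [← Nat.card_eq_of_bijective f hf]
  simp only [Nat.card_eq_fintype_card, Fintype.card_sum, Fintype.card_prod, Fintype.card_units]
  ring

theorem card_cent_le (a : ↥(fixG θ)) (ha : (a : GL chevG2.Idx K) = hh θ (-1 : Kˣ)) :
    Nat.card ↥(Subgroup.centralizer ({a} : Set ↥(fixG θ))) ≤
      Fintype.card K * (Fintype.card K - 1) * (Fintype.card K + 1) := by
  classical
  let f : (K × Kˣ) ⊕ (K × Kˣ × K) → GL chevG2.Idx K :=
    Sum.elim (fun p => ru θ 0 p.1 0 * hh θ p.2) fun p => ru θ 0 p.1 0 * hh θ p.2.1 * n0 K * ru θ 0 p.2.2 0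
  have e2 : ∀ x : K, -x = x → x = 0 := fun x h => by
    linear_combination h + x * three (K := K)
  have hmem : ∀ g : ↥(Subgroup.centralizer ({a} : Set ↥(fixG θ))), ∃ p, f p = ((g : ↥(fixG θ)) : GL chevG2.Idx K) := by
    rintro ⟨⟨g, hg⟩, hgc⟩
    have hcm : hh θ (-1 : Kˣ) * g * (hh θ (-1 : Kˣ))⁻¹ = g := by
      rw [← ha]
      have := congrArg Subtype.val (Subgroup.mem_centralizer_iff.1 hgc a rfl)
      simp only [Subgroup.coe_mul] at this
      rw [this, mul_inv_cancel_right]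
    set k := hh θ (-1 : Kˣ)
    rcases fixG_cases hθ hg with ⟨t, u, v, b, rfl⟩ | ⟨t, u, v, b, t', u', v', rfl⟩
    · rw [show k * (ru θ t u v * hh θ b) * k⁻¹ = (k * ru θ t u v * k⁻¹) * (k * hh θ b * k⁻¹) by group,
        neg_one_conj_ru hθ, hh_mul, hh_inv, hh_mul, mul_comm (-1 : Kˣ) b, mul_inv_cancel_right] at hcm
      obtain ⟨h1, -, h3, -⟩ := small_unique hcm
      exact ⟨Sum.inl (u, b), by simp [f, e2 t h1, e2 v h3]⟩
    · rw [show k * (ru θ t u v * hh θ b * n0 K * ru θ t' u' v') * k⁻¹ =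
          (k * ru θ t u v * k⁻¹) * (k * hh θ b * (n0 K * k⁻¹ * (n0 K)⁻¹)) * n0 K *
            (k * ru θ t' u' v' * k⁻¹) by group,
        neg_one_conj_ru hθ, neg_one_conj_ru hθ, hh_inv, n0_conj_hh, inv_inv, hh_mul, hh_mul] at hcm
      obtain ⟨h1, -, h3, -, h5, -, h7⟩ := big_unique hcm
      exact ⟨Sum.inr (u, b, u'), by simp [f, e2 t h1, e2 v h3, e2 t' h5, e2 v' h7]⟩
  choose p hp using hmem
  have := Nat.card_le_card_of_injective p fun x y h => Subtype.ext (Subtype.ext (by rw [← hp x, ← hp y, h]))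
  refine this.trans (le_of_eq ?_)
  simp only [Nat.card_eq_fintype_card, Fintype.card_sum, Fintype.card_prod, Fintype.card_units]
  ring

theorem neg_one_mem_torPar : (-1 : Kˣ) ∈ torPar θ := by
  classical
  have hne : (-1 : Kˣ) ≠ 1 := fun h => by
    have h2 : (-1 : K) = 1 := congrArg Units.val h
    exact one_ne_zero (α := K) (by linear_combination h2 + three (K := K))
  let a : ↥(fixG θ) := ⟨hh θ (-1 : Kˣ), hh_mem_fixG hθ _⟩
  let n : ↥(fixG θ) := ⟨n0 K, n0_mem_fixG hθ⟩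
  set C := Subgroup.centralizer ({a} : Set ↥(fixG θ))
  let ι : ↥(fixG θ) ⧸ C → ↥(fixG θ) := fun x => x.out * a * x.out⁻¹
  have hι : Function.Injective ι := by
    intro x y h
    rw [← QuotientGroup.out_eq' x, ← QuotientGroup.out_eq' y, QuotientGroup.eq, Subgroup.mem_centralizer_iff]
    intro z hz
    rw [Set.mem_singleton_iff] at hz
    rw [hz]
    simp only [ι] at h
    calc a * (x.out⁻¹ * y.out) = x.out⁻¹ * (x.out * a * x.out⁻¹) * y.out := by group
      _ = x.out⁻¹ * (y.out * a * y.out⁻¹) * y.out := by rw [h]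
      _ = _ := by group
  by_cases hn : ∃ x, ι x = n
  · obtain ⟨x, hx⟩ := hn
    show hh θ (-1 : Kˣ) ∈ genG θ
    have e : (a : GL chevG2.Idx K) = ((x.out⁻¹ * n * x.out : ↥(fixG θ)) : GL chevG2.Idx K) := by
      rw [← hx]; simp only [ι]; congr 1; group
    change (a : GL chevG2.Idx K) ∈ genG θ
    rw [e]
    have := normalises hθ (x.out⁻¹ : ↥(fixG θ)).2 (n0_mem_genG (θ := θ))
    simpa using this
  exfalso
  push Not at hn
  have hinv : ∀ x, ((ι x : ↥(fixG θ)) : GL chevG2.Idx K) * ι x = 1 ∧ ((ι x : ↥(fixG θ)) : GL chevG2.Idx K) ≠ 1 := by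
    intro x
    have ha1 : a * a = 1 := Subtype.ext (by simp [a, hh_mul, hh_one])
    have e : ι x * ι x = 1 := by
      simp only [ι]
      rw [show x.out * a * x.out⁻¹ * (x.out * a * x.out⁻¹) = x.out * (a * a) * x.out⁻¹ by group, ha1]
      group
    refine ⟨congrArg Subtype.val e, fun h => hh_ne_one (θ := θ) hne ?_⟩
    have h1 : ι x = 1 := Subtype.ext h
    have h2 : a = 1 := by
      calc a = x.out⁻¹ * ι x * x.out := by simp only [ι]; group
        _ = 1 := by rw [h1]; group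
    exact congrArg Subtype.val h2
  let T := (K × K) ⊕ {p : K × K × K × Kˣ // p ≠ (0, 0, 0, 1)}
  let f : T → GL chevG2.Idx K :=
    Sum.elim (fun p => ru θ p.1 (θ p.1 ^ 3 * p.1) p.2 * hh θ (-1 : Kˣ))
      fun p => ru θ p.1.1 p.1.2.1 p.1.2.2.1 * hh θ p.1.2.2.2 * n0 K * (ru θ p.1.1 p.1.2.1 p.1.2.2.1)⁻¹
  have hmem : ∀ x, ∃ p : T, f p = ((ι x : ↥(fixG θ)) : GL chevG2.Idx K) := by
    intro x
    obtain ⟨h2, h1⟩ := hinv x
    have hx := fixG_cases hθ (ι x).2
    have hnx : ((ι x : ↥(fixG θ)) : GL chevG2.Idx K) ≠ n0 K := fun e => hn x (Subtype.ext e)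
    generalize ((ι x : ↥(fixG θ)) : GL chevG2.Idx K) = g at hx h1 h2 hnx
    rcases hx with ⟨t, u, v, c, rfl⟩ | ⟨t, u, v, c, t', u', v', rfl⟩
    · rw [show ru θ t u v * hh θ c * (ru θ t u v * hh θ c) =
        ru θ t u v * (hh θ c * ru θ t u v) * hh θ c by group, ru_mul_hh hθ, ← mul_assoc, ru_mul hθ, mul_assoc,
        hh_mul] at h2
      obtain ⟨k1, k2, k3, k4⟩ := small_unique (θ := θ) (h2.trans (show (1 : GL chevG2.Idx K) =
        ru θ 0 0 0 * hh θ (1 : Kˣ) by rw [ru_zero, hh_one, one_mul]))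
      have hc2 : c = 1 ∨ c = -1 := by
        rcases mul_self_eq_one_iff.1 (show (c : K) * c = 1 from congrArg Units.val k4) with e | e
        · exact Or.inl (Units.ext e)
        · exact Or.inr (Units.ext e)
      rcases hc2 with rfl | rfl
      · exfalso
        have eb : bb θ (1 : Kˣ) = 1 := by simp [bb]
        simp only [eb, Units.val_one, one_pow, one_mul, mul_one] at k1 k2 k3
        have et : t = 0 := by linear_combination (-1 : K) * k1 + t * three (K := K)
        subst et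
        simp only [map_zero, ne_eq, OfNat.ofNat_ne_zero, not_false_eq_true, zero_pow, mul_zero, sub_zero,
          zero_mul] at k2 k3
        have eu : u = 0 := by linear_combination (-1 : K) * k2 + u * three (K := K)
        have ev : v = 0 := by linear_combination (-1 : K) * k3 + v * three (K := K)
        exact h1 (by rw [eu, ev, ru_zero, hh_one, one_mul])
      · refine ⟨Sum.inl (t, v), ?_⟩
        rw [bb_neg_one] at k2
        simp [map_neg, Odd.neg_pow (by decide : Odd 3)] at k2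
        have eu : u = θ t ^ 3 * t := by
          linear_combination (-1 : K) * k2 + u * three (K := K)
        subst eu; rfl
    · set w := ru θ t u v
      set w' := ru θ t' u' v'
      have e : w * hh θ c * n0 K * w' = w'⁻¹ * hh θ c * n0 K * w⁻¹ := by
        have := eq_inv_of_mul_eq_one_left h2
        calc w * hh θ c * n0 K * w' = (w * hh θ c * n0 K * w')⁻¹ := this
          _ = w'⁻¹ * ((n0 K)⁻¹ * (hh θ c)⁻¹) * w⁻¹ := by group
          _ = _ := by rw [n0_inv, hh_inv, n0_mul_hh, inv_inv]; group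
      simp only [w, w'] at e
      rw [ru_inv hθ, ru_inv hθ] at e
      obtain ⟨-, -, -, -, e5, e6, e7⟩ := big_unique e
      refine ⟨Sum.inr ⟨(t, u, v, c), fun h => hnx ?_⟩, ?_⟩
      · simp only [Prod.mk.injEq] at h
        obtain ⟨rfl, rfl, rfl, rfl⟩ := h
        simp [w, w', e5, e6, e7, ru_zero, hh_one]
      · show w * hh θ c * n0 K * w⁻¹ = w * hh θ c * n0 K * w'
        rw [show w⁻¹ = w' by simp only [w, w']; rw [ru_inv hθ, e5, e6, e7]]
  choose p hp using hmem
  have hle := Nat.card_le_card_of_injective p fun x y h => hι (Subtype.ext (by rw [← hp x, ← hp y, h]))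
  have hT : Nat.card T + 1 = Fintype.card K ^ 2 + Fintype.card K ^ 3 * (Fintype.card K - 1) := by
    have h1 : Fintype.card {p : K × K × K × Kˣ // p ≠ (0, 0, 0, 1)} + 1 =
        Fintype.card K ^ 3 * (Fintype.card K - 1) := by
      rw [Fintype.card_subtype_compl, Fintype.card_subtype_eq, Nat.sub_add_cancel Fintype.card_pos]
      simp only [Fintype.card_prod, Fintype.card_units]
      ring
    simp only [T, Nat.card_eq_fintype_card, Fintype.card_sum, Fintype.card_prod]
    rw [add_assoc, h1, sq]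
  have hG := Subgroup.card_eq_card_quotient_mul_card_subgroup C
  have hC : Nat.card C ≤ Fintype.card K * (Fintype.card K - 1) * (Fintype.card K + 1) :=
    card_cent_le hθ a rfl
  rw [show Nat.card ↥(fixG θ) = _ from card_fixG hθ] at hG
  obtain ⟨k, hk⟩ : ∃ k, Fintype.card K = k + 1 := ⟨Fintype.card K - 1, by have := Fintype.card_pos (α := K); omega⟩
  have hk1 : 1 ≤ k := by have := Fintype.one_lt_card (α := K); omega
  rw [hk] at hC hG hT
  simp only [Nat.add_sub_cancel] at hC hG hT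
  have hN : (k + 1) ^ 2 * ((k + 1) * k + 1) ≤ Nat.card (↥(fixG θ) ⧸ C) := by
    refine Nat.le_of_mul_le_mul_right ?_ (show 0 < (k + 1) * k * (k + 1 + 1) by positivity)
    calc (k + 1) ^ 2 * ((k + 1) * k + 1) * ((k + 1) * k * (k + 1 + 1))
        = (k + 1) ^ 3 * k * ((k + 1) ^ 3 + 1) := by ring
      _ = Nat.card (↥(fixG θ) ⧸ C) * Nat.card C := hG
      _ ≤ _ := Nat.mul_le_mul_left _ hC
  nlinarith [hle, hN, hT]

theorem eq_top_of_gen {S : Subgroup Kˣ} (hS : ∀ u : Kˣ, (Units.map (θ : K →* K) u)⁻¹ * u ∈ S)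
    (hm : (-1 : Kˣ) ∈ S) : S = ⊤ := by
  classical
  let f : Kˣ →* Kˣ :=
    { toFun := fun u => (Units.map (θ : K →* K) u)⁻¹ * u
      map_one' := by simp
      map_mul' := fun x y => by simp only [map_mul, mul_inv_rev, mul_comm, mul_left_comm, mul_assoc] }
  have hsq : ∀ u : Kˣ, (θ (u : K) = u ∨ θ (u : K) = -u) → u = 1 ∨ u = -1 := by
    intro u hu
    have h := hθ (u : K)
    have : (u : K) * u = 1 := by
      have h0 : (u : K) ≠ 0 := u.ne_zero
      rcases hu with e | e <;> simp only [e, map_neg] at h <;>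
        exact mul_right_cancel₀ h0 (by linear_combination h)
    rcases mul_self_eq_one_iff.1 this with e | e
    · exact Or.inl (Units.ext e)
    · exact Or.inr (Units.ext e)
  have hker : Nat.card f.ker ≤ 2 := by
    refine (Nat.card_le_card_of_injective (β := Bool) (fun u : f.ker => decide ((u : Kˣ) = 1)) fun x y h => ?_).trans
      (le_of_eq (show Nat.card Bool = 2 by simp))
    have hx : ∀ z : f.ker, (z : Kˣ) = 1 ∨ (z : Kˣ) = -1 := fun z => hsq z (Or.inl (by
      have := MonoidHom.mem_ker.1 z.2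
      exact congrArg Units.val (inv_mul_eq_one.1 this)))
    apply Subtype.ext
    rcases hx x with e | e <;> rcases hx y with e' | e' <;> simp only [e, e'] at h ⊢ <;> simp_all
  have hle : f.range ≤ S := by
    rintro _ ⟨u, rfl⟩; exact hS u
  have hnot : (-1 : Kˣ) ∉ f.range := by
    rintro ⟨u, hu⟩
    have e : θ (u : K) = -(u : K) := by
      have h1 : u = Units.map (θ : K →* K) u * -1 := inv_mul_eq_iff_eq_mul.1 hu
      have h2 := congrArg Units.val h1
      simp at h2
      linear_combination h2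
    rcases hsq u (Or.inr e) with rfl | rfl <;>
    · simp at e
      first
      | exact one_ne_zero (α := K) (by linear_combination e + three (K := K))
      | exact one_ne_zero (α := K) (by linear_combination (-1 : K) * e + three (K := K))
  by_contra hne
  have h1 : Nat.card f.range < Nat.card (S) :=
    Set.Finite.card_lt_card (Set.toFinite _)
      (SetLike.coe_ssubset_coe.2 (lt_of_le_of_ne hle fun e => hnot (e ▸ hm)))
  have h2 := Subgroup.card_dvd_of_le hle
  have h3 := Subgroup.card_subgroup_dvd_card (S)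
  have h4 : Nat.card f.range * Nat.card f.ker = Nat.card Kˣ := by
    rw [← Subgroup.index_ker, mul_comm, Subgroup.card_mul_index]
  have h5 : Nat.card (S) ≠ Nat.card Kˣ := fun e => hne (Subgroup.eq_top_of_card_eq _ e)
  obtain ⟨x, hx⟩ := h2
  obtain ⟨y, hy⟩ := h3
  have hp : 0 < Nat.card f.range := Nat.card_pos
  have hx2 : 2 ≤ x := by
    by_contra h; interval_cases x <;> omega
  have hy2 : 2 ≤ y := by
    by_contra h; interval_cases y
    · have := Nat.card_pos (α := Kˣ); omega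
    · omega
  have : Nat.card f.range * 4 ≤ Nat.card f.range * 2 := by
    calc Nat.card f.range * 4 ≤ Nat.card f.range * (x * y) := Nat.mul_le_mul_left _ (Nat.mul_le_mul hx2 hy2)
      _ = Nat.card f.range * Nat.card f.ker := by rw [h4, hy, hx]; ring
      _ ≤ _ := Nat.mul_le_mul_left _ hker
  omega

theorem torPar_eq_top : torPar θ = ⊤ := eq_top_of_gen hθ (torPar_gen hθ) (neg_one_mem_torPar hθ)

theorem hh_mem_genG (a : Kˣ) : hh θ a ∈ genG θ :=
  (show a ∈ torPar θ by rw [torPar_eq_top hθ]; trivial)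

theorem genG_eq : genG θ = fixG θ := by
  refine le_antisymm (genG_le hθ) fun g hg => ?_
  rcases fixG_cases hθ hg with ⟨t, u, v, a, rfl⟩ | ⟨t, u, v, a, t', u', v', rfl⟩
  · exact mul_mem (ru_mem_genG _ _ _) (hh_mem_genG hθ a)
  · exact mul_mem (mul_mem (mul_mem (ru_mem_genG _ _ _) (hh_mem_genG hθ a)) n0_mem_genG) (ru_mem_genG _ _ _)

end CfsgLib.ReeG2
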