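import Cfsg.Agent.Lib.ReeG2.Block

/-!
An element of G₂ with trivial action on the quotient by the ideal is trivial, so images are unique.
-/

set_option autoImplicit false
set_option linter.unusedSectionVars false

namespace CfsgLib.ReeG2

open Cfsg.Lie CfsgLib.Chev
open scoped Matrix

variable {K : Type*} [Field K]

/-- the key of a basis vector -/
noncomputable def kk (x : chevG2.Idx) : ℤ := keyLin chevG2 (wI chevG2 G2.tabs x)

theorem kk_torus (χ : Fin chevG2.rank → Kˣ) {x y : chevG2.Idx} (h : x ≠ y) :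
    ((torus chevG2 G2.tabs K χ : GL chevG2.Idx K) : Matrix chevG2.Idx chevG2.Idx K) x y = 0 :=
  torus_diag_entry χ h

theorem raises_pos {u : GL chevG2.Idx K} (hu : u ∈ chevG2.posUnipotent K) :
    Raises chevG2 G2.tabs (keyLin chevG2) 1 (u : Matrix chevG2.Idx chevG2.Idx K) := by
  rw [posUnipotent_eq hc] at hu
  exact raises_uGen hc (keyLin_add (D := chevG2)) (keyLin_smul (D := chevG2)) (by norm_num)
    (fun r hr hp => by have := (key_pos_iff hc hr).2 hp; omega) hu

theorem borel_entry {b : GL chevG2.Idx K} (hb : b ∈ chevG2.borelSubgroup K) {x y : chevG2.Idx}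
    (h : kk x < kk y) : (b : Matrix chevG2.Idx chevG2.Idx K) x y = 0 := by
  obtain ⟨u, hu, t, ht, rfl⟩ := (mem_borel hc).1 hb
  obtain ⟨c, rfl⟩ := (mem_diagonal hc).1 ht
  rw [Units.val_mul, coe_torus, Matrix.mul_diagonal]
  rw [← posUnipotent_eq hc] at hu
  have hxy : x ≠ y := fun e => by subst e; exact lt_irrefl _ h
  by_contra hne
  have := raises_pos hu x y (by rw [Matrix.one_apply_ne hxy]; exact left_ne_zero_of_mul hne)
  unfold kk at h
  omega

/-- reading off the first coordinate from an entry -/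
theorem coord_entry {k : ℕ} (hk : k < 12) (hk6 : 6 ≤ k) {x y : chevG2.Idx} (hN : ent 1 k x y ≠ 0) (a : K)
    {v : GL chevG2.Idx K} (hv : v ∈ uGen chevG2 K (fun r => k < r)) :
    ((X k a * v : GL chevG2.Idx K) : Matrix chevG2.Idx chevG2.Idx K) x y = (ent 1 k x y : K) * a := by
  have hw := weight_spec hc (k := 1) (Or.inl rfl) (show k < chevG2.nroots + chevG2.rank by
    change k < 12 + 2; omega) hN
  have hkey : kk x = kk y + keyLin chevG2 (rv chevG2 G2.tabs k) := by
    unfold kk; rw [hw, keyLin_add, Nat.cast_one, one_smul]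
  have hpos := (key_pos_iff hc (show k < chevG2.nroots from hk)).2 (show chevG2.nroots / 2 ≤ k from hk6)
  have hxy : x ≠ y := fun e => by subst e; omega
  have hR := raises_uGen hc (keyLin_add (D := chevG2)) (keyLin_smul (D := chevG2))
    (d := keyLin chevG2 (rv chevG2 G2.tabs k) + 1) (by omega)
    (fun r hr hkr => by have := (key_lt_iff hc (show k < chevG2.nroots from hk) hr).2 hkr; omega) hv
  have h1 : (v : Matrix chevG2.Idx chevG2.Idx K) y y = 1 := by
    by_contra h; have := hR y y (by rwa [Matrix.one_apply_eq]); omega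
  rw [Units.val_mul, Matrix.mul_apply, Finset.sum_eq_single y]
  · have hz : ∀ j, j = 2 ∨ j = 3 → ent j k x y = 0 := by
      intro j hj
      by_contra h
      have h2 := weight_spec hc (k := j) (Or.inr hj) (show k < chevG2.nroots + chevG2.rank by
        change k < 12 + 2; omega) h
      have : kk x = kk y + j * keyLin chevG2 (rv chevG2 G2.tabs k) := by
        unfold kk; rw [h2, keyLin_add, keyLin_smul]
      rcases hj with rfl | rfl <;> push_cast at this <;> omega
    rw [h1, mul_one, X_apply hk, Matrix.one_apply_ne hxy, hz 2 (Or.inl rfl), hz 3 (Or.inr rfl)]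
    simp [mul_comm]
  · intro z _ hz
    by_contra hne
    have g2 := hR z y (by rw [Matrix.one_apply_ne hz]; exact right_ne_zero_of_mul hne)
    by_cases hxz : x = z
    · subst hxz; unfold kk at hkey; omega
    · have g1 := raises_elX hc (keyLin_add (D := chevG2)) (keyLin_smul (D := chevG2))
        (show k < chevG2.nroots from hk) (d := 0) le_rfl (by omega) a x z
        (by rw [Matrix.one_apply_ne hxz]; exact left_ne_zero_of_mul hne)
      unfold kk at hkey; omega
  · simp

/-- rows read for the coordinates -/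
def rowAt (k : ℕ) : Fin 7 := ([4, 5, 5, 4, 5, 5] : List (Fin 7)).getD (k - 6) 0

/-- columns read for the coordinates -/
def colAt (k : ℕ) : Fin 7 := ([3, 4, 3, 2, 2, 1] : List (Fin 7)).getD (k - 6) 0

theorem coord_chk : ∀ k : Fin 6,
    ent 1 (k.val + 6) (sI (rowAt (k.val + 6))) (sI (colAt (k.val + 6))) % 3 ≠ 0 := by decide +kernel

variable [CharP K 3]

/-- trivial action on the ideal forces trivial coordinates -/
theorem uu_eq_one_of_sblock {c : Co K}
    (h : ∀ i j, ((uu c : GL chevG2.Idx K) : Matrix chevG2.Idx chevG2.Idx K) (sI i) (sI j) =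
      (1 : Matrix chevG2.Idx chevG2.Idx K) (sI i) (sI j)) : uu c = 1 := by
  rw [uu_eq_uProd] at h ⊢
  set t : ℕ → K := fun i => ([0, 0, 0, 0, 0, 0, c.q, c.p, c.r - c.p * c.q, c.s - c.p ^ 2 * c.q,
    c.y + c.p ^ 3 * c.q, c.z + c.p ^ 3 * c.q ^ 2] : List K).getD i 0
  suffices key : ∀ d k, 6 ≤ k → 12 - k = d →
      (∀ i j, ((uProd chevG2 K (rootsFrom chevG2 (fun r => 6 ≤ r) k) t : GL chevG2.Idx K) :
        Matrix chevG2.Idx chevG2.Idx K) (sI i) (sI j) = (1 : Matrix chevG2.Idx chevG2.Idx K) (sI i) (sI j)) →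
      uProd chevG2 K (rootsFrom chevG2 (fun r => 6 ≤ r) k) t = 1 from key _ 6 le_rfl rfl h
  intro d
  induction d with
  | zero =>
      intro k _ hk _
      rw [rootsFrom_ge (show chevG2.nroots ≤ k by change 12 ≤ k; omega)]; rfl
  | succ d ih =>
      intro k h6 hk hh
      have hk12 : k < 12 := by omega
      have e : uProd chevG2 K (rootsFrom chevG2 (fun r => 6 ≤ r) k) t =
          X k (t k) * uProd chevG2 K (rootsFrom chevG2 (fun r => 6 ≤ r) (k + 1)) t := by
        rw [rootsFrom_eq_cons (show k < chevG2.nroots from hk12) h6, uProd, List.map_cons, List.prod_cons]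
        rfl
      rw [e] at hh ⊢
      have hv : uProd chevG2 K (rootsFrom chevG2 (fun r => 6 ≤ r) (k + 1)) t ∈ uGen chevG2 K (fun r => k < r) :=
        uGen_mono (fun r _ hr => hr.2) (uProd_mem hc (k + 1) t)
      have hN : ent 1 k (sI (rowAt k)) (sI (colAt k)) % 3 ≠ 0 := by
        have := coord_chk ⟨k - 6, by omega⟩
        simpa [show k - 6 + 6 = k by omega] using this
      have h1 := coord_entry hk12 h6 (fun e => hN (by rw [e]; rfl)) (t k) hv
      rw [hh, Matrix.one_apply_ne] at h1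
      · have h0 : t k = 0 := by
          rcases mul_eq_zero.1 h1.symm with g | g
          · rw [CharP.intCast_eq_zero_iff K 3] at g; omega
          · exact g
        rw [h0, X_zero hk12, one_mul] at hh ⊢
        exact ih (k + 1) (by omega) (by omega) hh
      · intro e
        have := sI_inj e
        interval_cases k <;> exact absurd this (by decide)

/-- the characters of the torus -/
def chr (a b : Kˣ) : Fin chevG2.rank → Kˣ := fun j => if j.val = 0 then a else b

/-- the torus element with given values at a and b -/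
noncomputable def tor (a b : Kˣ) : GL chevG2.Idx K := torus chevG2 G2.tabs K (chr a b)

/-- integer coordinates of weights of the ideal -/
def sW : Fin 7 → ℤ × ℤ := ![(-2, -1), (-1, -1), (-1, 0), (1, 0), (1, 1), (2, 1), (0, 0)]

theorem sW_spec : ∀ i : Fin 7,
    wI chevG2 G2.tabs (sI i) = (fun j : Fin chevG2.rank => if j.val = 0 then (sW i).1 else (sW i).2) ∧
    wI chevG2 G2.tabs (lI i) = (fun j : Fin chevG2.rank => if j.val = 0 then 3 * (sW i).2 else (sW i).1) := by
  decide +kernel

omit [CharP K 3] in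
theorem chi_chr (a b : Kˣ) (x y : ℤ) :
    chi (chr a b) (fun j : Fin chevG2.rank => if j.val = 0 then x else y) = a ^ x * b ^ y := by
  show ∏ j : Fin 2, (if j.val = 0 then a else b) ^ (if j.val = 0 then x else y) = _
  simp [Fin.prod_univ_two]

omit [CharP K 3] in
theorem rv_chr (a b : Kˣ) {r : ℕ} {x y : ℤ}
    (h : rv chevG2 G2.tabs r = fun j : Fin chevG2.rank => if j.val = 0 then x else y) :
    chi (chr a b) (rv chevG2 G2.tabs r) = a ^ x * b ^ y := by rw [h, chi_chr]

omit [CharP K 3] in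
theorem chr_eq (χ : Fin chevG2.rank → Kˣ) : χ = chr (χ ⟨0, by decide⟩) (χ ⟨1, by decide⟩) := by
  funext j
  have hj : j.val < 2 := j.2
  unfold chr
  split_ifs with h
  · exact congrArg χ (Fin.ext h)
  · exact congrArg χ (Fin.ext (show j.val = 1 by omega))

omit [CharP K 3] in
theorem tor_mem (a b : Kˣ) : tor a b ∈ chevG2.diagonalSubgroup K := by
  rw [mem_diagonal hc]
  refine ⟨chr (a ^ 2 * b) (a ^ 3 * b ^ 2), ?_⟩
  unfold tor
  congr 1
  funext j
  show ∏ i : Fin 2, chr (a ^ 2 * b) (a ^ 3 * b ^ 2) ⟨i.val, i.2⟩ ^ cm chevG2 ⟨i.val, i.2⟩ j = chr a b j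
  have hcm : ∀ i j : Fin chevG2.rank, cm chevG2 i j =
      if i.val = 0 then (if j.val = 0 then 2 else -3) else (if j.val = 0 then -1 else 2) := by decide +kernel
  simp only [Fin.prod_univ_two, hcm, chr]
  obtain ⟨_ | _ | j, hj⟩ := j
  · simp only [Fin.val_zero, Fin.val_one, if_true, one_ne_zero, if_false]
    apply Units.ext; simp [zpow_ofNat]; field_simp
  · simp only [Fin.val_zero, Fin.val_one, if_true, one_ne_zero, if_false, zero_add]
    apply Units.ext; simp [zpow_ofNat]; field_simp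
  · exact absurd hj (by change ¬ (j + 1 + 1 < 2); omega)

omit [CharP K 3] in
theorem mem_diag {g : GL chevG2.Idx K} : g ∈ chevG2.diagonalSubgroup K ↔ ∃ a b, g = tor a b := by
  constructor
  · intro h
    obtain ⟨c, rfl⟩ := (mem_diagonal hc).1 h
    exact ⟨_, _, congrArg _ (chr_eq _)⟩
  · rintro ⟨a, b, rfl⟩; exact tor_mem a b

theorem cube_inj {x y : K} (h : x ^ 3 = y ^ 3) : x = y := by
  have : (x - y) ^ 3 = 0 := by
    linear_combination h + (-x ^ 2 * y + x * y ^ 2) * three (K := K)
  exact sub_eq_zero.1 (eq_zero_of_pow_eq_zero this)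

variable {θ : K ≃+* K} (hθ : ∀ x, θ (θ x) ^ 3 = x)
include hθ

theorem sigCo_surj (d : Co K) : ∃ c, sigCo θ c = d := by
  have h3 : ∀ w, θ (θ.symm w) = w := θ.apply_symm_apply
  have key : ∀ w, θ (θ w) ^ 3 = w := hθ
  refine ⟨⟨θ (d.q), θ.symm d.p, θ (d.y + d.p ^ 3 * d.q), θ (d.z + d.p ^ 3 * d.q ^ 2),
    θ.symm (d.r - d.p * d.q), θ.symm (d.s - d.p ^ 2 * d.q)⟩, ?_⟩
  ext <;> simp only [sigCo, h3, key] <;> ring

theorem uu_eq_one_of_lblock {c : Co K}
    (h : ∀ i j, ((uu c : GL chevG2.Idx K) : Matrix chevG2.Idx chevG2.Idx K) (lI i) (lI j) =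
      (1 : Matrix chevG2.Idx chevG2.Idx K) (lI i) (lI j)) : uu c = 1 := by
  obtain ⟨d, rfl⟩ := sigCo_surj hθ c
  have r := (img_uu hθ d).1
  have hd : uu d = 1 := uu_eq_one_of_sblock fun i j => by
    apply θ.symm.injective
    rw [← r.2.2, h]
    exact (Rel.one θ).2.2 i j
  have := uu_injective (hd.trans uu_one.symm)
  subst this
  rw [show sigCo θ (⟨0, 0, 0, 0, 0, 0⟩ : Co K) = ⟨0, 0, 0, 0, 0, 0⟩ by ext <;> simp [sigCo]]
  exact uu_one

theorem borel_eq_one_of_lblock {g : GL chevG2.Idx K} (hg : g ∈ chevG2.borelSubgroup K)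
    (h : ∀ i j, (g : Matrix chevG2.Idx chevG2.Idx K) (lI i) (lI j) =
      (1 : Matrix chevG2.Idx chevG2.Idx K) (lI i) (lI j)) : g = 1 := by
  obtain ⟨u, hu, t, ht, rfl⟩ := (mem_borel hc).1 hg
  rw [← posUnipotent_eq hc] at hu
  obtain ⟨a, b, rfl⟩ := mem_diag.1 ht
  have hd : ∀ x, (u : Matrix chevG2.Idx chevG2.Idx K) x x = 1 := fun x => by
    by_contra hne; have := raises_pos hu x x (by rwa [Matrix.one_apply_eq]); omega
  have hent : ∀ x y, ((u * tor a b : GL chevG2.Idx K) : Matrix chevG2.Idx chevG2.Idx K) x y =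
      (u : Matrix chevG2.Idx chevG2.Idx K) x y * (chi (chr a b) (wI chevG2 G2.tabs y) : Kˣ) := fun x y => by
    rw [Units.val_mul, tor, coe_torus, Matrix.mul_diagonal]
  have hchi : ∀ i, chi (chr a b) (wI chevG2 G2.tabs (lI i)) = 1 := fun i => by
    have := h i i
    rw [hent, hd, one_mul, Matrix.one_apply_eq] at this
    exact Units.ext this
  have hb : b = 1 := by
    have := hchi 3
    rw [(sW_spec 3).2, chi_chr] at this
    simpa [sW] using this
  have ha : a = 1 := by
    have := hchi 4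
    rw [(sW_spec 4).2, chi_chr] at this
    simp [sW, hb, zpow_ofNat] at this
    refine Units.ext (cube_inj ?_)
    rw [← Units.val_pow_eq_pow_val, this]; simp
  subst ha hb
  have e : tor (1 : Kˣ) 1 = 1 := by
    rw [tor, show chr (1 : Kˣ) 1 = 1 by funext j; simp [chr], map_one]
  rw [e, mul_one] at h ⊢
  obtain ⟨c, rfl⟩ := mem_pos.1 hu
  exact uu_eq_one_of_lblock hθ h

/-- the action on the quotient as a homomorphism on the Chevalley group -/
noncomputable def lHom : ↥(chevG2.group K) →* Matrix (Fin 7) (Fin 7) K where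
  toFun g i j := ((g : GL chevG2.Idx K) : Matrix chevG2.Idx chevG2.Idx K) (lI i) (lI j)
  map_one' := by
    funext i j
    by_cases h : i = j
    · subst h; simp
    · rw [Matrix.one_apply_ne h]
      exact Matrix.one_apply_ne fun e => h (lI_inj e)
  map_mul' g k := by
    funext i j
    obtain ⟨g', -, hg'⟩ := exists_img hθ g.2
    exact lblock_mul hg'.1.1 i j

theorem nA_chk : nZ chevG2 G2.tabs (chevG2.simple 0) (lI 3) (lI 4) % 3 ≠ 0 ∧
    nZ chevG2 G2.tabs (chevG2.simple 1) (lI 2) (lI 3) % 3 ≠ 0 := by decide +kernel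

theorem key_chk : kk (lI 3) < kk (lI 4) ∧ kk (lI 2) < kk (lI 3) := by
  unfold kk; decide +kernel

theorem eq_one_of_lblock {g : GL chevG2.Idx K} (hg : g ∈ chevG2.group K)
    (h : ∀ i j, (g : Matrix chevG2.Idx chevG2.Idx K) (lI i) (lI j) =
      (1 : Matrix chevG2.Idx chevG2.Idx K) (lI i) (lI j)) : g = 1 := by
  obtain ⟨P, hB, -, hS⟩ := exists_bnPair hc hcomm (F := K)
  set f := lHom (K := K) hθ
  have key : ∀ x : ↥(chevG2.group K), x ∈ f.ker → x ∈ P.B := by
    by_contra hcon
    push Not at hcon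
    obtain ⟨x, hx, hxB⟩ := hcon
    have hM := CfsgLib.BN.eq_parabolic P (M := P.B ⊔ f.ker) le_sup_left
    have hne : ∃ s ∈ P.S, s ∈ P.B ⊔ f.ker := by
      by_contra hno
      push Not at hno
      have hJ : {s | s ∈ P.S ∧ s ∈ P.B ⊔ f.ker} = (∅ : Set _) := by
        ext s; simpa using hno s
      rw [hJ, Cfsg.BNPair.parabolic, Subgroup.closure_empty, sup_bot_eq] at hM
      exact hxB (hM ▸ Subgroup.mem_sup_right hx)
    obtain ⟨s, hs, hsM⟩ := hne
    obtain ⟨b, hb, k, hk, hbk⟩ := Subgroup.mem_sup_of_normal_right.1 hsM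
    have e : f s = f b := by rw [← hbk, map_mul, MonoidHom.mem_ker.1 hk, mul_one]
    rw [hS] at hs
    obtain ⟨i, hi, hsm⟩ := hs
    rw [hB, Subgroup.mem_subgroupOf] at hb
    have hz : ∀ x y, kk (lI x) < kk (lI y) → nZ chevG2 G2.tabs (chevG2.simple i) (lI x) (lI y) % 3 = 0 := by
      intro x y hxy
      have e1 := congrFun (congrFun e x) y
      change ((s : GL chevG2.Idx K) : Matrix chevG2.Idx chevG2.Idx K) (lI x) (lI y) =
        ((b : GL chevG2.Idx K) : Matrix chevG2.Idx chevG2.Idx K) (lI x) (lI y) at e1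
      rw [borel_entry hb hxy, hsm] at e1
      rw [← coe_elN hc (simple_lt hc hi), coe_elN_simple_one hc ⟨i, hi⟩, Matrix.map_apply,
        Int.coe_castRingHom] at e1
      exact Int.emod_eq_zero_of_dvd ((CharP.intCast_eq_zero_iff K 3 _).1 e1)
    have h2 : i < 2 := hi
    interval_cases i
    · exact (nA_chk (K := K) hθ).1 (hz 3 4 (key_chk (K := K) hθ).1)
    · exact (nA_chk (K := K) hθ).2 (hz 2 3 (key_chk (K := K) hθ).2)
  have hk : (⟨g, hg⟩ : ↥(chevG2.group K)) ∈ f.ker := by
    rw [MonoidHom.mem_ker]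
    funext i j
    show (g : Matrix chevG2.Idx chevG2.Idx K) (lI i) (lI j) = (1 : Matrix (Fin 7) (Fin 7) K) i j
    rw [h]
    by_cases e : i = j
    · subst e; simp
    · rw [Matrix.one_apply_ne e, Matrix.one_apply_ne fun e' => e (lI_inj e')]
  have := key _ hk
  rw [hB, Subgroup.mem_subgroupOf] at this
  exact borel_eq_one_of_lblock hθ this h

theorem Img.unique {g g' g'' : GL chevG2.Idx K} (h' : g' ∈ chevG2.group K) (h'' : g'' ∈ chevG2.group K)
    (a : Img θ g g') (b : Img θ g g'') : g' = g'' := by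
  have r := (a.inv.mul b).1
  rw [inv_mul_cancel] at r
  have := eq_one_of_lblock hθ (mul_mem (inv_mem h') h'') fun i j => by
    rw [r.2.2, Units.val_one]
    exact ((Rel.one θ).2.2 i j).symm
  exact inv_mul_eq_one.1 this

theorem img_tor (a b : Kˣ) :
    Img θ (tor a b) (tor (Units.map (θ : K →* K) b) (Units.map (θ : K →* K) a ^ 3)) := by
  have rel : ∀ a b : Kˣ, Rel θ ((tor a b : GL chevG2.Idx K) : Matrix chevG2.Idx chevG2.Idx K)
      ((tor (Units.map (θ : K →* K) b) (Units.map (θ : K →* K) a ^ 3) : GL chevG2.Idx K)) := by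
    intro a b
    refine ⟨fun i j => ?_, fun i j => ?_, fun i j => ?_⟩
    · exact kk_torus _ (lI_ne_sI i j)
    · exact kk_torus _ (lI_ne_sI i j)
    · by_cases e : i = j
      · subst e
        simp only [tor, coe_torus, Matrix.diagonal_apply_eq, (sW_spec i).1, (sW_spec i).2, chi_chr,
          Units.val_mul, Units.val_zpow_eq_zpow_val, Units.val_pow_eq_pow_val, Units.coe_map, map_mul,
          map_zpow₀, symm_eq hθ]
        simp only [MonoidHom.coe_coe, ← zpow_natCast, Nat.cast_ofNat, mul_zpow, ← zpow_mul]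
        ring_nf
      · rw [tor, tor, kk_torus _ (fun e' => e (lI_inj e')), kk_torus _ (fun e' => e (sI_inj e')), map_zero]
  refine ⟨rel a b, ?_⟩
  have inv : ∀ a b : Kˣ, (tor a b)⁻¹ = tor a⁻¹ b⁻¹ := by
    intro a b
    rw [tor, tor, ← map_inv]
    congr 1
    funext j
    by_cases h : j.val = 0 <;> simp [chr, h]
  have := rel a⁻¹ b⁻¹
  rw [inv, inv]
  simpa using this

end CfsgLib.ReeG2
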