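import Cfsg.Agent.Lib.ReeG2.Cent
import Mathlib.GroupTheory.Sylow

/-!
Involutions and Sylow 2-subgroups of ²G₂(q).
-/

set_option autoImplicit false
set_option linter.unusedSectionVars false

namespace CfsgLib.ReeG2

open Cfsg.Lie CfsgLib.Chev
open scoped Matrix MatrixGroups Pointwise

/-- the order of a subgroup as orbit times stabiliser -/
theorem card_orbit_conj {G : Type*} [Group G] (M : Subgroup G) (x : G) :
    Nat.card ↥M = Nat.card {y : G // ∃ m ∈ M, m * x * m⁻¹ = y} * Nat.card ↥(M ⊓ Subgroup.centralizer {x}) := by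
  set S := (Subgroup.centralizer {x}).subgroupOf M
  have h1 : Nat.card ↥S = Nat.card ↥(M ⊓ Subgroup.centralizer {x}) := by
    rw [show S = (M ⊓ Subgroup.centralizer {x}).subgroupOf M from (Subgroup.inf_subgroupOf_left _ _).symm]
    exact Nat.card_congr (Subgroup.subgroupOfEquivOfLe inf_le_left).toEquiv
  let f : ↥M ⧸ S → {y : G // ∃ m ∈ M, m * x * m⁻¹ = y} :=
    fun m => ⟨_, (m.out : G), m.out.2, rfl⟩
  have hf : Function.Bijective f := by
    have key : ∀ a b : ↥M, a⁻¹ * b ∈ S ↔ (a : G) * x * (a : G)⁻¹ = b * x * (b : G)⁻¹ := by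
      intro a b
      rw [Subgroup.mem_subgroupOf, Subgroup.mem_centralizer_singleton_iff]
      simp only [Subgroup.coe_mul, Subgroup.coe_inv]
      constructor
      · intro h
        calc (a : G) * x * (a : G)⁻¹ = a * (x * ((a : G)⁻¹ * b)) * (b : G)⁻¹ := by group
          _ = a * (((a : G)⁻¹ * b) * x) * (b : G)⁻¹ := by rw [h]
          _ = _ := by group
      · intro h
        calc (a : G)⁻¹ * b * x = (a : G)⁻¹ * (b * x * (b : G)⁻¹) * b := by group
          _ = (a : G)⁻¹ * (a * x * (a : G)⁻¹) * b := by rw [h]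
          _ = _ := by group
    refine ⟨fun p q h => ?_, ?_⟩
    · rw [← QuotientGroup.out_eq' p, ← QuotientGroup.out_eq' q, QuotientGroup.eq]
      exact (key _ _).2 (congrArg Subtype.val h)
    · rintro ⟨y, m, hm, rfl⟩
      refine ⟨QuotientGroup.mk ⟨m, hm⟩, Subtype.ext ?_⟩
      show ((QuotientGroup.mk (s := S) ⟨m, hm⟩).out : G) * x * _⁻¹ = ((⟨m, hm⟩ : ↥M) : G) * x * _⁻¹
      refine (key _ ⟨m, hm⟩).1 ?_
      rw [← QuotientGroup.eq, QuotientGroup.out_eq']
  rw [← Nat.card_eq_of_bijective f hf, ← h1]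
  exact S.card_eq_card_quotient_mul_card_subgroup

theorem z2_cases : ∀ x : Multiplicative (ZMod 2), x = 1 ∨ x = Multiplicative.ofAdd 1 := by decide

theorem card_ne_one_three :
    Nat.card {p : Multiplicative (ZMod 2) × Multiplicative (ZMod 2) × Multiplicative (ZMod 2) // p ≠ 1} = 7 := by
  rw [Nat.card_eq_fintype_card]; decide

theorem card_ne_one_two : Nat.card {p : Multiplicative (ZMod 2) × Multiplicative (ZMod 2) // p ≠ 1} = 3 := by
  rw [Nat.card_eq_fintype_card]; decide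

/-- the map given by an involution -/
def inv2 {G : Type*} [Group G] (x : G) (h : x * x = 1) : Multiplicative (ZMod 2) →* G where
  toFun z := if z = 1 then 1 else x
  map_one' := if_pos rfl
  map_mul' a b := by
    have h2 : Multiplicative.ofAdd (1 : ZMod 2) * Multiplicative.ofAdd 1 = 1 := by decide
    have h1 : Multiplicative.ofAdd (1 : ZMod 2) ≠ 1 := by decide
    rcases z2_cases a with rfl | rfl <;> rcases z2_cases b with rfl | rfl <;> simp [h1, h2, h]

theorem inv2_one {G : Type*} [Group G] (x : G) (h : x * x = 1) : inv2 x h (Multiplicative.ofAdd 1) = x := by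
  show (if Multiplicative.ofAdd (1 : ZMod 2) = 1 then 1 else x) = x
  exact if_neg (by decide)

variable {K : Type*} [Field K]

/-- the Weyl element of SL₂ -/
def wS : SL(2, K) := ⟨!![0, 1; -1, 0], by simp [Matrix.det_fin_two]⟩

theorem wS_val : (wS : SL(2, K)).1 = !![0, 1; -1, 0] := rfl

variable [CharP K 3]

/-- the second generator of a quaternion group -/
def jS : SL(2, K) :=
  ⟨!![1, 1; 1, -1], by rw [Matrix.det_fin_two_of]; linear_combination (-1 : K) * three (K := K)⟩

theorem jS_val : (jS : SL(2, K)).1 = !![1, 1; 1, -1] := rfl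

/-- an element of order three permuting the quaternion generators -/
def cS : SL(2, K) := ⟨!![0, -1; 1, 1], by simp [Matrix.det_fin_two]⟩

theorem cS_val : (cS : SL(2, K)).1 = !![0, -1; 1, 1] := rfl

theorem cS_mul_wS : cS * wS = (jS * cS : SL(2, K)) := by
  ext i j
  simp only [Matrix.SpecialLinearGroup.coe_mul, cS_val, wS_val, jS_val]
  fin_cases i <;> fin_cases j <;> simp [Matrix.mul_apply, Fin.sum_univ_two]
  linear_combination three (K := K)

theorem cS_mul_jS : cS * jS = (wS * jS * cS : SL(2, K)) := by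
  ext i j
  simp only [Matrix.SpecialLinearGroup.coe_mul, cS_val, wS_val, jS_val]
  fin_cases i <;> fin_cases j <;> simp [Matrix.mul_apply, Fin.sum_univ_two] <;>
    first
      | linear_combination three (K := K)
      | linear_combination (-1 : K) * three (K := K)

theorem jS_mul_wS : jS * wS = (-(wS * jS) : SL(2, K)) := by
  ext i j
  simp only [Matrix.SpecialLinearGroup.coe_neg, Matrix.SpecialLinearGroup.coe_mul, wS_val, jS_val]
  fin_cases i <;> fin_cases j <;> simp [Matrix.mul_apply, Fin.sum_univ_two]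

theorem wS_sq : wS * wS = (-1 : SL(2, K)) := by
  ext i j
  simp only [Matrix.SpecialLinearGroup.coe_neg, Matrix.SpecialLinearGroup.coe_mul,
    Matrix.SpecialLinearGroup.coe_one, wS_val]
  fin_cases i <;> fin_cases j <;> simp [Matrix.mul_apply, Fin.sum_univ_two]

theorem jS_sq : jS * jS = (-1 : SL(2, K)) := by
  ext i j
  simp only [Matrix.SpecialLinearGroup.coe_neg, Matrix.SpecialLinearGroup.coe_mul,
    Matrix.SpecialLinearGroup.coe_one, jS_val]
  fin_cases i <;> fin_cases j <;> simp [Matrix.mul_apply, Fin.sum_univ_two] <;>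
    linear_combination three (K := K)

theorem ent2 (g s : SL(2, K)) (i j : Fin 2) : (g * s).1 i j = g.1 i 0 * s.1 0 j + g.1 i 1 * s.1 1 j := by
  rw [Matrix.SpecialLinearGroup.coe_mul, Matrix.mul_apply, Fin.sum_univ_two]

theorem nent2 (g : SL(2, K)) (i j : Fin 2) : (-g).1 i j = -(g.1 i j) := by
  rw [Matrix.SpecialLinearGroup.coe_neg, Matrix.neg_apply]

/-- the centraliser of the quaternion group modulo the centre -/
theorem klein_cent {g : SL(2, K)} (h1 : g * wS = wS * g ∨ g * wS = -(wS * g))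
    (h2 : g * jS = jS * g ∨ g * jS = -(jS * g)) :
    ∃ h : SL(2, K), (h = 1 ∨ h = wS ∨ h = jS ∨ h = wS * jS) ∧ (g = h ∨ g = -h) := by
  have hd : g.1 0 0 * g.1 1 1 - g.1 0 1 * g.1 1 0 = 1 := (Matrix.det_fin_two g.1).symm.trans g.2
  have e2 : ∀ x : K, x + x = 0 → x = 0 := fun x h => by linear_combination -h + x * three (K := K)
  rcases h1 with h1 | h1
  · have a := congrArg (fun z : SL(2, K) => z.1 0 0) h1
    have b := congrArg (fun z : SL(2, K) => z.1 0 1) h1
    simp [ent2, nent2, wS_val] at a b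
    have hc : g.1 1 0 = -g.1 0 1 := by linear_combination -a
    rcases h2 with h2 | h2
    · have p := congrArg (fun z : SL(2, K) => z.1 0 0) h2
      simp [ent2, nent2, jS_val] at p
      have h0 : g.1 0 1 = 0 := e2 _ (by rw [hc] at p; linear_combination p)
      rw [← b, hc, h0] at hd
      refine ⟨1, Or.inl rfl, ?_⟩
      rcases mul_self_eq_one_iff.1 (show g.1 0 0 * g.1 0 0 = 1 by linear_combination hd) with e | e
      · left; ext i j; fin_cases i <;> fin_cases j <;> simp [hc, h0, ← b, e]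
      · right; ext i j; fin_cases i <;> fin_cases j <;> simp [hc, h0, ← b, e]
    · have p := congrArg (fun z : SL(2, K) => z.1 0 0) h2
      simp [ent2, nent2, jS_val] at p
      have h0 : g.1 0 0 = 0 := e2 _ (by rw [hc] at p; linear_combination p)
      rw [← b, hc, h0] at hd
      refine ⟨wS, by simp, ?_⟩
      rcases mul_self_eq_one_iff.1 (show g.1 0 1 * g.1 0 1 = 1 by linear_combination hd) with e | e
      · left; ext i j; fin_cases i <;> fin_cases j <;> simp [wS_val, hc, h0, ← b, e]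
      · right; ext i j; fin_cases i <;> fin_cases j <;> simp [wS_val, hc, h0, ← b, e]
  · have a := congrArg (fun z : SL(2, K) => z.1 0 0) h1
    have b := congrArg (fun z : SL(2, K) => z.1 0 1) h1
    simp [ent2, nent2, wS_val] at a b
    have hc : g.1 1 0 = g.1 0 1 := by linear_combination -a
    have hd' : g.1 1 1 = -g.1 0 0 := by linear_combination b
    rcases h2 with h2 | h2
    · have p := congrArg (fun z : SL(2, K) => z.1 0 1) h2
      simp [ent2, nent2, jS_val] at p
      have h0 : g.1 0 1 = g.1 0 0 :=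
        sub_eq_zero.1 (e2 _ (by rw [hd'] at p; linear_combination -p))
      rw [hd', hc, h0] at hd
      refine ⟨jS, by simp, ?_⟩
      rcases mul_self_eq_one_iff.1 (show g.1 0 0 * g.1 0 0 = 1 by
        linear_combination hd + (g.1 0 0 * g.1 0 0) * three (K := K)) with e | e
      · left; ext i j; fin_cases i <;> fin_cases j <;> simp [jS_val, hc, h0, hd', e]
      · right; ext i j; fin_cases i <;> fin_cases j <;> simp [jS_val, hc, h0, hd', e]
    · have p := congrArg (fun z : SL(2, K) => z.1 0 0) h2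
      simp [ent2, nent2, jS_val] at p
      have h0 : g.1 0 1 = -g.1 0 0 :=
        eq_neg_of_add_eq_zero_right (e2 _ (by rw [hc] at p; linear_combination p))
      rw [hd', hc, h0] at hd
      refine ⟨wS * jS, by simp, ?_⟩
      rcases mul_self_eq_one_iff.1 (show g.1 0 0 * g.1 0 0 = 1 by
        linear_combination hd + (g.1 0 0 * g.1 0 0) * three (K := K)) with e | e
      · left; ext i j; fin_cases i <;> fin_cases j <;>
          simp [wS_val, jS_val, Matrix.mul_apply, Fin.sum_univ_two, hc, h0, hd', e]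
      · right; ext i j; fin_cases i <;> fin_cases j <;>
          simp [wS_val, jS_val, Matrix.mul_apply, Fin.sum_univ_two, hc, h0, hd', e]

variable {θ : K ≃+* K} (hθ : IsRee θ)
include hθ

/-- the involution of H¹ -/
noncomputable def a0 : ↥(fixG θ) := hg hθ (-1)

theorem a0_val : (a0 hθ : GL chevG2.Idx K) = hh θ (-1 : Kˣ) := rfl

theorem a0_sq : a0 hθ * a0 hθ = 1 :=
  Subtype.ext (by show hh θ (-1 : Kˣ) * hh θ (-1) = 1; rw [hh_mul, neg_mul_neg, one_mul, hh_one])

theorem a0_ne_one : a0 hθ ≠ 1 := fun h =>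
  hh_ne_one (θ := θ) (a := (-1 : Kˣ)) (fun e => neg_one_ne_one (congrArg Units.val e)) (congrArg Subtype.val h)

/-- an involution of H¹ is a0 -/
theorem eq_a0 {a : ↥(fixG θ)} (ha : (a : GL chevG2.Idx K) ∈ chevG2.diagonalSubgroup K) (h1 : a ≠ 1)
    (h2 : a * a = 1) : a = a0 hθ := by
  obtain ⟨b, e⟩ := mem_Hf hθ |>.1 (Subgroup.mem_subgroupOf.2 ⟨ha, a.2⟩)
  have h2' : hh θ b * hh θ b = 1 := by rw [← e]; exact congrArg Subtype.val h2
  rw [hh_mul, ← hh_one (θ := θ)] at h2'
  have hb : (b : K) * b = 1 := congrArg Units.val (hh_injective h2')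
  rcases mul_self_eq_one_iff.1 hb with g | g
  · exfalso
    refine h1 (Subtype.ext ?_)
    rw [e, show b = 1 from Units.ext g, hh_one]
    rfl
  · refine Subtype.ext ?_
    rw [e, a0_val, show b = -1 from Units.ext g]

theorem mem_C0_iff {x : ↥(fixG θ)} : (x : GL chevG2.Idx K) ∈ C0 θ ↔ x * a0 hθ = a0 hθ * x := by
  constructor
  · exact fun h => Subtype.ext (C0_commute h).symm
  · intro h
    refine ⟨x.2, Subgroup.mem_centralizer_iff.2 fun z hz => ?_⟩
    rw [Set.mem_singleton_iff] at hz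
    subst hz
    exact (congrArg Subtype.val h).symm

/-- the centraliser of a0 is C0 -/
noncomputable def centA : ↥(Subgroup.centralizer ({a0 hθ} : Set ↥(fixG θ))) ≃* ↥(C0 θ) where
  toFun x := ⟨x.1.1, (mem_C0_iff hθ).2 (Subgroup.mem_centralizer_singleton_iff.1 x.2)⟩
  invFun y := ⟨⟨y.1, y.2.1⟩, Subgroup.mem_centralizer_singleton_iff.2 ((mem_C0_iff hθ).1 y.2)⟩
  left_inv _ := rfl
  right_inv _ := rfl
  map_mul' _ _ := rfl

variable [Fintype K]

/-- SL₂ → G -/
noncomputable def lamG : SL(2, K) →* ↥(fixG θ) := (Subgroup.inclusion (inf_le_left : C0 θ ≤ fixG θ)).comp (lam hθ)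

theorem lamG_val (g : SL(2, K)) : (lamG hθ g : GL chevG2.Idx K) = lam hθ g := rfl

theorem lamG_comm (g : SL(2, K)) : lamG hθ g * a0 hθ = a0 hθ * lamG hθ g :=
  (mem_C0_iff hθ).1 (lam hθ g).2

theorem lamG_eq_one {g : SL(2, K)} : lamG hθ g = 1 ↔ g = 1 ∨ g = -1 := by
  rw [← lam_eq_one hθ]
  exact map_eq_one_iff (Subgroup.inclusion (inf_le_left : C0 θ ≤ fixG θ)) (Subgroup.inclusion_injective _)

theorem lamG_neg (g : SL(2, K)) : lamG hθ (-g) = lamG hθ g := by
  rw [← neg_one_mul g, map_mul, (lamG_eq_one hθ).2 (Or.inr rfl), one_mul]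

theorem lamG_eq {g h : SL(2, K)} (e : lamG hθ g = lamG hθ h) : g = h ∨ g = -h := by
  have h1 : lamG hθ (g * h⁻¹) = 1 := by rw [map_mul, map_inv, e, mul_inv_cancel]
  rcases (lamG_eq_one hθ).1 h1 with a | a
  · exact Or.inl (mul_inv_eq_one.1 a)
  · exact Or.inr (by rw [eq_mul_of_mul_inv_eq a, neg_one_mul])

theorem a0_ne_lamG (g : SL(2, K)) : a0 hθ ≠ lamG hθ g := fun h =>
  neg_one_not_mem_L0 hθ (by
    rw [show hh θ (-1 : Kˣ) = (lam hθ g : GL chevG2.Idx K) from congrArg Subtype.val h]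
    exact lam_mem_L0 hθ g)

/-- elements commuting with a0 -/
theorem comm_a0_cases {x : ↥(fixG θ)} (h : x * a0 hθ = a0 hθ * x) :
    ∃ g, x = lamG hθ g ∨ x = a0 hθ * lamG hθ g := by
  have hx := (mem_C0_iff hθ).2 h
  rcases C0_cover hθ hx with h1 | h1 <;> obtain ⟨g, e⟩ := h1.2
  · refine ⟨g, Or.inl (Subtype.ext ?_)⟩
    exact W4_injOn hθ hx (lam hθ g).2 (by rw [lamG_val, W4_lam hθ, e])
  · refine ⟨g, Or.inr ?_⟩
    have e' : a0 hθ * x = lamG hθ g :=
      Subtype.ext (W4_injOn hθ (mul_mem (hh_mem_C0 hθ _) hx) (lam hθ g).2 (by rw [lamG_val, W4_lam hθ]; exact e))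
    rw [← e', ← mul_assoc, a0_sq, one_mul]

theorem invol_W : lamG hθ wS * lamG hθ wS = 1 := by
  rw [← map_mul, wS_sq]; exact (lamG_eq_one hθ).2 (Or.inr rfl)

theorem invol_J : lamG hθ jS * lamG hθ jS = 1 := by
  rw [← map_mul, jS_sq]; exact (lamG_eq_one hθ).2 (Or.inr rfl)

theorem comm_WJ : lamG hθ jS * lamG hθ wS = lamG hθ wS * lamG hθ jS := by
  rw [← map_mul, ← map_mul, jS_mul_wS, lamG_neg]

/-- the elementary group of order 8 -/
noncomputable def eHom :
    Multiplicative (ZMod 2) × Multiplicative (ZMod 2) × Multiplicative (ZMod 2) →* ↥(fixG θ) :=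
  (inv2 (a0 hθ) (a0_sq hθ)).noncommCoprod
    ((inv2 (lamG hθ wS) (invol_W hθ)).noncommCoprod (inv2 (lamG hθ jS) (invol_J hθ)) fun y z => by
      rcases z2_cases y with rfl | rfl <;> rcases z2_cases z with rfl | rfl <;>
        simp [Commute, SemiconjBy, inv2_one, comm_WJ hθ])
    fun x p => by
      obtain ⟨y, z⟩ := p
      rcases z2_cases x with rfl | rfl
      · simp [Commute, SemiconjBy]
      · rcases z2_cases y with rfl | rfl <;> rcases z2_cases z with rfl | rfl <;>
          simp [Commute, SemiconjBy, inv2_one, ← map_mul, lamG_comm hθ]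

theorem eHom_apply (x y z : Multiplicative (ZMod 2)) : eHom hθ (x, y, z) =
    inv2 (a0 hθ) (a0_sq hθ) x * (inv2 (lamG hθ wS) (invol_W hθ) y * inv2 (lamG hθ jS) (invol_J hθ) z) := rfl

theorem eHom_lam (y z : Multiplicative (ZMod 2)) :
    ∃ g : SL(2, K), (g = 1 ∨ g = wS ∨ g = jS ∨ g = wS * jS) ∧ (g = 1 → y = 1 ∧ z = 1) ∧
      inv2 (lamG hθ wS) (invol_W hθ) y * inv2 (lamG hθ jS) (invol_J hθ) z = lamG hθ g := by
  have hw : (wS : SL(2, K)) ≠ 1 := fun h => by
    have := congrArg (fun z : SL(2, K) => z.1 0 0) h; simp [wS_val] at this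
  have hj : (jS : SL(2, K)) ≠ 1 := fun h => by
    have := congrArg (fun z : SL(2, K) => z.1 0 1) h; simp [jS_val] at this
  have hwj : (wS * jS : SL(2, K)) ≠ 1 := fun h => by
    have := congrArg (fun z : SL(2, K) => z.1 0 1) h
    simp [wS_val, jS_val, Matrix.mul_apply, Fin.sum_univ_two] at this
  rcases z2_cases y with rfl | rfl <;> rcases z2_cases z with rfl | rfl
  · exact ⟨1, by simp, fun _ => ⟨rfl, rfl⟩, by simp⟩
  · exact ⟨jS, by simp, fun h => absurd h hj, by simp [inv2_one]⟩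
  · exact ⟨wS, by simp, fun h => absurd h hw, by simp [inv2_one]⟩
  · exact ⟨wS * jS, by simp, fun h => absurd h hwj, by simp [inv2_one]⟩

theorem eHom_injective : Function.Injective (eHom hθ) := by
  rw [injective_iff_map_eq_one]
  rintro ⟨x, y, z⟩ h
  rw [eHom_apply] at h
  obtain ⟨g, hgs, hg1, e⟩ := eHom_lam hθ y z
  rw [e] at h
  rcases z2_cases x with rfl | rfl
  · rw [map_one, one_mul] at h
    have hne : g ≠ -1 := by
      intro h'
      have h00 := congrArg (fun z : SL(2, K) => z.1 0 0) h'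
      have h01 := congrArg (fun z : SL(2, K) => z.1 0 1) h'
      rcases hgs with rfl | rfl | rfl | rfl <;>
        simp [wS_val, jS_val, Matrix.mul_apply, Fin.sum_univ_two] at h00 h01
      all_goals exact neg_one_ne_one (K := K) (by linear_combination -h00)
    rcases (lamG_eq_one hθ).1 h with a | a
    · obtain ⟨rfl, rfl⟩ := hg1 a; rfl
    · exact absurd a hne
  · exfalso
    rw [inv2_one, mul_eq_one_iff_eq_inv, ← map_inv] at h
    exact a0_ne_lamG hθ _ h

/-- the elementary subgroup -/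
noncomputable def E0 : Subgroup ↥(fixG θ) := (eHom hθ).range

theorem card_E0 : Nat.card ↥(E0 hθ) = 8 := by
  unfold E0
  rw [← Nat.card_congr (MonoidHom.ofInjective (eHom_injective hθ)).toEquiv]
  simp [Nat.card_prod]

theorem E0_sq {x : ↥(fixG θ)} (hx : x ∈ E0 hθ) : x * x = 1 := by
  obtain ⟨p, rfl⟩ := hx
  rw [← map_mul, show p * p = 1 by revert p; decide, map_one]

theorem a0_mem : a0 hθ ∈ E0 hθ := ⟨(Multiplicative.ofAdd 1, 1, 1), by simp [eHom_apply, inv2_one]⟩

theorem W_mem : lamG hθ wS ∈ E0 hθ := ⟨(1, Multiplicative.ofAdd 1, 1), by simp [eHom_apply, inv2_one]⟩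

theorem J_mem : lamG hθ jS ∈ E0 hθ := ⟨(1, 1, Multiplicative.ofAdd 1), by simp [eHom_apply, inv2_one]⟩

theorem E0_cent {x : ↥(fixG θ)} (h0 : x * a0 hθ = a0 hθ * x)
    (h1 : x * lamG hθ wS = lamG hθ wS * x) (h2 : x * lamG hθ jS = lamG hθ jS * x) : x ∈ E0 hθ := by
  obtain ⟨g, hg⟩ := comm_a0_cases hθ h0
  have hc : ∀ s : SL(2, K), x * lamG hθ s = lamG hθ s * x →
      g * s = s * g ∨ g * s = -(s * g) := by
    intro s hs
    apply lamG_eq hθ
    rw [map_mul, map_mul]
    rcases hg with rfl | rfl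
    · exact hs
    · calc lamG hθ g * lamG hθ s = a0 hθ * (a0 hθ * lamG hθ g * lamG hθ s) := by
            rw [← mul_assoc, ← mul_assoc, a0_sq, one_mul]
        _ = a0 hθ * (lamG hθ s * a0 hθ * lamG hθ g) := by rw [hs]; group
        _ = _ := by rw [lamG_comm hθ s, ← mul_assoc, ← mul_assoc, a0_sq, one_mul]
  obtain ⟨h, hh, hgh⟩ := klein_cent (hc _ h1) (hc _ h2)
  have hm : lamG hθ g ∈ E0 hθ := by
    have : lamG hθ h ∈ E0 hθ := by
      rcases hh with rfl | rfl | rfl | rfl
      · rw [map_one]; exact one_mem _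
      · exact W_mem hθ
      · exact J_mem hθ
      · rw [map_mul]; exact mul_mem (W_mem hθ) (J_mem hθ)
    rcases hgh with rfl | rfl
    · exact this
    · rwa [lamG_neg]
  rcases hg with rfl | rfl
  · exact hm
  · exact mul_mem (a0_mem hθ) hm

theorem centralizer_E0 : Subgroup.centralizer (E0 hθ : Set ↥(fixG θ)) = E0 hθ := by
  ext x
  rw [Subgroup.mem_centralizer_iff]
  constructor
  · exact fun h => E0_cent hθ (h _ (a0_mem hθ)).symm (h _ (W_mem hθ)).symm (h _ (J_mem hθ)).symm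
  · rintro ⟨p, rfl⟩ y ⟨r, rfl⟩
    rw [← map_mul, ← map_mul, mul_comm]

/-- every involution is conjugate to a0 -/
theorem invol_conj {x : ↥(fixG θ)} (h1 : x ≠ 1) (h2 : x * x = 1) :
    ∃ g : ↥(fixG θ), g * a0 hθ * g⁻¹ = x := by
  classical
  let T := {y : ↥(fixG θ) // y ≠ 1 ∧ y * y = 1}
  let P := (K × K) ⊕ ((K × K × K) × Kˣ)
  let f : P → GL chevG2.Idx K := Sum.elim
    (fun p => ru θ p.1 (θ p.1 ^ 3 * p.1) p.2 * hh θ (-1))
    fun p => ru θ p.1.1 p.1.2.1 p.1.2.2 * hh θ p.2 * n0 K * (ru θ p.1.1 p.1.2.1 p.1.2.2)⁻¹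
  have hP : ∀ y : T, ∃ p, f p = (y.1 : GL chevG2.Idx K) := by
    rintro ⟨⟨g, hgm⟩, hy1, hy2⟩
    have hsq : g * g = 1 := congrArg Subtype.val hy2
    rcases fixG_cases hθ hgm with ⟨t, u, v, b, rfl⟩ | ⟨t, u, v, b, t', u', v', rfl⟩
    · have e : ru θ t u v * ru θ (bb θ b * t) (b ^ 3 * bb θ b * u) (b ^ 3 * bb θ b ^ 2 * v) * hh θ (b * b) =
          ru θ 0 0 0 * hh θ 1 := by
        rw [ru_zero, one_mul, hh_one, ← hsq, ← hh_mul]
        rw [← hh_conj_ru hθ b t u v]
        group
      rw [ru_mul hθ] at e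
      obtain ⟨a1, a2, a3, a4⟩ := small_unique e
      rcases mul_self_eq_one_iff.1 (show (b : K) * b = 1 from congrArg Units.val a4) with g | g
      · exfalso
        obtain rfl : b = 1 := Units.ext g
        simp only [bb_one, Units.val_one, one_mul, one_pow] at a1 a2 a3
        have ht : t = 0 := by linear_combination -a1 + t * three (K := K)
        subst ht
        simp only [map_zero, mul_zero, sub_zero] at a2 a3
        have hu : u = 0 := by linear_combination -a2 + u * three (K := K)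
        subst hu
        have hv : v = 0 := by linear_combination -a3 + v * three (K := K)
        subst hv
        exact hy1 (Subtype.ext (by show ru θ 0 0 0 * hh θ 1 = 1; rw [ru_zero, hh_one, one_mul]))
      · obtain rfl : b = -1 := Units.ext g
        simp only [bb_neg_one, Units.val_neg, Units.val_one, map_neg, map_mul, map_one] at a2
        refine ⟨Sum.inl (t, v), ?_⟩
        show ru θ t (θ t ^ 3 * t) v * hh θ (-1) = ru θ t u v * hh θ (-1)
        rw [show u = θ t ^ 3 * t by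
          linear_combination -a2 + (θ t ^ 3 * t * 0 + u) * three (K := K)]
    · have e : ru θ t u v * hh θ b * n0 K * ru θ t' u' v' =
          (ru θ t' u' v')⁻¹ * hh θ b * n0 K * (ru θ t u v)⁻¹ := by
        rw [eq_inv_of_mul_eq_one_left hsq]
        simp only [mul_inv_rev, hh_inv, n0_inv]
        rw [mul_assoc, mul_assoc, ← mul_assoc (n0 K), n0_mul_hh, inv_inv]
        group
      refine ⟨Sum.inr ((t, u, v), b), ?_⟩
      show ru θ t u v * hh θ b * n0 K * (ru θ t u v)⁻¹ = _
      rw [ru_inv hθ t u v, ru_inv hθ t' u' v'] at e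
      obtain ⟨-, -, -, -, r1, r2, r3⟩ := big_unique e
      rw [ru_inv hθ t u v, ← r1, ← r2, ← r3]
  choose p hp using hP
  have hpinj : Function.Injective p := fun y z h => by
    apply Subtype.ext; apply Subtype.ext; rw [← hp y, ← hp z, h]
  set C := Subgroup.centralizer ({a0 hθ} : Set ↥(fixG θ))
  let ι : ↥(fixG θ) ⧸ C → T := fun c => ⟨c.out * a0 hθ * c.out⁻¹,
    fun h => a0_ne_one hθ (by
      calc a0 hθ = c.out⁻¹ * (c.out * a0 hθ * c.out⁻¹) * c.out := by group
        _ = 1 := by rw [h]; group), by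
    calc c.out * a0 hθ * c.out⁻¹ * (c.out * a0 hθ * c.out⁻¹) = c.out * (a0 hθ * a0 hθ) * c.out⁻¹ := by group
      _ = 1 := by rw [a0_sq]; group⟩
  have hι : Function.Injective ι := by
    intro a b h
    have h' : a.out * a0 hθ * a.out⁻¹ = b.out * a0 hθ * b.out⁻¹ := congrArg Subtype.val h
    rw [← QuotientGroup.out_eq' a, ← QuotientGroup.out_eq' b, QuotientGroup.eq,
      Subgroup.mem_centralizer_singleton_iff]
    calc a.out⁻¹ * b.out * a0 hθ = a.out⁻¹ * (b.out * a0 hθ * b.out⁻¹) * b.out := by group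
      _ = a.out⁻¹ * (a.out * a0 hθ * a.out⁻¹) * b.out := by rw [h']
      _ = _ := by group
  set q := Fintype.card K with hq
  have hq1 : 1 < q := Fintype.one_lt_card
  have h3 : Nat.card ↥C ≤ q * (q - 1) * (q + 1) := card_cent_le hθ (a0 hθ) rfl
  have h4 : Nat.card ↥(fixG θ) = Nat.card (↥(fixG θ) ⧸ C) * Nat.card ↥C :=
    C.card_eq_card_quotient_mul_card_subgroup
  have hTP : Nat.card T ≤ q * q + q * q * q * (q - 1) := by
    refine (Nat.card_le_card_of_injective p hpinj).trans (le_of_eq ?_)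
    simp only [P, Nat.card_eq_fintype_card, Fintype.card_sum, Fintype.card_prod, Fintype.card_units, ← hq]
    ring
  have hge : q * q + q * q * q * (q - 1) ≤ Nat.card (↥(fixG θ) ⧸ C) := by
    have hpos : 0 < q * (q - 1) * (q + 1) := by have : 0 < q - 1 := by omega
                                                positivity
    refine Nat.le_of_mul_le_mul_right (le_trans (le_of_eq ?_)
      (h4.le.trans (Nat.mul_le_mul_left _ h3))) hpos
    rw [card_fixG hθ, ← hq]
    obtain ⟨r, hr⟩ : ∃ r, q = r + 1 := ⟨q - 1, by omega⟩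
    rw [hr, Nat.add_sub_cancel]
    ring
  have hbij : Function.Bijective ι :=
    (Nat.bijective_iff_injective_and_card ι).2
      ⟨hι, le_antisymm (Nat.card_le_card_of_injective ι hι) (hTP.trans hge)⟩
  obtain ⟨c, hc⟩ := hbij.2 ⟨x, h1, h2⟩
  exact ⟨c.out, congrArg Subtype.val hc⟩

section Sylow2

variable (hq8 : Fintype.card K % 8 = 3)
include hq8

theorem E0_index_odd : ¬ 2 ∣ (E0 hθ).index := by
  obtain ⟨t, ht⟩ : ∃ t, Fintype.card K = 8 * t + 3 := ⟨Fintype.card K / 8, by omega⟩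
  have h := (E0 hθ).card_mul_index
  rw [card_E0, card_fixG hθ, ht, show 8 * t + 3 - 1 = 8 * t + 2 by omega] at h
  have h' : (E0 hθ).index = (8 * t + 3) ^ 3 * (4 * t + 1) * (128 * t ^ 3 + 144 * t ^ 2 + 54 * t + 7) := by
    refine Nat.eq_of_mul_eq_mul_left (show 0 < 8 by omega) (h.trans ?_)
    ring
  rw [h', Nat.two_dvd_ne_zero]
  simp [Nat.mul_mod, Nat.add_mod, Nat.pow_mod]

/-- E0 as a Sylow subgroup -/
noncomputable def E0S : Sylow 2 ↥(fixG θ) :=
  (IsPGroup.of_card (n := 3) (by rw [card_E0 hθ]; norm_num)).toSylow (E0_index_odd hθ hq8)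

theorem E0S_coe : ((E0S hθ hq8 : Sylow 2 ↥(fixG θ)) : Subgroup ↥(fixG θ)) = E0 hθ := rfl

theorem exists_conj_E0 (S : Sylow 2 ↥(fixG θ)) :
    ∃ g : ↥(fixG θ), ∀ x, x ∈ S ↔ g⁻¹ * x * g ∈ E0 hθ := by
  haveI : Fact (Nat.Prime 2) := ⟨Nat.prime_two⟩
  obtain ⟨g, hg⟩ := MulAction.exists_smul_eq ↥(fixG θ) (E0S hθ hq8) S
  refine ⟨g, fun x => ?_⟩
  rw [← hg]
  change x ∈ (g • E0S hθ hq8 : Sylow 2 ↥(fixG θ)).toSubgroup ↔ _
  rw [Sylow.smul_def, Sylow.pointwise_smul_def, Subgroup.mem_pointwise_smul_iff_inv_smul_mem]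
  simp [E0S_coe, mul_assoc]

theorem sylow_two_elementary (S : Sylow 2 ↥(fixG θ)) : Nat.card S = 8 ∧ ∀ x ∈ S, x * x = 1 := by
  haveI : Fact (Nat.Prime 2) := ⟨Nat.prime_two⟩
  refine ⟨?_, fun x hx => ?_⟩
  · rw [Nat.card_congr (Sylow.equiv S (E0S hθ hq8)).toEquiv]
    exact card_E0 hθ
  · obtain ⟨g, hg⟩ := exists_conj_E0 hθ hq8 S
    have h := E0_sq hθ ((hg x).1 hx)
    calc x * x = g * (g⁻¹ * x * g * (g⁻¹ * x * g)) * g⁻¹ := by group
      _ = 1 := by rw [h]; group

theorem sylow_two_cent (S : Sylow 2 ↥(fixG θ)) :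
    Subgroup.centralizer ((S : Subgroup ↥(fixG θ)) : Set ↥(fixG θ)) = S := by
  obtain ⟨g, hg⟩ := exists_conj_E0 hθ hq8 S
  ext x
  rw [Subgroup.mem_centralizer_iff]
  constructor
  · intro h
    refine (hg x).2 ?_
    rw [← centralizer_E0 hθ, Subgroup.mem_centralizer_iff]
    intro y hy
    have hm : g * y * g⁻¹ ∈ S := (hg _).2 (by simpa [mul_assoc] using hy)
    calc y * (g⁻¹ * x * g) = g⁻¹ * (g * y * g⁻¹ * x) * g := by group
      _ = g⁻¹ * (x * (g * y * g⁻¹)) * g := by rw [h _ hm]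
      _ = _ := by group
  · intro hx y hy
    have h1 := (hg x).1 hx
    rw [← centralizer_E0 hθ] at h1
    calc y * x = g * (g⁻¹ * y * g * (g⁻¹ * x * g)) * g⁻¹ := by group
      _ = g * (g⁻¹ * x * g * (g⁻¹ * y * g)) * g⁻¹ := by
        rw [Subgroup.mem_centralizer_iff.1 h1 _ ((hg y).1 hy)]
      _ = _ := by group

theorem card_normalizer_E0 : Nat.card ↥(Subgroup.normalizer (E0 hθ : Set ↥(fixG θ))) = 168 := by
  classical
  haveI : Fact (Nat.Prime 2) := ⟨Nat.prime_two⟩
  set E := E0 hθ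
  set N := Subgroup.normalizer (E : Set ↥(fixG θ)) with hN
  have hNE : ∀ n ∈ N, ∀ y ∈ E, n * y * n⁻¹ ∈ E := fun n hn y hy => (Subgroup.mem_normalizer_iff.1 hn y).1 hy
  -- the orbit of a0
  have hcomm : IsMulCommutative ↥E := ⟨⟨fun a b => by
    obtain ⟨_, p, rfl⟩ := a; obtain ⟨_, r, rfl⟩ := b
    apply Subtype.ext; simp only [Subgroup.coe_mul, ← map_mul, mul_comm]⟩⟩
  have fus : ∀ y ∈ E, y ≠ 1 → ∃ n ∈ N, n * a0 hθ * n⁻¹ = y := by
    intro y hy hy1
    obtain ⟨g, hg⟩ := invol_conj hθ hy1 (E0_sq hθ hy)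
    haveI : IsMulCommutative ↥(E0S hθ hq8 : Sylow 2 ↥(fixG θ)) := hcomm
    obtain ⟨n, hn, e⟩ := Sylow.conj_eq_normalizer_conj_of_mem (E0S hθ hq8) (a0 hθ) g⁻¹ (a0_mem hθ)
      (show g⁻¹⁻¹ * a0 hθ * g⁻¹ ∈ E by rw [inv_inv, hg]; exact hy)
    exact ⟨n⁻¹, inv_mem hn, by rw [inv_inv, ← e, inv_inv, hg]⟩
  have o1 : Nat.card {y : ↥(fixG θ) // ∃ m ∈ N, m * a0 hθ * m⁻¹ = y} = 7 := by
    let f : {p : Multiplicative (ZMod 2) × Multiplicative (ZMod 2) × Multiplicative (ZMod 2) // p ≠ 1} →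
        {y : ↥(fixG θ) // ∃ m ∈ N, m * a0 hθ * m⁻¹ = y} := fun p => ⟨eHom hθ p.1,
      fus _ ⟨_, rfl⟩ ((map_ne_one_iff _ (eHom_injective hθ)).2 p.2)⟩
    rw [← Nat.card_eq_of_bijective f ⟨fun a b h => Subtype.ext (eHom_injective hθ (congrArg Subtype.val h)), ?_⟩,
      card_ne_one_three]
    rintro ⟨y, m, hm, rfl⟩
    obtain ⟨p, hp⟩ := hNE m hm _ (a0_mem hθ)
    refine ⟨⟨p, ?_⟩, Subtype.ext hp⟩
    rintro rfl
    rw [map_one] at hp
    exact a0_ne_one hθ (by rwa [eq_comm, conj_eq_one_iff] at hp)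
  -- the orbit of W
  set M := N ⊓ Subgroup.centralizer {a0 hθ}
  have hM : ∀ m ∈ M, ∀ s : SL(2, K), lamG hθ s ∈ E → lamG hθ s ≠ 1 →
      ∃ r : Multiplicative (ZMod 2) × Multiplicative (ZMod 2), r ≠ 1 ∧
        eHom hθ (1, r) = m * lamG hθ s * m⁻¹ := by
    intro m hm s hs hs1
    obtain ⟨⟨x, r⟩, e⟩ := hNE m hm.1 _ hs
    obtain ⟨g, hg⟩ := comm_a0_cases hθ (Subgroup.mem_centralizer_singleton_iff.1 hm.2)
    have hm' : m * lamG hθ s * m⁻¹ = lamG hθ (g * s * g⁻¹) := by
      rw [map_mul, map_mul, map_inv]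
      rcases hg with rfl | rfl
      · rfl
      · calc a0 hθ * lamG hθ g * lamG hθ s * (a0 hθ * lamG hθ g)⁻¹
            = a0 hθ * lamG hθ (g * s * g⁻¹) * (a0 hθ)⁻¹ := by rw [map_mul, map_mul, map_inv]; group
          _ = _ := by rw [← lamG_comm hθ, mul_inv_cancel_right, map_mul, map_mul, map_inv]
    have hx : x = 1 := by
      rcases z2_cases x with rfl | rfl
      · rfl
      · exfalso
        obtain ⟨h, -, -, eh⟩ := eHom_lam hθ r.1 r.2
        rw [eHom_apply, eh, inv2_one, hm', ← eq_mul_inv_iff_mul_eq, ← map_inv, ← map_mul] at e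
        exact a0_ne_lamG hθ _ e
    subst hx
    refine ⟨r, ?_, e⟩
    rintro rfl
    exact hs1 (by rwa [← Prod.one_eq_mk, map_one, eq_comm, conj_eq_one_iff] at e)
  have cW : lamG hθ cS * lamG hθ wS * (lamG hθ cS)⁻¹ = lamG hθ jS := by
    rw [← map_mul, cS_mul_wS, map_mul, mul_inv_cancel_right]
  have cJ : lamG hθ cS * lamG hθ jS * (lamG hθ cS)⁻¹ = lamG hθ wS * lamG hθ jS := by
    rw [← map_mul, cS_mul_jS, map_mul, map_mul, mul_inv_cancel_right]
  have cA : lamG hθ cS * a0 hθ * (lamG hθ cS)⁻¹ = a0 hθ := by rw [lamG_comm hθ, mul_inv_cancel_right]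
  have hc : lamG hθ cS ∈ M := by
    refine ⟨?_, Subgroup.mem_centralizer_singleton_iff.2 (lamG_comm hθ _)⟩
    have hsub : ∀ y ∈ E, lamG hθ cS * y * (lamG hθ cS)⁻¹ ∈ E := by
      rintro y ⟨⟨x, u, v⟩, rfl⟩
      have key : ∀ p : Multiplicative (ZMod 2) × Multiplicative (ZMod 2) × Multiplicative (ZMod 2),
          MulAut.conj (lamG hθ cS) (eHom hθ p) = lamG hθ cS * eHom hθ p * (lamG hθ cS)⁻¹ := fun p => rfl
      rw [← key, eHom_apply, map_mul, map_mul]
      refine mul_mem ?_ (mul_mem ?_ ?_)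
      · rcases z2_cases x with rfl | rfl
        · simp [one_mem]
        · rw [inv2_one, MulAut.conj_apply, cA]; exact a0_mem hθ
      · rcases z2_cases u with rfl | rfl
        · simp [one_mem]
        · rw [inv2_one, MulAut.conj_apply, cW]; exact J_mem hθ
      · rcases z2_cases v with rfl | rfl
        · simp [one_mem]
        · rw [inv2_one, MulAut.conj_apply, cJ]; exact mul_mem (W_mem hθ) (J_mem hθ)
    refine Subgroup.mem_normalizer_iff.2 fun y => ⟨hsub y, fun h => ?_⟩
    have hbij : Function.Bijective fun z : ↥E => (⟨_, hsub z.1 z.2⟩ : ↥E) :=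
      Finite.injective_iff_bijective.1 fun a b e => Subtype.ext
        (mul_left_cancel (mul_right_cancel (congrArg Subtype.val e)))
    obtain ⟨⟨z, hz⟩, e⟩ := hbij.2 ⟨_, h⟩
    have : z = y := mul_left_cancel (mul_right_cancel (congrArg Subtype.val e))
    exact this ▸ hz
  have hW1 : lamG hθ wS ≠ 1 := fun h => by
    have : eHom hθ (1, Multiplicative.ofAdd (1 : ZMod 2), 1) = 1 := by
      simp [eHom_apply, inv2_one, h]
    exact absurd (congrArg (fun p : Multiplicative (ZMod 2) × Multiplicative (ZMod 2) × Multiplicative (ZMod 2) =>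
      p.2.1) ((map_eq_one_iff _ (eHom_injective hθ)).1 this))
      (show Multiplicative.ofAdd (1 : ZMod 2) ≠ 1 by simp)
  have o2 : Nat.card {y : ↥(fixG θ) // ∃ m ∈ M, m * lamG hθ wS * m⁻¹ = y} = 3 := by
    let f : {p : Multiplicative (ZMod 2) × Multiplicative (ZMod 2) // p ≠ 1} →
        {y : ↥(fixG θ) // ∃ m ∈ M, m * lamG hθ wS * m⁻¹ = y} := fun p => ⟨eHom hθ (1, p.1), by
      obtain ⟨⟨u, v⟩, hp⟩ := p
      rcases z2_cases u with rfl | rfl <;> rcases z2_cases v with rfl | rfl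
      · exact absurd rfl hp
      · exact ⟨_, hc, by rw [cW]; simp [eHom_apply, inv2_one]⟩
      · exact ⟨1, one_mem _, by simp [eHom_apply, inv2_one]⟩
      · refine ⟨_, mul_mem hc hc, ?_⟩
        calc lamG hθ cS * lamG hθ cS * lamG hθ wS * (lamG hθ cS * lamG hθ cS)⁻¹
            = lamG hθ cS * (lamG hθ cS * lamG hθ wS * (lamG hθ cS)⁻¹) * (lamG hθ cS)⁻¹ := by group
          _ = _ := by rw [cW, cJ]; simp [eHom_apply, inv2_one]⟩
    rw [← Nat.card_eq_of_bijective f ⟨fun a b h =>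
        Subtype.ext (congrArg Prod.snd (eHom_injective hθ (congrArg Subtype.val h))), ?_⟩,
      card_ne_one_two]
    rintro ⟨y, m, hm, rfl⟩
    obtain ⟨r, hr, e⟩ := hM m hm wS (W_mem hθ) hW1
    exact ⟨⟨r, hr⟩, Subtype.ext e⟩
  -- the stabiliser
  have hstab : M ⊓ Subgroup.centralizer {lamG hθ wS} = E := by
    refine le_antisymm (fun m hm => ?_) fun y hy => ?_
    · have hmW := Subgroup.mem_centralizer_singleton_iff.1 hm.2
      have hmA := Subgroup.mem_centralizer_singleton_iff.1 hm.1.2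
      have hJ1 : lamG hθ jS ≠ 1 := fun h => hW1 (by
        rw [← conj_eq_one_iff (a := lamG hθ cS), cW, h])
      obtain ⟨⟨u, v⟩, hr, e⟩ := hM m hm.1 jS (J_mem hθ) hJ1
      have hmm : m * lamG hθ wS * m⁻¹ = lamG hθ wS := by rw [hmW, mul_inv_cancel_right]
      rcases z2_cases v with rfl | rfl
      · exfalso
        rcases z2_cases u with rfl | rfl
        · exact hr rfl
        · simp only [eHom_apply, inv2_one, map_one, one_mul, mul_one] at e
          have h2 : lamG hθ wS = lamG hθ jS := mul_left_cancel (mul_right_cancel (hmm.trans e))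
          have : eHom hθ (1, Multiplicative.ofAdd (1 : ZMod 2), 1) =
              eHom hθ (1, 1, Multiplicative.ofAdd (1 : ZMod 2)) := by simp [eHom_apply, inv2_one, h2]
          exact absurd (congrArg (fun p : _ × _ × _ => p.2.1) (eHom_injective hθ this))
            (show Multiplicative.ofAdd (1 : ZMod 2) ≠ 1 by simp)
      · rcases z2_cases u with rfl | rfl <;>
          simp only [eHom_apply, inv2_one, map_one, one_mul, mul_one] at e
        · refine E0_cent hθ hmA hmW ?_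
          exact (eq_mul_inv_iff_mul_eq.1 e).symm
        · -- a 2-element of the normaliser
          have hmm2 : m * m * lamG hθ jS * (m * m)⁻¹ = lamG hθ jS := by
            calc m * m * lamG hθ jS * (m * m)⁻¹ = m * (m * lamG hθ jS * m⁻¹) * m⁻¹ := by group
              _ = m * (lamG hθ wS * lamG hθ jS) * m⁻¹ := by rw [e]
              _ = (m * lamG hθ wS * m⁻¹) * (m * lamG hθ jS * m⁻¹) := by group
              _ = _ := by rw [hmm, ← e, ← mul_assoc, invol_W, one_mul]
          have h2 : m * m ∈ E := by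
            refine E0_cent hθ ?_ ?_ (eq_mul_inv_iff_mul_eq.1 hmm2.symm).symm
            · rw [mul_assoc, hmA, ← mul_assoc, hmA, mul_assoc]
            · rw [mul_assoc, hmW, ← mul_assoc, hmW, mul_assoc]
          have hp : IsPGroup 2 ↥(Subgroup.zpowers m) := by
            have h4 : m ^ 2 ^ 2 = 1 := by
              rw [show (2 : ℕ) ^ 2 = 2 + 2 from rfl, pow_add, pow_two, E0_sq hθ h2]
            obtain ⟨k, -, hk⟩ := (Nat.dvd_prime_pow Nat.prime_two).1 (orderOf_dvd_of_pow_eq_one h4)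
            exact IsPGroup.of_card (n := k) ((Nat.card_zpowers m).trans hk)
          have hEp : IsPGroup 2 ↥E := (E0S hθ hq8).isPGroup'
          have hsup := hp.to_sup_of_normal_right' hEp
            (Subgroup.zpowers_le.2 (hm.1.1 : m ∈ Subgroup.normalizer (E : Set ↥(fixG θ))))
          have heq : Subgroup.zpowers m ⊔ E = E := (E0S hθ hq8).is_maximal' hsup le_sup_right
          rw [← heq]
          exact Subgroup.mem_sup_left (Subgroup.mem_zpowers m)
    · have hcc : ∀ z ∈ E, y * z = z * y := fun z hz => by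
        have h : y ∈ E0 hθ := hy
        rw [← centralizer_E0 hθ] at h
        exact (Subgroup.mem_centralizer_iff.1 h z hz).symm
      exact ⟨⟨Subgroup.le_normalizer hy, Subgroup.mem_centralizer_singleton_iff.2 (hcc _ (a0_mem hθ))⟩,
        Subgroup.mem_centralizer_singleton_iff.2 (hcc _ (W_mem hθ))⟩
  rw [card_orbit_conj N (a0 hθ), o1, card_orbit_conj M (lamG hθ wS), o2, hstab, card_E0]

theorem sylow_two_normalizer (S : Sylow 2 ↥(fixG θ)) :
    Nat.card ↥(Subgroup.normalizer ((S : Subgroup ↥(fixG θ)) : Set ↥(fixG θ))) = 168 := by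
  haveI : Fact (Nat.Prime 2) := ⟨Nat.prime_two⟩
  have h : ∀ P : Sylow 2 ↥(fixG θ),
      Nat.card ↥(Subgroup.normalizer ((P : Subgroup ↥(fixG θ)) : Set ↥(fixG θ))) *
        Nat.card (Sylow 2 ↥(fixG θ)) = Nat.card ↥(fixG θ) := fun P => by
    rw [Sylow.card_eq_index_normalizer P]; exact Subgroup.card_mul_index _
  have h1 := (h S).trans (h (E0S hθ hq8)).symm
  rw [E0S_coe, card_normalizer_E0 hθ hq8] at h1
  exact Nat.eq_of_mul_eq_mul_right Nat.card_pos h1

end Sylow2

end CfsgLib.ReeG2
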