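import Cfsg.Agent.Lib.ReeG2.Count

/-!
Cyclic subgroups of toral orders in `²G₂(q)`: conjugacy and centralisers.
-/

set_option autoImplicit false

namespace CfsgLib.ReeG2

open Cfsg.Lie CfsgLib.Chev

section general
variable {G : Type*} [Group G] [Finite G]

/-- Two cyclic subgroups of the same order inside a cyclic subgroup coincide. -/
theorem eq_of_le_cyclic {Z A B : Subgroup G} [IsCyclic Z] (hA : A ≤ Z) (hB : B ≤ Z)
    (h : Nat.card A = Nat.card B) : A = B := by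
  refine Subgroup.eq_of_le_of_card_ge (fun x hx => mem_of_pow_card (A := Z) hB (hA hx) ?_) h.ge
  rw [← h]
  exact orderOf_dvd_iff_pow_eq_one.1 (Subgroup.orderOf_dvd_natCard A hx)

theorem conj_cyclic {p : ℕ} [Fact p.Prime] (P : Sylow p G) [IsCyclic (P : Subgroup G)] {x y : G}
    (hx : orderOf x = p) (hy : orderOf y = p) : ∃ g, g * x * g⁻¹ ∈ Subgroup.zpowers y := by
  have hidx : ¬ p ∣ (P : Subgroup G).index := Sylow.not_dvd_index P
  obtain ⟨a, ha⟩ := exists_conj_le p (P : Subgroup G) hidx (Subgroup.zpowers x)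
    (IsPGroup.of_card (n := 1) (by rw [Nat.card_zpowers, hx, pow_one]))
  obtain ⟨b, hb⟩ := exists_conj_le p (P : Subgroup G) hidx (Subgroup.zpowers y)
    (IsPGroup.of_card (n := 1) (by rw [Nat.card_zpowers, hy, pow_one]))
  have ha' := ha x (Subgroup.mem_zpowers x)
  have hb' := hb y (Subgroup.mem_zpowers y)
  have ho : ∀ (c z : G), orderOf (c⁻¹ * z * c) = orderOf z := fun c z =>
    SemiconjBy.orderOf_eq c (show c * (c⁻¹ * z * c) = z * c by group)
  have e : Subgroup.zpowers (a⁻¹ * x * a) = Subgroup.zpowers (b⁻¹ * y * b) :=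
    eq_of_le_cyclic (Z := (P : Subgroup G)) (Subgroup.zpowers_le.2 ha') (Subgroup.zpowers_le.2 hb')
      (by rw [Nat.card_zpowers, Nat.card_zpowers, ho, ho, hx, hy])
  obtain ⟨n, hn⟩ := Subgroup.mem_zpowers_iff.1 (e ▸ Subgroup.mem_zpowers (a⁻¹ * x * a) :
    a⁻¹ * x * a ∈ Subgroup.zpowers (b⁻¹ * y * b))
  refine ⟨b * a⁻¹, Subgroup.mem_zpowers_iff.2 ⟨n, ?_⟩⟩
  rw [show b⁻¹ * y * b = b⁻¹ * y * b⁻¹⁻¹ by rw [inv_inv], conj_zpow, inv_inv] at hn
  calc y ^ n = b * (b⁻¹ * y ^ n * b) * b⁻¹ := by group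
    _ = _ := by rw [hn]; group

/-- Cyclic subgroups of order `d` are conjugate when, for a prime `l` dividing `d`, the Sylow `l`-subgroups are
cyclic and the elements of order dividing `d` centralising an element of order `l` form a cyclic group. -/
theorem conj_of_cent {d l : ℕ} [Fact l.Prime] (hld : l ∣ d) (P : Sylow l G) [IsCyclic (P : Subgroup G)]
    (hcent : ∀ y : G, orderOf y = l → ∃ Z : Subgroup G, IsCyclic Z ∧
      ∀ x : G, x * y = y * x → x ^ d = 1 → x ∈ Z)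
    (A B : Subgroup G) (hA : IsCyclic A) (hB : IsCyclic B) (hAd : Nat.card A = d) (hBd : Nat.card B = d) :
    ∃ g : G, B = A.map (MulAut.conj g).toMonoidHom := by
  obtain ⟨⟨a, haA⟩, ha⟩ := exists_prime_orderOf_dvd_card' l (hAd ▸ hld : l ∣ Nat.card A)
  obtain ⟨⟨b, hbB⟩, hb⟩ := exists_prime_orderOf_dvd_card' l (hBd ▸ hld : l ∣ Nat.card B)
  rw [Subgroup.orderOf_mk] at ha hb
  obtain ⟨g, hg⟩ := conj_cyclic P ha hb
  refine ⟨g, ?_⟩
  obtain ⟨Z, hZ, hZm⟩ := hcent b hb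
  set A' := A.map (MulAut.conj g).toMonoidHom with hA'
  have hcA : Nat.card A' = d := by
    rw [hA', Nat.card_congr (A.equivMapOfInjective _ (MulAut.conj g).injective).toEquiv.symm, hAd]
  have hgA : g * a * g⁻¹ ∈ A' := ⟨a, haA, by simp⟩
  have hbA : b ∈ A' := by
    have e : Subgroup.zpowers (g * a * g⁻¹) = Subgroup.zpowers b := by
      refine Subgroup.eq_of_le_of_card_ge (Subgroup.zpowers_le.2 hg) (le_of_eq ?_)
      rw [Nat.card_zpowers, Nat.card_zpowers, hb,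
        SemiconjBy.orderOf_eq g⁻¹ (show g⁻¹ * (g * a * g⁻¹) = a * g⁻¹ by group), ha]
    exact (Subgroup.zpowers_le.2 hgA) (e ▸ Subgroup.mem_zpowers b)
  haveI := hA
  haveI hA'c : IsCyclic A' :=
    (A.equivMapOfInjective (MulAut.conj g).toMonoidHom (MulAut.conj g).injective).isCyclic.1 hA
  refine eq_of_le_cyclic (Z := Z) (fun x hx => ?_) (fun x hx => ?_) (hBd.trans hcA.symm)
  · refine hZm x ?_ (orderOf_dvd_iff_pow_eq_one.1 (hBd ▸ Subgroup.orderOf_dvd_natCard B hx))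
    have : IsMulCommutative B := IsCyclic.isMulCommutative
    exact congrArg Subtype.val (mul_comm' (⟨x, hx⟩ : B) ⟨b, hbB⟩)
  · refine hZm x ?_ (orderOf_dvd_iff_pow_eq_one.1 (hcA ▸ Subgroup.orderOf_dvd_natCard A' hx))
    have : IsMulCommutative A' := IsCyclic.isMulCommutative
    exact congrArg Subtype.val (mul_comm' (⟨x, hx⟩ : A') ⟨b, hbA⟩)

theorem card_map_conj (g : G) (S : Subgroup G) :
    Nat.card (S.map (MulAut.conj g).toMonoidHom : Subgroup G) = Nat.card S :=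
  (Nat.card_congr (S.equivMapOfInjective _ (MulAut.conj g).injective).toEquiv).symm

theorem centralizer_map_conj (g : G) (S : Subgroup G) :
    Subgroup.centralizer ((S.map (MulAut.conj g).toMonoidHom : Subgroup G) : Set G) =
      (Subgroup.centralizer (S : Set G)).map (MulAut.conj g).toMonoidHom := by
  ext x
  constructor
  · intro hx
    refine ⟨g⁻¹ * x * g, Subgroup.mem_centralizer_iff.2 fun s hs => ?_, by simp [mul_assoc]⟩
    have h : g * s * g⁻¹ * x = x * (g * s * g⁻¹) :=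
      Subgroup.mem_centralizer_iff.1 hx _ ⟨s, hs, by simp⟩
    calc s * (g⁻¹ * x * g) = g⁻¹ * (g * s * g⁻¹ * x) * g := by group
      _ = g⁻¹ * (x * (g * s * g⁻¹)) * g := by rw [h]
      _ = _ := by group
  · rintro ⟨y, hy, rfl⟩
    refine Subgroup.mem_centralizer_iff.2 ?_
    rintro _ ⟨s, hs, rfl⟩
    show (MulAut.conj g) s * (MulAut.conj g) y = (MulAut.conj g) y * (MulAut.conj g) s
    rw [← map_mul, ← map_mul, Subgroup.mem_centralizer_iff.1 hy s hs]

end general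

variable {K : Type*} [Field K] [Fintype K] [CharP K 3] {θ : K ≃+* K} (hθ : IsRee θ)
  (hq8 : Fintype.card K % 8 = 3)
include hθ hq8

theorem Hf_cent {y : ↥(fixG θ)} (hy : y ∈ Hf θ) (hy2 : y * y ≠ 1) :
    Subgroup.centralizer ({y} : Set ↥(fixG θ)) = Hf θ := by
  obtain ⟨b, e⟩ := (mem_Hf hθ).1 hy
  have e' : y = hg hθ b := Subtype.ext e
  subst e'
  obtain ⟨h1, h2⟩ := Hf_sq_iff hθ hy2
  ext x
  constructor
  · intro hx
    exact cent_hg hθ h1 h2 (Subgroup.mem_centralizer_singleton_iff.1 hx)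
  · intro hx
    rw [Subgroup.mem_centralizer_singleton_iff]
    haveI := Hf_cyclic hθ
    have : IsMulCommutative (Hf θ) := IsCyclic.isMulCommutative
    exact congrArg Subtype.val (mul_comm' (⟨x, hx⟩ : Hf θ) ⟨_, hy⟩)

theorem toral_prime {d l : ℕ} (hl : l.Prime) (hld : l ∣ d)
    (hd : d ∣ (Fintype.card K - 1) / 2 ∨ d ∣ (Fintype.card K + 1) / 4 ∨ d ∣ nq K) :
    l ≠ 2 ∧ 3 < l := by
  obtain ⟨k, hk, hk2⟩ := half_pred_odd hθ hq8
  have h3 := three_dvd_q (K := K)
  have h4 := four_kA hq8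
  have h5 := kA_odd hq8
  have hl2 := hl.two_le
  have h1 : (Fintype.card K - 1) / 2 = k := by omega
  have hkA : (Fintype.card K + 1) / 4 = kA K := rfl
  rw [h1, hkA] at hd
  have hne2 : l ≠ 2 := by
    rintro rfl
    rcases hd with h | h | h
    · have := hld.trans h; omega
    · have := hld.trans h; omega
    · exact not_two_dvd_nq (K := K) (hld.trans h)
  refine ⟨hne2, ?_⟩
  by_contra hlt
  have : l = 3 := by omega
  subst this
  rcases hd with h | h | h
  · have := hld.trans h; omega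
  · have := hld.trans h; omega
  · exact not_three_dvd_nq (K := K) (hld.trans h)

theorem toral_conj {d : ℕ}
    (hd : d ∣ (Fintype.card K - 1) / 2 ∨ d ∣ (Fintype.card K + 1) / 4 ∨ d ∣ nq K)
    (A B : Subgroup ↥(fixG θ)) (hA : IsCyclic A) (hB : IsCyclic B) (hAd : Nat.card A = d)
    (hBd : Nat.card B = d) : ∃ g : ↥(fixG θ), B = A.map (MulAut.conj g).toMonoidHom := by
  by_cases hd1 : d = 1
  · subst hd1
    exact ⟨1, by rw [Subgroup.card_eq_one.1 hAd, Subgroup.card_eq_one.1 hBd, Subgroup.map_bot]⟩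
  obtain ⟨l, hl, hld⟩ := Nat.exists_prime_and_dvd hd1
  haveI := Fact.mk hl
  obtain ⟨hl2, hl3⟩ := toral_prime hθ hq8 hl hld hd
  haveI : IsCyclic ((default : Sylow l ↥(fixG θ)) : Subgroup ↥(fixG θ)) :=
    sylow_cyclic hθ hq8 hl3 _
  refine conj_of_cent hld (default : Sylow l ↥(fixG θ)) (fun y hy => ?_) A B hA hB hAd hBd
  rcases hd with hd | hd | hd
  · have hlq : l ∣ Fintype.card K - 1 := (hld.trans hd).trans
      (Nat.div_dvd_of_dvd (by obtain ⟨k, hk, -⟩ := half_pred_odd hθ hq8; exact ⟨k, hk⟩))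
    obtain ⟨g, b, hb1, hb2, hb⟩ := split_elem hθ hl2 hlq hy
    refine ⟨(Hf θ).map (MulAut.conj g).toMonoidHom, ?_, fun x hx _ => ?_⟩
    · exact ((Hf θ).equivMapOfInjective _ (MulAut.conj g).injective).isCyclic.1 (Hf_cyclic hθ)
    · refine ⟨g⁻¹ * x * g, cent_hg hθ hb1 hb2 ?_, by simp [mul_assoc]⟩
      rw [← hb]
      calc g⁻¹ * x * g * (g⁻¹ * y * g) = g⁻¹ * (x * y) * g := by group
        _ = g⁻¹ * (y * x) * g := by rw [hx]
        _ = _ := by group
  · have hlq : l ∣ Fintype.card K + 1 := (hld.trans hd).trans (Dvd.intro_left 4 (four_kA hq8).symm)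
    obtain ⟨g, hg'⟩ := exists_conj_mem (A2 hθ) (A2_index_prime hθ hq8 hl hl2 hlq) hy
    have hne : g⁻¹ * y * g ≠ 1 := by
      intro h
      have h1 : y = g * (g⁻¹ * y * g) * g⁻¹ := by group
      rw [h, mul_one, mul_inv_cancel] at h1
      rw [h1, orderOf_one] at hy
      exact hl.ne_one hy.symm
    refine ⟨(A2 hθ).map (MulAut.conj g).toMonoidHom, ?_, fun x hx hxd => ?_⟩
    · exact ((A2 hθ).equivMapOfInjective _ (MulAut.conj g).injective).isCyclic.1 (A2_cyclic hθ hq8)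
    · refine ⟨g⁻¹ * x * g, ⟨?_, ?_⟩, by simp [mul_assoc]⟩
      · show g⁻¹ * x * g ∈ TT hθ
        rw [← cent_A2 hθ hq8 hg' hne, Subgroup.mem_centralizer_singleton_iff]
        calc g⁻¹ * x * g * (g⁻¹ * y * g) = g⁻¹ * (x * y) * g := by group
          _ = g⁻¹ * (y * x) * g := by rw [hx]
          _ = _ := by group
      · obtain ⟨c, hc⟩ := hd
        show (g⁻¹ * x * g) ^ kA K = 1
        rw [show g⁻¹ * x * g = g⁻¹ * x * g⁻¹⁻¹ by rw [inv_inv], conj_pow,
          show kA K = d * c from hc, pow_mul, hxd, one_pow, mul_one, mul_inv_cancel]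
  · exact ⟨_, singer_cent_cyclic hθ (hld.trans hd) hy,
      fun x hx _ => Subgroup.mem_centralizer_singleton_iff.2 hx⟩

omit [Field K] [CharP K 3] hθ hq8 in
theorem nq_eq_prod {m : ℕ} (hK : Fintype.card K = 3 ^ (2 * m + 1)) :
    (3 ^ (2 * m + 1) - 3 ^ (m + 1) + 1) * (3 ^ (2 * m + 1) + 3 ^ (m + 1) + 1) = nq K := by
  have h1 : 3 ^ (m + 1) ≤ 3 ^ (2 * m + 1) := Nat.pow_le_pow_right (by norm_num) (by omega)
  have h2 : 3 ^ (m + 1) * 3 ^ (m + 1) = 3 * 3 ^ (2 * m + 1) := by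
    rw [← pow_add, ← pow_succ']; congr 1; ring
  rw [nq, hK]
  set a := 3 ^ (2 * m + 1)
  set b := 3 ^ (m + 1)
  have h3 : a ≤ a * a := Nat.le_mul_self a
  zify [h1, h3] at h2 ⊢
  linear_combination -h2

theorem split_centralizers (hq : 3 < Fintype.card K) (H : Subgroup ↥(fixG θ)) (hH : IsCyclic H)
    (hcard : Nat.card H = (Fintype.card K - 1) / 2) :
    IsCyclic ↥(Subgroup.centralizer (H : Set ↥(fixG θ))) ∧
      Nat.card ↥(Subgroup.centralizer (H : Set ↥(fixG θ))) = Fintype.card K - 1 ∧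
      ∀ A : Subgroup ↥(fixG θ), A ≤ H → A ≠ ⊥ →
        Subgroup.centralizer (A : Set ↥(fixG θ)) = Subgroup.centralizer (H : Set ↥(fixG θ)) := by
  obtain ⟨k, hk, hkodd⟩ := half_pred_odd hθ hq8
  have hk1 : (Fintype.card K - 1) / 2 = k := by omega
  rw [hk1] at hcard
  haveI := Hf_cyclic hθ
  obtain ⟨⟨x, hxH⟩, hx⟩ := IsCyclic.exists_generator (α := ↥(Hf θ))
  have hox : orderOf x = Fintype.card K - 1 := by
    rw [← card_Hf' hθ, ← orderOf_eq_card_of_forall_mem_zpowers hx]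
    exact (Subgroup.orderOf_mk _ _).symm
  set H0 := Subgroup.zpowers (x ^ 2)
  have hH0 : Nat.card H0 = k := by
    rw [Nat.card_zpowers, orderOf_pow_of_dvd two_ne_zero (by rw [hox, hk]; exact dvd_mul_right _ _), hox, hk,
      Nat.mul_div_cancel_left _ two_pos]
  obtain ⟨g, hg⟩ := toral_conj hθ hq8 (Or.inl (hk1 ▸ dvd_rfl : k ∣ (Fintype.card K - 1) / 2)) H0 H
    inferInstance hH hH0 hcard
  have hsub : ∀ A : Subgroup ↥(fixG θ), A ≤ H0 → A ≠ ⊥ → Subgroup.centralizer (A : Set ↥(fixG θ)) = Hf θ := by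
    intro A hA hA1
    have hle : H0 ≤ Hf θ := Subgroup.zpowers_le.2 (pow_mem hxH 2)
    refine le_antisymm ?_ ?_
    · obtain ⟨⟨y, hy⟩, hy1⟩ := Subgroup.ne_bot_iff_exists_ne_one.1 hA1
      rw [← Hf_cent hθ hq8 (hle (hA hy)) (fun h => hy1 (Subtype.ext ?_))]
      · exact Subgroup.centralizer_le (Set.singleton_subset_iff.2 hy)
      · have h1 : orderOf y ∣ 2 := orderOf_dvd_of_pow_eq_one (by rw [pow_two, h])
        have h2 : orderOf y ∣ k := hH0 ▸ Subgroup.orderOf_dvd_natCard H0 (hA hy)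
        exact orderOf_eq_one_iff.1 (Nat.eq_one_of_dvd_coprimes
          ((Nat.coprime_two_left.2 (Nat.odd_iff.2 hkodd))) h1 h2)
    · intro z hz
      refine Subgroup.mem_centralizer_iff.2 fun w hw => ?_
      have : IsMulCommutative (Hf θ) := IsCyclic.isMulCommutative
      exact congrArg Subtype.val (mul_comm' (⟨w, hle (hA hw)⟩ : Hf θ) ⟨z, hz⟩)
  have hne : H0 ≠ ⊥ := fun h => by
    rw [h, Subgroup.card_bot] at hH0
    omega
  have hC : Subgroup.centralizer (H : Set ↥(fixG θ)) = (Hf θ).map (MulAut.conj g).toMonoidHom := by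
    rw [hg, centralizer_map_conj, hsub H0 le_rfl hne]
  refine ⟨hC ▸ ((Hf θ).equivMapOfInjective _ (MulAut.conj g).injective).isCyclic.1 inferInstance,
    by rw [hC, card_map_conj, card_Hf' hθ], fun A hA hA1 => ?_⟩
  set A0 := A.comap (MulAut.conj g).toMonoidHom
  have hA0 : A0.map (MulAut.conj g).toMonoidHom = A :=
    Subgroup.map_comap_eq_self_of_surjective (MulAut.conj g).surjective A
  rw [← hA0, centralizer_map_conj, hsub A0 ?_ ?_, hC]
  · intro z hz
    have h1 : (MulAut.conj g).toMonoidHom z ∈ H := hA hz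
    rw [hg] at h1
    obtain ⟨w, hw, hwe⟩ := h1
    rwa [← (MulAut.conj g).injective hwe]
  · intro h
    rw [h, Subgroup.map_bot] at hA0
    exact hA1 hA0.symm

theorem quarter_centralizers (hq : 3 < Fintype.card K) (H : Subgroup ↥(fixG θ)) (hH : IsCyclic H)
    (hcard : Nat.card H = (Fintype.card K + 1) / 4) :
    IsMulCommutative ↥(Subgroup.centralizer (H : Set ↥(fixG θ))) ∧
      Nat.card ↥(Subgroup.centralizer (H : Set ↥(fixG θ))) = Fintype.card K + 1 ∧
      (∀ x ∈ Subgroup.centralizer (H : Set ↥(fixG θ)), orderOf x ≠ 4) ∧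
      ∀ A : Subgroup ↥(fixG θ), A ≤ H → A ≠ ⊥ →
        Subgroup.centralizer (A : Set ↥(fixG θ)) = Subgroup.centralizer (H : Set ↥(fixG θ)) := by
  have h4 := four_kA hq8
  have hkA : (Fintype.card K + 1) / 4 = kA K := rfl
  rw [hkA] at hcard
  obtain ⟨g, hg⟩ := toral_conj hθ hq8 (Or.inr (Or.inl (hkA ▸ dvd_rfl : kA K ∣ (Fintype.card K + 1) / 4)))
    (A2 hθ) H (A2_cyclic hθ hq8) hH (card_A2 hθ hq8) hcard
  have hsub : ∀ A : Subgroup ↥(fixG θ), A ≤ A2 hθ → A ≠ ⊥ →
      Subgroup.centralizer (A : Set ↥(fixG θ)) = TT hθ := by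
    intro A hA hA1
    refine le_antisymm ?_ ?_
    · obtain ⟨⟨y, hy⟩, hy1⟩ := Subgroup.ne_bot_iff_exists_ne_one.1 hA1
      rw [← cent_A2 hθ hq8 (hA hy) (fun h => hy1 (Subtype.ext h))]
      exact Subgroup.centralizer_le (Set.singleton_subset_iff.2 hy)
    · exact fun z hz => Subgroup.mem_centralizer_iff.2 fun w hw => TT_comm hθ (hA hw).1 hz
  have hne : A2 hθ ≠ ⊥ := fun h => by
    have := card_A2 hθ hq8
    rw [h, Subgroup.card_bot] at this
    omega
  have hC : Subgroup.centralizer (H : Set ↥(fixG θ)) = (TT hθ).map (MulAut.conj g).toMonoidHom := by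
    rw [hg, centralizer_map_conj, hsub _ le_rfl hne]
  refine ⟨⟨⟨fun a b => Subtype.ext ?_⟩⟩, by rw [hC, card_map_conj, card_TT hθ hq8], fun x hx => ?_,
    fun A hA hA1 => ?_⟩
  · obtain ⟨a0', ha0, ea⟩ := hC.le a.2
    obtain ⟨b0', hb0, eb⟩ := hC.le b.2
    show (a : ↥(fixG θ)) * b = b * a
    rw [← ea, ← eb, ← map_mul, ← map_mul, TT_comm hθ ha0 hb0]
  · obtain ⟨y, hy, rfl⟩ := hC.le hx
    intro h
    rw [orderOf_injective _ (MulAut.conj g).injective] at h
    have h1 : (y * y) ^ kA K = 1 := (TT_sq hθ hq8 hy).2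
    have h2 : orderOf y ∣ 2 * kA K := orderOf_dvd_of_pow_eq_one (by rw [pow_mul, pow_two, h1])
    rw [h] at h2
    have := kA_odd hq8
    omega
  · set A0 := A.comap (MulAut.conj g).toMonoidHom
    have hA0 : A0.map (MulAut.conj g).toMonoidHom = A :=
      Subgroup.map_comap_eq_self_of_surjective (MulAut.conj g).surjective A
    rw [← hA0, centralizer_map_conj, hsub A0 ?_ ?_, hC]
    · intro z hz
      have h1 : (MulAut.conj g).toMonoidHom z ∈ H := hA hz
      rw [hg] at h1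
      obtain ⟨w, hw, hwe⟩ := h1
      rwa [← (MulAut.conj g).injective hwe]
    · intro h
      rw [h, Subgroup.map_bot] at hA0
      exact hA1 hA0.symm

end CfsgLib.ReeG2
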