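import Cfsg.Agent.Lib.ReeG2.Singer
import Cfsg.Agent.Lib.ReeG2.Toral

/-!
Solvable subgroups of ²G₂(q) lie in local normalisers.
-/

set_option autoImplicit false
set_option linter.unusedSectionVars false

namespace CfsgLib.ReeG2

open Cfsg.Lie CfsgLib.Chev
open scoped Pointwise

section general
variable {G : Type*} [Group G] [Finite G]

/-- a nontrivial solvable group has a nontrivial normal elementary abelian subgroup -/
theorem exists_normal_elem [Nontrivial G] [Group.IsSolvable G] :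
    ∃ (r : ℕ) (W : Subgroup G), r.Prime ∧ W.Normal ∧ W ≠ ⊥ ∧
      (∀ x ∈ W, ∀ y ∈ W, x * y = y * x) ∧ ∀ x ∈ W, x ^ r = 1 := by
  classical
  have hex : ∃ n, derivedSeries G n = ⊥ := Group.IsSolvable.solvable
  obtain ⟨k, hk⟩ : ∃ k, Nat.find hex = k + 1 := by
    refine Nat.exists_eq_succ_of_ne_zero fun h => ?_
    have h' := Nat.find_spec hex
    rw [h, derivedSeries_zero] at h'
    exact top_ne_bot h'
  set D := derivedSeries G k with hD
  have hD1 : D ≠ ⊥ := Nat.find_min hex (by omega)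
  have hcomm : ∀ x ∈ D, ∀ y ∈ D, x * y = y * x := by
    have h' := Nat.find_spec hex
    rw [hk, derivedSeries_succ, Subgroup.commutator_eq_bot_iff_le_centralizer] at h'
    exact fun x hx y hy => Subgroup.mem_centralizer_iff.1 (h' hy) x hx
  haveI : D.Normal := derivedSeries_normal G k
  obtain ⟨r, hr, hrD⟩ := Nat.exists_prime_and_dvd (n := Nat.card D)
    (fun h => hD1 (Subgroup.card_eq_one.1 h))
  haveI := Fact.mk hr
  let W : Subgroup G :=
    { carrier := {x | x ∈ D ∧ x ^ r = 1}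
      one_mem' := ⟨one_mem _, one_pow _⟩
      mul_mem' := fun {a b} ha hb => ⟨mul_mem ha.1 hb.1, by
        rw [(show Commute a b from hcomm a ha.1 b hb.1).mul_pow, ha.2, hb.2, one_mul]⟩
      inv_mem' := fun {a} ha => ⟨inv_mem ha.1, by rw [inv_pow, ha.2, inv_one]⟩ }
  refine ⟨r, W, hr, ⟨fun x hx g => ⟨Subgroup.Normal.conj_mem ‹_› x hx.1 g,
    by rw [conj_pow, hx.2, mul_one, mul_inv_cancel]⟩⟩, ?_, fun x hx y hy => hcomm x hx.1 y hy.1, fun x hx => hx.2⟩
  intro h
  obtain ⟨⟨x, hxD⟩, hx⟩ := exists_prime_orderOf_dvd_card' r hrD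
  rw [Subgroup.orderOf_mk] at hx
  have hm : x ∈ W := ⟨hxD, hx ▸ pow_orderOf_eq_one x⟩
  rw [h, Subgroup.mem_bot] at hm
  rw [hm, orderOf_one] at hx
  exact hr.ne_one hx.symm

/-- an elementary abelian normal subgroup of odd exponent, or one of exponent two and order at least four -/
theorem exists_good_normal [Nontrivial G] [Group.IsSolvable G]
    (h2 : ∀ x : G, x ^ 4 = 1 → x * x = 1) (hbig : Nat.card G ≠ 2) :
    ∃ (r : ℕ) (W : Subgroup G), r.Prime ∧ W.Normal ∧ W ≠ ⊥ ∧ (∀ x ∈ W, x ^ r = 1) ∧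
      (r = 2 → 4 ≤ Nat.card W) := by
  classical
  letI := Fintype.ofFinite G
  obtain ⟨r, W, hr, hW, hW1, hWc, hWr⟩ := exists_normal_elem (G := G)
  by_cases hgood : r = 2 → 4 ≤ Nat.card W
  · exact ⟨r, W, hr, hW, hW1, hWr, hgood⟩
  push Not at hgood
  obtain ⟨rfl, hlt⟩ := hgood
  haveI := hW
  have hcW : Nat.card W = 2 := by
    haveI : Fact (Nat.Prime 2) := ⟨Nat.prime_two⟩
    obtain ⟨k, hk⟩ := (IsPGroup.iff_card (p := 2) (G := W)).1
      (fun x => ⟨1, Subtype.ext (by simpa using hWr x x.2)⟩)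
    rcases k with _ | _ | k
    · exact absurd (Subgroup.card_eq_one.1 (by rw [hk, pow_zero])) hW1
    · simpa using hk
    · rw [show k + 1 + 1 = k + 2 from rfl] at hk
      have : 4 ≤ 2 ^ (k + 2) := by rw [pow_add]; exact Nat.le_mul_of_pos_left 4 (pow_pos two_pos _)
      omega
  obtain ⟨⟨z, hz⟩, hz1⟩ := Subgroup.ne_bot_iff_exists_ne_one.1 hW1
  have hz1' : z ≠ 1 := fun e => hz1 (Subtype.ext e)
  have hWcases : ∀ w ∈ W, w = 1 ∨ w = z := by
    intro w hw
    by_contra h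
    push Not at h
    have hs : ({1, z, w} : Finset G) ⊆ Finset.univ.filter (· ∈ W) (α := G) := by
      intro a ha
      simp only [Finset.mem_insert, Finset.mem_singleton] at ha
      simp only [Finset.mem_filter, Finset.mem_univ, true_and]
      rcases ha with rfl | rfl | rfl
      exacts [one_mem _, hz, hw]
    have := Finset.card_le_card hs
    rw [Finset.card_insert_of_notMem (by simp [Ne.symm hz1', Ne.symm h.1]),
      Finset.card_pair (Ne.symm h.2)] at this
    rw [Nat.card_eq_fintype_card, Fintype.card_subtype] at hcW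
    omega
  have hzc : ∀ g : G, g * z = z * g := fun g => by
    rcases hWcases _ (hW.conj_mem z hz g) with e | e
    · exact absurd (conj_eq_one_iff.1 e) hz1'
    · exact mul_inv_eq_iff_eq_mul.1 e
  have hWcen : ∀ w ∈ W, ∀ g : G, g * w = w * g := fun w hw g => by
    rcases hWcases w hw with rfl | rfl
    · simp
    · exact hzc g
  haveI : Nontrivial (G ⧸ W) := by
    rw [← Finite.one_lt_card_iff_nontrivial]
    have := W.card_mul_index
    rw [hcW, Subgroup.index_eq_card] at this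
    rcases Nat.lt_or_ge 1 (Nat.card (G ⧸ W)) with h | h
    · exact h
    · have := Nat.card_pos (α := G ⧸ W)
      exfalso
      apply hbig
      omega
  obtain ⟨s, V, hs, hV, hV1, hVc, hVs⟩ := exists_normal_elem (G := G ⧸ W)
  set M := V.comap (QuotientGroup.mk' W)
  haveI hMn : M.Normal := hV.comap _
  have hMW : ∀ x ∈ M, x ^ s ∈ W := fun x hx => by
    rw [← QuotientGroup.eq_one_iff, QuotientGroup.mk_pow]
    exact hVs _ hx
  obtain ⟨⟨v, hv⟩, hv1⟩ := Subgroup.ne_bot_iff_exists_ne_one.1 hV1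
  obtain ⟨x, rfl⟩ := QuotientGroup.mk_surjective v
  have hxM : x ∈ M := hv
  have hxW : x ∉ W := fun h => hv1 (Subtype.ext ((QuotientGroup.eq_one_iff x).2 h))
  by_cases hs2 : s = 2
  · subst hs2
    refine ⟨2, M, Nat.prime_two, hMn, fun h => hxW ?_, fun y hy => ?_, fun _ => ?_⟩
    · rw [h, Subgroup.mem_bot] at hxM
      rw [hxM]; exact one_mem _
    · rw [pow_two]
      exact h2 y (by rw [show 4 = 2 * 2 from rfl, pow_mul]; exact hWr _ (hMW y hy))
    · have hle : W ≤ M := fun w hw => by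
        show QuotientGroup.mk' W w ∈ V
        rw [show QuotientGroup.mk' W w = 1 from (QuotientGroup.eq_one_iff w).2 hw]
        exact one_mem _
      obtain ⟨c, hc⟩ := Subgroup.card_dvd_of_le hle
      have hne : Nat.card M ≠ 2 := fun h => hxW (by
        rw [Subgroup.eq_of_le_of_card_ge hle (by omega)]; exact hxM)
      have := Nat.card_pos (α := M)
      rw [hcW] at hc
      rcases c with _ | _ | c <;> omega
  · have hodd : s % 2 = 1 := (hs.eq_two_or_odd).resolve_left hs2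
    have hMc : ∀ a ∈ M, ∀ b ∈ M, a * b = b * a := by
      intro a ha b hb
      have hcW' : a * b * a⁻¹ * b⁻¹ ∈ W := by
        rw [← QuotientGroup.eq_one_iff]
        simp only [QuotientGroup.mk_mul, QuotientGroup.mk_inv]
        rw [hVc _ (show (QuotientGroup.mk a : G ⧸ W) ∈ V from ha) _ (show (QuotientGroup.mk b : G ⧸ W) ∈ V from hb)]
        group
      obtain ⟨c, hc, hce⟩ : ∃ c ∈ W, a * b * a⁻¹ = c * b := ⟨_, hcW', by group⟩
      have hc2 : c * c = 1 := by rw [← pow_two]; exact hWr c hc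
      have hpow : ∀ n : ℕ, a ^ n * b * (a ^ n)⁻¹ = c ^ n * b := by
        intro n
        induction n with
        | zero => simp
        | succ n ih =>
          calc a ^ (n + 1) * b * (a ^ (n + 1))⁻¹ = a * (a ^ n * b * (a ^ n)⁻¹) * a⁻¹ := by
                rw [pow_succ']; group
            _ = a * (c ^ n * b) * a⁻¹ := by rw [ih]
            _ = (a * c ^ n) * b * a⁻¹ := by group
            _ = c ^ n * (a * b * a⁻¹) := by rw [hWcen _ (pow_mem hc n) a]; group
            _ = _ := by rw [hce, pow_succ, mul_assoc]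
      have := hpow s
      rw [← hWcen _ (hMW a ha) b, mul_inv_cancel_right, ← Nat.div_add_mod s 2, hodd, pow_succ, pow_mul,
        pow_two, hc2, one_pow, one_mul] at this
      rw [eq_comm, mul_eq_right] at this
      rw [this, one_mul, mul_inv_eq_iff_eq_mul] at hce
      exact hce
    let U : Subgroup G :=
      { carrier := {y | y ∈ M ∧ y ^ s = 1}
        one_mem' := ⟨one_mem _, one_pow _⟩
        mul_mem' := fun {a b} ha hb => ⟨mul_mem ha.1 hb.1, by
          rw [(show Commute a b from hMc a ha.1 b hb.1).mul_pow, ha.2, hb.2, one_mul]⟩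
        inv_mem' := fun {a} ha => ⟨inv_mem ha.1, by rw [inv_pow, ha.2, inv_one]⟩ }
    refine ⟨s, U, hs, ⟨fun y hy g => ⟨hMn.conj_mem y hy.1 g, by rw [conj_pow, hy.2, mul_one, mul_inv_cancel]⟩⟩,
      fun h => ?_, fun y hy => hy.2, fun e => absurd e hs2⟩
    have hm : x ^ 2 ∈ U := ⟨pow_mem hxM 2, by rw [← pow_mul, mul_comm, pow_mul]; exact hWr _ (hMW x hxM)⟩
    rw [h, Subgroup.mem_bot] at hm
    refine hxW ?_
    have := hMW x hxM
    rwa [← Nat.div_add_mod s 2, hodd, pow_succ, pow_mul, hm, one_pow, one_mul] at this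

theorem mem_normalizer_map {T : Subgroup G} {g n : G} (h : g⁻¹ * n * g ∈ Subgroup.normalizer (T : Set G)) :
    n ∈ Subgroup.normalizer ((T.map (MulAut.conj g).toMonoidHom : Subgroup G) : Set G) := by
  refine mem_normalizer_of_conj fun x hx => ?_
  obtain ⟨t, ht, rfl⟩ := hx
  refine ⟨_, (Subgroup.mem_normalizer_iff.1 h t).1 ht, ?_⟩
  simp [mul_assoc]

theorem mem_normalizer_of_map {T : Subgroup G} {g n : G}
    (h : n ∈ Subgroup.normalizer ((T.map (MulAut.conj g).toMonoidHom : Subgroup G) : Set G)) :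
    g⁻¹ * n * g ∈ Subgroup.normalizer (T : Set G) := by
  refine mem_normalizer_of_conj fun x hx => ?_
  obtain ⟨t, ht, e⟩ := (Subgroup.mem_normalizer_iff.1 h (g * x * g⁻¹)).1 ⟨x, hx, by simp⟩
  have e' : g * t * g⁻¹ = n * (g * x * g⁻¹) * n⁻¹ := e
  rw [show g⁻¹ * n * g * x * (g⁻¹ * n * g)⁻¹ = g⁻¹ * (n * (g * x * g⁻¹) * n⁻¹) * g by group, ← e']
  rwa [show g⁻¹ * (g * t * g⁻¹) * g = t by group]

end general

variable {K : Type*} [Field K] [Fintype K] [CharP K 3] {θ : K ≃+* K} (hθ : IsRee θ)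
  (hq8 : Fintype.card K % 8 = 3)
include hθ hq8

/-- the subgroups whose normalisers contain the solvable subgroups -/
def IsLocal (r : ℕ) (A : Subgroup ↥(fixG θ)) : Prop :=
  (∃ P : Sylow 2 ↥(fixG θ), A = P) ∨ (∃ P : Sylow 3 ↥(fixG θ), A = P) ∨
    (IsCyclic A ∧ (Nat.card A = (Fintype.card K - 1) / 2 ∨ Nat.card A = (Fintype.card K + 1) / 4 ∨
      Nat.card A = Fintype.card K - r + 1 ∨ Nat.card A = Fintype.card K + r + 1))

omit hθ hq8 in
theorem cyclic_map {A : Subgroup ↥(fixG θ)} (g : ↥(fixG θ)) (h : IsCyclic A) :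
    IsCyclic ↥(A.map (MulAut.conj g).toMonoidHom) :=
  (A.equivMapOfInjective _ (MulAut.conj g).injective).isCyclic.1 h

theorem local_three {Q : Subgroup ↥(fixG θ)} (hQ : Q ≠ ⊥) (hexp : ∀ x ∈ Q, x ^ 3 = 1) :
    ∃ P : Sylow 3 ↥(fixG θ), Subgroup.normalizer (Q : Set ↥(fixG θ)) ≤
      Subgroup.normalizer ((P : Subgroup ↥(fixG θ)) : Set ↥(fixG θ)) := by
  classical
  haveI : Fact (Nat.Prime 3) := ⟨Nat.prime_three⟩
  have hidx : ¬ 3 ∣ (Uf θ).index := by
    have h := (Uf θ).card_mul_index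
    rw [card_Uf' hθ, card_eq hθ] at h
    rw [Nat.eq_of_mul_eq_mul_left (pow_pos Fintype.card_pos 3) h]
    intro hd
    have h3 := three_dvd_q (K := K)
    have := Fintype.card_pos (α := K)
    rcases Nat.prime_three.dvd_mul.1 hd with g | g
    · omega
    rcases Nat.prime_three.dvd_mul.1 g with g | g
    · omega
    · exact not_three_dvd_nq (K := K) g
  obtain ⟨g, hg⟩ := exists_conj_le 3 (Uf θ) hidx Q (fun x => ⟨1, Subtype.ext (by simpa using hexp x x.2)⟩)
  have hU : IsPGroup 3 ↥((Uf θ).map (MulAut.conj g).toMonoidHom) := by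
    obtain ⟨n, hn, h⟩ := exists_three_pow (K := K)
    exact IsPGroup.of_card (n := n * 3) (by rw [card_map_conj, card_Uf' hθ, h, ← pow_mul])
  have hi : ¬ 3 ∣ ((Uf θ).map (MulAut.conj g).toMonoidHom).index := by
    have h1 := ((Uf θ).map (MulAut.conj g).toMonoidHom).card_mul_index
    rw [card_map_conj, ← (Uf θ).card_mul_index] at h1
    rwa [Nat.eq_of_mul_eq_mul_left Nat.card_pos h1]
  refine ⟨hU.toSylow hi, fun n hn => ?_⟩
  show n ∈ Subgroup.normalizer (((Uf θ).map (MulAut.conj g).toMonoidHom : Subgroup ↥(fixG θ)) : Set ↥(fixG θ))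
  refine mem_normalizer_map ?_
  obtain ⟨⟨y, hy⟩, hy1⟩ := Subgroup.ne_bot_iff_exists_ne_one.1 hQ
  set b := g⁻¹ * n * g
  have hb : b ∈ Bf θ := by
    by_contra hb'
    have hm : b * (g⁻¹ * y * g) * b⁻¹ ∈ Uf θ ⊓ MulAut.conj b • Uf θ := by
      refine ⟨?_, _, hg y hy, rfl⟩
      rw [show b * (g⁻¹ * y * g) * b⁻¹ = g⁻¹ * (n * y * n⁻¹) * g by simp only [b]; group]
      exact hg _ ((Subgroup.mem_normalizer_iff.1 hn y).1 hy)
    rw [ti_of_not_mem hθ hb', Subgroup.mem_bot, conj_eq_one_iff] at hm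
    exact hy1 (Subtype.ext (show y = 1 by
      calc y = g * (g⁻¹ * y * g) * g⁻¹ := by group
        _ = 1 := by rw [hm]; group))
  refine mem_normalizer_of_conj fun x hx => ?_
  rw [← conj_Uf hθ hb]
  exact ⟨x, hx, rfl⟩

theorem local_big (hq : 3 < Fintype.card K) {r : ℕ} (hr : r * r = 3 * Fintype.card K) {l : ℕ} (hl : l.Prime)
    (hl3 : 3 < l) {Q : Subgroup ↥(fixG θ)} (hQ : Q ≠ ⊥) (hexp : ∀ x ∈ Q, x ^ l = 1) :
    ∃ A : Subgroup ↥(fixG θ), IsLocal r A ∧
      Subgroup.normalizer (Q : Set ↥(fixG θ)) ≤ Subgroup.normalizer (A : Set ↥(fixG θ)) := by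
  classical
  haveI := Fact.mk hl
  obtain ⟨P, hP⟩ := (show IsPGroup l Q from fun x => ⟨1, Subtype.ext (by simpa using hexp x x.2)⟩).exists_le_sylow
  haveI := sylow_cyclic hθ hq8 hl3 P
  haveI hQc : IsCyclic Q := isCyclic_of_injective _ (Subgroup.inclusion_injective hP)
  have hQl : Nat.card Q = l := by
    obtain ⟨x, hx⟩ := IsCyclic.exists_generator (α := Q)
    rw [← orderOf_eq_card_of_forall_mem_zpowers hx]
    refine orderOf_eq_prime (Subtype.ext (by simpa using hexp x x.2)) fun e => hQ ?_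
    rw [← Subgroup.card_eq_one, ← orderOf_eq_card_of_forall_mem_zpowers hx, e, orderOf_one]
  obtain ⟨k, hk, hkodd⟩ := half_pred_odd hθ hq8
  have h4 := four_kA hq8
  have main : ∀ T : Subgroup ↥(fixG θ), IsCyclic T → l ∣ Nat.card T →
      (l ∣ (Fintype.card K - 1) / 2 ∨ l ∣ (Fintype.card K + 1) / 4 ∨ l ∣ nq K) →
      (∀ T₀ ≤ T, T₀ ≠ ⊥ → Subgroup.normalizer (T₀ : Set ↥(fixG θ)) = Subgroup.normalizer (T : Set ↥(fixG θ))) →
      ∃ g : ↥(fixG θ), Subgroup.normalizer (Q : Set ↥(fixG θ)) ≤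
        Subgroup.normalizer ((T.map (MulAut.conj g).toMonoidHom : Subgroup ↥(fixG θ)) : Set ↥(fixG θ)) := by
    intro T hT hlT hd hTn
    obtain ⟨⟨t, htT⟩, ht⟩ := exists_prime_orderOf_dvd_card' l hlT
    rw [Subgroup.orderOf_mk] at ht
    obtain ⟨g, hg⟩ := toral_conj hθ hq8 hd (Subgroup.zpowers t) Q inferInstance hQc
      (by rw [Nat.card_zpowers, ht]) hQl
    refine ⟨g, fun n hn => mem_normalizer_map ?_⟩
    rw [← hTn _ (Subgroup.zpowers_le.2 htT) (fun e => by
      rw [Subgroup.zpowers_eq_bot] at e; rw [e, orderOf_one] at ht; exact hl.ne_one ht.symm)]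
    rw [hg] at hn
    exact mem_normalizer_of_map hn
  have hlG : l ∣ Nat.card ↥(fixG θ) := hQl ▸ Subgroup.card_subgroup_dvd_card Q
  rcases prime_cases hθ hl hlG with g | g | ⟨-, g | g | g⟩
  · omega
  · omega
  · have h : l ∣ (Fintype.card K - 1) / 2 := by
      rw [show (Fintype.card K - 1) / 2 = k by omega]
      exact (hl.dvd_mul.1 (hk ▸ g)).resolve_left fun e => by have := Nat.le_of_dvd two_pos e; omega
    obtain ⟨A, hA, hcA, -, hAn⟩ := split_torus hθ hq8 hq
    obtain ⟨x, hx⟩ := main A hA (hcA ▸ h) (Or.inl h) hAn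
    exact ⟨_, Or.inr (Or.inr ⟨cyclic_map x hA, Or.inl (by rw [card_map_conj, hcA])⟩), hx⟩
  · have h : l ∣ (Fintype.card K + 1) / 4 := by
      show l ∣ kA K
      exact (hl.dvd_mul.1 (h4 ▸ g)).resolve_left fun e => by have := Nat.le_of_dvd four_pos e; interval_cases l; norm_num at hl
    obtain ⟨A, hA, hcA, -, hAn⟩ := circle_torus hθ hq8 hq
    obtain ⟨x, hx⟩ := main A hA (hcA ▸ h) (Or.inr (Or.inl h)) hAn
    exact ⟨_, Or.inr (Or.inr ⟨cyclic_map x hA, Or.inr (Or.inl (by rw [card_map_conj, hcA]))⟩), hx⟩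
  · obtain ⟨A, B, hA, hB, hcA, hcB, -, -, hcov⟩ := singer_tori_r hθ hq8 hq hr
    obtain ⟨⟨t, htQ⟩, ht⟩ := exists_prime_orderOf_dvd_card' l (hQl ▸ dvd_rfl : l ∣ Nat.card Q)
    rw [Subgroup.orderOf_mk] at ht
    rcases hcov t ⟨l, hl, hl3, ht ▸ dvd_rfl, g⟩ with ⟨u, y, ⟨hy, -⟩, e⟩ | ⟨u, y, ⟨hy, -⟩, e⟩
    · have hlA : l ∣ Nat.card A := by
        rw [← ht, ← e, orderOf_conj' hθ]; exact Subgroup.orderOf_dvd_natCard _ hy
      obtain ⟨x, hx⟩ := main A (hA.comm hθ hq8).1 hlA (Or.inr (Or.inr g))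
        (fun A₀ h h' => hA.normalizer_sub hθ hq8 h h')
      exact ⟨_, Or.inr (Or.inr ⟨cyclic_map x (hA.comm hθ hq8).1,
        Or.inr (Or.inr (Or.inl (by rw [card_map_conj, hcA])))⟩), hx⟩
    · have hlB : l ∣ Nat.card B := by
        rw [← ht, ← e, orderOf_conj' hθ]; exact Subgroup.orderOf_dvd_natCard _ hy
      obtain ⟨x, hx⟩ := main B (hB.comm hθ hq8).1 hlB (Or.inr (Or.inr g))
        (fun B₀ h h' => hB.normalizer_sub hθ hq8 h h')
      exact ⟨_, Or.inr (Or.inr ⟨cyclic_map x (hB.comm hθ hq8).1,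
        Or.inr (Or.inr (Or.inr (by rw [card_map_conj, hcB])))⟩), hx⟩

theorem card_eight : ∃ o : ℕ, o % 2 = 1 ∧ Nat.card ↥(fixG θ) = 8 * o := by
  obtain ⟨k, hk, hkodd⟩ := half_pred_odd hθ hq8
  refine ⟨Fintype.card K ^ 3 * (k * (kA K * nq K)), ?_, ?_⟩
  · have hN : nq K % 2 = 1 := by
      have := not_two_dvd_nq (K := K)
      omega
    simp [Nat.mul_mod, Nat.pow_mod, hkodd, kA_odd hq8, hN, show Fintype.card K % 2 = 1 by omega]
  · rw [card_eq hθ, hk, four_kA hq8]; ring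

theorem local_two (hq : 3 < Fintype.card K) {r : ℕ} {Q : Subgroup ↥(fixG θ)} (h4 : 4 ≤ Nat.card Q)
    (hexp : ∀ x ∈ Q, x ^ 2 = 1) :
    ∃ A : Subgroup ↥(fixG θ), IsLocal r A ∧
      Subgroup.normalizer (Q : Set ↥(fixG θ)) ≤ Subgroup.normalizer (A : Set ↥(fixG θ)) := by
  classical
  haveI : Fact (Nat.Prime 2) := ⟨Nat.prime_two⟩
  obtain ⟨o, ho, hG⟩ := card_eight hθ hq8
  have hp : IsPGroup 2 Q := fun x => ⟨1, Subtype.ext (by simpa using hexp x x.2)⟩
  obtain ⟨e, he⟩ := (IsPGroup.iff_card (p := 2) (G := Q)).1 hp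
  have h8 : Nat.card Q ∣ 8 := by
    refine Nat.Coprime.dvd_of_dvd_mul_right ?_ (hG ▸ Subgroup.card_subgroup_dvd_card Q)
    rw [he]
    exact (Nat.coprime_two_left.2 (Nat.odd_iff.2 ho)).pow_left e
  have hle := Nat.le_of_dvd (by norm_num) h8
  rcases (show Nat.card Q = 4 ∨ Nat.card Q = 8 by
    obtain ⟨j, hj, hj'⟩ := (Nat.dvd_prime_pow Nat.prime_two).1 (show Nat.card Q ∣ 2 ^ 3 from h8)
    interval_cases j <;> omega) with hc | hc
  · -- four groups
    obtain ⟨⟨z, hz⟩, hz1⟩ := Subgroup.ne_bot_iff_exists_ne_one.1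
      (show Q ≠ ⊥ from fun h => by rw [h, Subgroup.card_bot] at hc; omega)
    have hz1' : z ≠ 1 := fun e => hz1 (Subtype.ext e)
    obtain ⟨g, hg⟩ := invol_conj hθ hz1' (by rw [← pow_two]; exact hexp z hz)
    set Q' := Q.map (MulAut.conj g⁻¹).toMonoidHom with hQ'
    have ha0 : a0 hθ ∈ Q' := ⟨z, hz, by rw [← hg]; simp [mul_assoc]⟩
    have hexp' : ∀ x ∈ Q', x * x = 1 := by
      rintro _ ⟨x, hx, rfl⟩
      rw [← map_mul, ← pow_two, hexp x hx, map_one]
    have hcQ' : Nat.card Q' = 4 := by rw [hQ', card_map_conj, hc]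
    obtain ⟨u, hu, hu1, hua⟩ : ∃ u ∈ Q', u ≠ 1 ∧ u ≠ a0 hθ := by
      by_contra hne
      push Not at hne
      have hs : (Finset.univ.filter (· ∈ Q') : Finset ↥(fixG θ)) ⊆ {1, a0 hθ} := by
        intro u hu
        simp only [Finset.mem_filter, Finset.mem_univ, true_and] at hu
        simp only [Finset.mem_insert, Finset.mem_singleton]
        by_cases h : u = 1
        · exact Or.inl h
        · exact Or.inr (hne u hu h)
      have h' := (Finset.card_le_card hs).trans Finset.card_le_two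
      rw [Nat.card_eq_fintype_card, Fintype.card_subtype] at hcQ'
      omega
    have hcomm : ∀ a ∈ Q', ∀ b ∈ Q', a * b = b * a := fun a ha b hb => by
      have h1 := hexp' _ (mul_mem ha hb)
      calc a * b = (a * b)⁻¹ := (inv_eq_of_mul_eq_one_right h1).symm
        _ = b⁻¹ * a⁻¹ := mul_inv_rev a b
        _ = b * a := by rw [inv_eq_of_mul_eq_one_right (hexp' a ha), inv_eq_of_mul_eq_one_right (hexp' b hb)]
    obtain ⟨c, hca, hcu⟩ := invol_in_C0 hθ hq8 (hcomm u hu _ ha0) (hexp' u hu) hu1 hua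
    set Q'' := Q'.map (MulAut.conj c).toMonoidHom with hQ''
    have hVQ : VV hθ = Q'' := by
      have h0 : a0 hθ ∈ Q'' := ⟨_, ha0, by show c * a0 hθ * c⁻¹ = a0 hθ; rw [hca, mul_inv_cancel_right]⟩
      have h1 : c * u * c⁻¹ ∈ Q'' := ⟨u, hu, rfl⟩
      have hW : lamG hθ wS ∈ Q'' := by
        rcases hcu with e | e <;> rw [e] at h1
        · exact h1
        · have := mul_mem h0 h1
          rwa [← mul_assoc, a0_sq, one_mul] at this
      refine Subgroup.eq_of_le_of_card_ge ?_ (by rw [hQ'', card_map_conj, hcQ', card_VV hθ hq8])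
      intro x hx
      rcases (mem_VV hθ hq8).1 hx with rfl | rfl | rfl | rfl
      exacts [one_mem _, h0, hW, mul_mem h0 hW]
    have hA1 : A2 hθ ≠ ⊥ := fun e => by
      have := card_A2 hθ hq8
      have := four_kA hq8
      rw [e, Subgroup.card_bot] at *
      omega
    refine ⟨((A2 hθ).map (MulAut.conj c⁻¹).toMonoidHom).map (MulAut.conj g).toMonoidHom,
      Or.inr (Or.inr ⟨cyclic_map g (cyclic_map c⁻¹ (A2_cyclic hθ hq8)),
        Or.inr (Or.inl (by rw [card_map_conj, card_map_conj, card_A2 hθ hq8]; rfl))⟩), fun n hn => ?_⟩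
    refine mem_normalizer_map (mem_normalizer_map ?_)
    rw [normalizer_A2_sub hθ hq8 le_rfl hA1, hVQ, hQ'']
    refine mem_normalizer_map ?_
    rw [show c⁻¹ * (c⁻¹⁻¹ * (g⁻¹ * n * g) * c⁻¹) * c = g⁻¹ * n * g by group, hQ']
    refine mem_normalizer_map ?_
    rwa [show g⁻¹⁻¹ * (g⁻¹ * n * g) * g⁻¹ = n by group]
  · have hi : ¬ 2 ∣ Q.index := by
      have h := Q.card_mul_index
      rw [hc, hG] at h
      omega
    exact ⟨Q, Or.inl ⟨hp.toSylow hi, rfl⟩, le_rfl⟩

theorem solvable_local (hq : 3 < Fintype.card K) {r : ℕ} (hr : r * r = 3 * Fintype.card K)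
    (S : Subgroup ↥(fixG θ)) (hS : Group.IsSolvable S) :
    ∃ A : Subgroup ↥(fixG θ), S ≤ Subgroup.normalizer (A : Set ↥(fixG θ)) ∧ IsLocal r A := by
  classical
  haveI : Fact (Nat.Prime 2) := ⟨Nat.prime_two⟩
  haveI := hS
  by_cases hsmall : Nat.card S ≤ 2
  · have hp : IsPGroup 2 S := by
      have := Nat.card_pos (α := S)
      rcases (show Nat.card S = 2 ^ 0 ∨ Nat.card S = 2 ^ 1 by omega) with h | h <;> exact IsPGroup.of_card h
    obtain ⟨P, hP⟩ := hp.exists_le_sylow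
    exact ⟨P, hP.trans Subgroup.le_normalizer, Or.inl ⟨P, rfl⟩⟩
  haveI : Nontrivial S := Finite.one_lt_card_iff_nontrivial.1 (by omega)
  obtain ⟨l, W, hl, hW, hW1, hWl, hW4⟩ := exists_good_normal (G := S)
    (fun x hx => Subtype.ext (two_elem hθ hq8 (k := 2) (congrArg Subtype.val hx))) (by omega)
  set Q := W.map S.subtype
  have hQ1 : Q ≠ ⊥ := fun h => hW1 ((Subgroup.map_eq_bot_iff_of_injective W S.subtype_injective).1 h)
  have hexp : ∀ x ∈ Q, x ^ l = 1 := by
    rintro _ ⟨x, hx, rfl⟩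
    rw [← map_pow, hWl x hx, map_one]
  have hSQ : S ≤ Subgroup.normalizer (Q : Set ↥(fixG θ)) := fun s hs => by
    refine mem_normalizer_of_conj fun x hx => ?_
    obtain ⟨w, hw, rfl⟩ := hx
    exact ⟨_, hW.conj_mem w hw ⟨s, hs⟩, rfl⟩
  have hl2 := hl.two_le
  rcases (show l = 2 ∨ l = 3 ∨ 3 < l by omega) with rfl | rfl | h
  · obtain ⟨A, hA, hle⟩ := local_two hθ hq8 hq (r := r)
      (by rw [Subgroup.card_map_of_injective S.subtype_injective]; exact hW4 rfl) hexp
    exact ⟨A, hSQ.trans hle, hA⟩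
  · obtain ⟨P, hle⟩ := local_three hθ hq8 hQ1 hexp
    exact ⟨P, hSQ.trans hle, Or.inr (Or.inl ⟨P, rfl⟩)⟩
  · obtain ⟨A, hA, hle⟩ := local_big hθ hq8 hq hr hl h hQ1 hexp
    exact ⟨A, hSQ.trans hle, hA⟩

end CfsgLib.ReeG2
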