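import Cfsg.Agent.Lib.ReeG2.Singer
import Mathlib.GroupTheory.Transfer
import Mathlib.GroupTheory.Abelianization.Defs

/-!
The smallest Ree group: its derived subgroup is simple of order 504.
-/

set_option autoImplicit false
set_option linter.unusedSectionVars false

namespace CfsgLib.ReeG2

open Cfsg.Lie CfsgLib.Chev
open scoped Matrix MatrixGroups Pointwise commutatorElement

variable {K : Type*} [Field K] [Fintype K] [CharP K 3] {θ : K ≃+* K}
variable (hθ : IsRee θ) (hid : ∀ x, θ x = x) (hq3 : Fintype.card K = 3)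
include hθ hid hq3

theorem cube_self (x : K) : x ^ 3 = x := by rw [← hq3]; exact FiniteField.pow_card x

theorem unit_sq (a : Kˣ) : (a : K) * a = 1 := by
  have h := FiniteField.pow_card_sub_one_eq_one (a : K) a.ne_zero
  rw [hq3, show (3 : ℕ) - 1 = 2 from rfl, pow_two] at h
  exact h

/-- the value on B of the character -/
noncomputable def psiVal (_hθ : IsRee θ) (b : ↥(Bf θ)) : K :=
  have : Nonempty (K × K) := ⟨(0, 0)⟩
  let p := Classical.epsilon fun p : K × K =>
    ∃ (v : K) (a : Kˣ), ((b : ↥(fixG θ)) : GL chevG2.Idx K) = ru θ p.1 p.2 v * hh θ a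
  p.2 - p.1 ^ 2

theorem psiVal_eq {b : ↥(Bf θ)} {t u v : K} {a : Kˣ}
    (h : ((b : ↥(fixG θ)) : GL chevG2.Idx K) = ru θ t u v * hh θ a) : psiVal hθ b = u - t ^ 2 := by
  unfold psiVal
  have hs := Classical.epsilon_spec (p := fun p : K × K =>
    ∃ (v : K) (a : Kˣ), ((b : ↥(fixG θ)) : GL chevG2.Idx K) = ru θ p.1 p.2 v * hh θ a) ⟨(t, u), v, a, h⟩
  obtain ⟨v', a', e⟩ := hs
  obtain ⟨h1, h2, -, -⟩ := small_unique (e.symm.trans h)
  simp only [h1, h2]

/-- the character of B -/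
noncomputable def psiB : ↥(Bf θ) →* Multiplicative K where
  toFun b := Multiplicative.ofAdd (psiVal hθ b)
  map_one' := by
    rw [psiVal_eq hθ hid hq3 (t := 0) (u := 0) (v := 0) (a := 1) (by rw [ru_zero, hh_one, one_mul]; rfl)]
    simp
  map_mul' x y := by
    obtain ⟨t, u, v, a, ex⟩ := (mem_Bf hθ).1 x.2
    obtain ⟨t', u', v', a', ey⟩ := (mem_Bf hθ).1 y.2
    have e : (((x * y : ↥(Bf θ)) : ↥(fixG θ)) : GL chevG2.Idx K) =
        ru θ t u v * ru θ (bb θ a * t') (a ^ 3 * bb θ a * u') (a ^ 3 * bb θ a ^ 2 * v') * hh θ (a * a') := by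
      rw [← hh_conj_ru hθ, ← hh_mul, Subgroup.coe_mul, Subgroup.coe_mul, ex, ey]
      group
    rw [ru_mul hθ] at e
    rw [psiVal_eq hθ hid hq3 e, psiVal_eq hθ hid hq3 ex, psiVal_eq hθ hid hq3 ey, ← ofAdd_add]
    congr 1
    simp only [coe_bb, hid, cube_self hθ hid hq3]
    linear_combination (u' - t' ^ 2) * unit_sq hθ hid hq3 a - (a : K) * t * t' * three (K := K)

/-- the character of G -/
noncomputable def tau3 : ↥(fixG θ) →* Multiplicative K :=
  MonoidHom.transfer (psiB hθ hid hq3)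

theorem tau3_val : tau3 hθ hid hq3 (rg hθ 0 1 0) = Multiplicative.ofAdd 1 := by
  classical
  set x := rg hθ (0 : K) 1 0
  have hxU : x ∈ Uf θ := (mem_Uf hθ).2 ⟨0, 1, 0, rfl⟩
  have hx1 : x ≠ 1 := fun e =>
    one_ne_zero (ru_injective ((congrArg Subtype.val e).trans (ru_zero (θ := θ)).symm)).2.1
  have hx3 : x ^ 3 = 1 := Subtype.ext ((ru_cube_eq_one hθ).2 rfl)
  have hfix : ∀ c : ↥(fixG θ) ⧸ Bf θ, x • c = c → c = ((1 : ↥(fixG θ)) : ↥(fixG θ) ⧸ Bf θ) := by
    intro c hc
    obtain ⟨g, rfl⟩ := QuotientGroup.mk_surjective c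
    change ((x * g : ↥(fixG θ)) : ↥(fixG θ) ⧸ Bf θ) = (g : ↥(fixG θ) ⧸ Bf θ) at hc
    rw [eq_comm, QuotientGroup.eq] at hc
    rw [eq_comm, QuotientGroup.eq, inv_one, one_mul]
    by_contra hg'
    -- g⁻¹ x g is a 3-element of B
    have h3 : (g⁻¹ * (x * g)) ^ 3 = 1 := by
      rw [show g⁻¹ * (x * g) = g⁻¹ * x * g⁻¹⁻¹ by rw [inv_inv, mul_assoc], conj_pow, hx3, mul_one, mul_inv_cancel]
    obtain ⟨t, u, v, a, e⟩ := (mem_Bf hθ).1 hc
    have h2 : g⁻¹ * (x * g) * (g⁻¹ * (x * g)) ∈ Uf θ := by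
      refine (mem_Uf hθ).2 ?_
      refine ⟨?t1, ?t2, ?t3, ?h⟩
      case h =>
        rw [Subgroup.coe_mul, e, ← mul_assoc, mul_assoc (ru θ t u v), ru_mul_hh hθ, ← mul_assoc, mul_assoc, hh_mul,
          ru_mul hθ, show a * a = 1 from Units.ext (unit_sq hθ hid hq3 a), hh_one, mul_one]
    have hU : g⁻¹ * x * g ∈ Uf θ := by
      have h4 := mul_mem h2 h2
      rwa [show g⁻¹ * (x * g) * (g⁻¹ * (x * g)) * (g⁻¹ * (x * g) * (g⁻¹ * (x * g))) =
        (g⁻¹ * (x * g)) ^ 3 * (g⁻¹ * (x * g)) by rw [pow_succ, pow_two]; group, h3, one_mul, ← mul_assoc] at h4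
    have hm : x ∈ Uf θ ⊓ MulAut.conj g • Uf θ := ⟨hxU, by
      change x ∈ MulAut.conj g • Uf θ
      rw [Subgroup.mem_pointwise_smul_iff_inv_smul_mem, MulAut.smul_def, MulAut.conj_inv_apply]
      exact hU⟩
    rw [ti_of_not_mem hθ hg', Subgroup.mem_bot] at hm
    exact hx1 hm
  rw [tau3, MonoidHom.transfer_eq_prod_quotient_orbitRel_zpowers_quot]
  set o : ↥(fixG θ) ⧸ Bf θ := ((1 : ↥(fixG θ)) : ↥(fixG θ) ⧸ Bf θ)
  have ho : x • o = o := by
    change ((x * 1 : ↥(fixG θ)) : ↥(fixG θ) ⧸ Bf θ) = o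
    exact QuotientGroup.eq.2 (by simpa using inv_mem (Uf_le_Bf hθ hxU))
  rw [Finset.prod_eq_single (Quotient.mk'' o)]
  · set c := (Quotient.mk'' o : Quotient (MulAction.orbitRel ↥(Subgroup.zpowers x) (↥(fixG θ) ⧸ Bf θ))).out
    have hco : c = o := by
      have h := Quotient.mk_out (s := MulAction.orbitRel ↥(Subgroup.zpowers x) (↥(fixG θ) ⧸ Bf θ)) o
      obtain ⟨⟨y, hy⟩, hyc⟩ := MulAction.orbitRel_apply.1 h
      obtain ⟨k, rfl⟩ := Subgroup.mem_zpowers_iff.1 hy
      have hst : x ^ k ∈ MulAction.stabilizer ↥(fixG θ) o := zpow_mem (MulAction.mem_stabilizer_iff.2 ho) k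
      exact hyc.symm.trans hst
    have hper : Function.minimalPeriod (x • ·) c = 1 := by
      rw [hco]; exact Function.minimalPeriod_eq_one_iff_isFixedPt.2 ho
    set g := c.out
    have hg' : g ∈ Bf θ := by
      have : ((g : ↥(fixG θ)) : ↥(fixG θ) ⧸ Bf θ) = o := by rw [QuotientGroup.out_eq', hco]
      rw [eq_comm, QuotientGroup.eq, inv_one, one_mul] at this
      exact this
    have hmem : g⁻¹ * x ^ Function.minimalPeriod (x • ·) c * g ∈ Bf θ :=
      QuotientGroup.out_conj_pow_minimalPeriod_mem (Bf θ) x c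
    rw [show (⟨g⁻¹ * x ^ Function.minimalPeriod (x • ·) c * g, hmem⟩ : ↥(Bf θ)) =
      ⟨g, hg'⟩⁻¹ * ⟨x, Uf_le_Bf hθ hxU⟩ * ⟨g, hg'⟩ from Subtype.ext (show g⁻¹ * x ^ Function.minimalPeriod (x • ·) c * g = g⁻¹ * x * g by rw [hper, pow_one]),
      map_mul, map_mul, map_inv, mul_comm (_ : Multiplicative K)⁻¹, inv_mul_cancel_right]
    show Multiplicative.ofAdd (psiVal hθ _) = _
    rw [psiVal_eq hθ hid hq3 (t := 0) (u := 1) (v := 0) (a := 1) (by rw [hh_one, mul_one]; rfl)]
    simp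
  · intro b _ hb
    have hdvd : Function.minimalPeriod (x • ·) b.out ∣ 3 := by
      apply Function.IsPeriodicPt.minimalPeriod_dvd
      show (x • ·)^[3] b.out = b.out
      rw [smul_iterate, hx3]
      exact one_smul _ _
    rcases (Nat.dvd_prime Nat.prime_three).1 hdvd with h | h
    · exfalso
      refine hb ?_
      rw [← Quotient.out_eq' b, hfix _ (Function.minimalPeriod_eq_one_iff_isFixedPt.1 h)]
    · convert map_one (psiB hθ hid hq3)
      rw [Subtype.ext_iff]
      simp [h, hx3]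
  · simp

/-- the kernel -/
noncomputable def M3 : Subgroup ↥(fixG θ) := (tau3 hθ hid hq3).ker

theorem pow_three_eq (y : Multiplicative K) : y ^ 3 = 1 := by
  apply Multiplicative.toAdd.injective
  rw [toAdd_pow, toAdd_one, nsmul_eq_mul]
  push_cast
  rw [three (K := K), zero_mul]

theorem mem_M3 {x : ↥(fixG θ)} {n : ℕ} (h : x ^ n = 1) (h3 : ¬ 3 ∣ n) : x ∈ M3 hθ hid hq3 := by
  rw [M3, MonoidHom.mem_ker]
  have h1 := orderOf_dvd_of_pow_eq_one (pow_three_eq hθ hid hq3 (tau3 hθ hid hq3 x))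
  have h2 := orderOf_dvd_of_pow_eq_one (show tau3 hθ hid hq3 x ^ n = 1 by rw [← map_pow, h, map_one])
  exact orderOf_eq_one_iff.1 (Nat.eq_one_of_dvd_coprimes ((Nat.Prime.coprime_iff_not_dvd Nat.prime_three).2 h3) h1 h2)

theorem hq8' : Fintype.card K % 8 = 3 := by rw [hq3]

theorem nq_three : nq K = 7 := by rw [nq, hq3]

theorem card_fix_three : Nat.card ↥(fixG θ) = 1512 := by
  rw [card_eq hθ, nq_three hθ hid hq3, hq3]
  norm_num

theorem card_M3 : Nat.card ↥(M3 hθ hid hq3) = 504 := by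
  have hidx : (M3 hθ hid hq3).index = 3 := by
    haveI : Fact (Nat.Prime 3) := ⟨Nat.prime_three⟩
    have hcard : Nat.card (Multiplicative K) = 3 := by
      rw [Nat.card_congr Multiplicative.toAdd, Nat.card_eq_fintype_card, hq3]
    rw [M3, Subgroup.index_ker]
    have hd : Nat.card ↥(tau3 hθ hid hq3).range ∣ 3 := hcard ▸ Subgroup.card_subgroup_dvd_card _
    rcases (Nat.dvd_prime Nat.prime_three).1 hd with h | h
    · exfalso
      have h1 : (tau3 hθ hid hq3).range = ⊥ := Subgroup.card_eq_one.1 h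
      have h2 : Multiplicative.ofAdd (1 : K) ∈ (tau3 hθ hid hq3).range := ⟨_, tau3_val hθ hid hq3⟩
      rw [h1, Subgroup.mem_bot, ← ofAdd_zero] at h2
      exact one_ne_zero (Multiplicative.ofAdd.injective h2)
    · exact h
  have h := (M3 hθ hid hq3).card_mul_index
  rw [hidx, card_fix_three hθ hid hq3] at h
  omega

theorem singer_seven {z : ↥(fixG θ)} (hz : orderOf z = 7) :
    IsSinger (Subgroup.centralizer ({z} : Set ↥(fixG θ))) ∧
      Nat.card ↥(Subgroup.centralizer ({z} : Set ↥(fixG θ))) = 7 := by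
  have hS : IsSinger (Subgroup.centralizer ({z} : Set ↥(fixG θ))) :=
    ⟨7, z, by norm_num, by rw [nq_three hθ hid hq3], hz, rfl⟩
  refine ⟨hS, Nat.dvd_antisymm ?_ ?_⟩
  · have := hS.card_dvd hθ (hq8' hθ hid hq3)
    rwa [nq_three hθ hid hq3] at this
  · exact hz ▸ Subgroup.orderOf_dvd_natCard _ (Subgroup.mem_centralizer_singleton_iff.2 rfl)

/-- fixed point free action of an element of order seven -/
theorem mod_seven {z : ↥(fixG θ)} (hz : orderOf z = 7) (Q : Subgroup ↥(fixG θ))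
    (hQ : ∀ x ∈ Q, z * x * z⁻¹ ∈ Q) (h7 : ¬ 7 ∣ Nat.card ↥Q) : Nat.card ↥Q % 7 = 1 := by
  classical
  haveI : Fact (Nat.Prime 7) := ⟨by norm_num⟩
  have hzN : z ∈ Subgroup.normalizer (Q : Set ↥(fixG θ)) := mem_normalizer_of_conj hQ
  let φ : ↥(Subgroup.zpowers z) →* MulAut ↥Q :=
    (Q.normalizerMonoidHom).comp (Subgroup.inclusion (Subgroup.zpowers_le.2 hzN))
  let _ : MulAction ↥(Subgroup.zpowers z) ↥Q := MulAction.compHom _ φ
  have hfix : MulAction.fixedPoints ↥(Subgroup.zpowers z) ↥Q = {1} := by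
    ext ⟨x, hx⟩
    rw [MulAction.mem_fixedPoints, Set.mem_singleton_iff]
    constructor
    · intro h
      have h1 : z * x * z⁻¹ = x := congrArg Subtype.val (h ⟨z, Subgroup.mem_zpowers z⟩)
      have hxz : x ∈ Subgroup.centralizer ({z} : Set ↥(fixG θ)) :=
        Subgroup.mem_centralizer_singleton_iff.2 (mul_inv_eq_iff_eq_mul.1 h1).symm
      have h2 := Subgroup.orderOf_dvd_natCard _ hxz
      rw [(singer_seven hθ hid hq3 hz).2] at h2
      have h3 := Subgroup.orderOf_dvd_natCard Q hx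
      exact Subtype.ext (orderOf_eq_one_iff.1 (Nat.eq_one_of_dvd_coprimes
        ((Nat.Prime.coprime_iff_not_dvd (by norm_num)).2 h7) h2 h3))
    · intro h g
      rw [h]
      exact map_one (φ g)
  have hp : IsPGroup 7 ↥(Subgroup.zpowers z) :=
    IsPGroup.of_card (n := 1) (by rw [Nat.card_zpowers, hz, pow_one])
  have h := hp.card_modEq_card_fixedPoints (α := ↥Q)
  rw [hfix] at h
  simpa [Nat.ModEq] using h

theorem M3_simple : IsSimpleGroup ↥(M3 hθ hid hq3) := by
  classical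
  have hq8 := hq8' hθ hid hq3
  set M := M3 hθ hid hq3
  have hM := card_M3 hθ hid hq3
  haveI : Fact (Nat.Prime 7) := ⟨by norm_num⟩
  haveI : Fact (Nat.Prime 2) := ⟨Nat.prime_two⟩
  haveI : Fact (Nat.Prime 3) := ⟨Nat.prime_three⟩
  haveI : Nontrivial ↥M := Finite.one_lt_card_iff_nontrivial.1 (by rw [hM]; norm_num)
  have hinv : ∀ x : ↥(fixG θ), x * x = 1 → x ∈ M := fun x hx =>
    mem_M3 hθ hid hq3 (n := 2) (by rw [pow_two, hx]) (by norm_num)
  obtain ⟨z, hz⟩ := exists_prime_orderOf_dvd_card' (G := ↥(fixG θ)) 7 (by rw [card_fix_three hθ hid hq3]; norm_num)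
  have hzM : z ∈ M := mem_M3 hθ hid hq3 (n := 7) (hz ▸ pow_orderOf_eq_one z) (by norm_num)
  refine ⟨fun N hN => ?_⟩
  set N' := N.map M.subtype
  have hcardN : Nat.card ↥N' = Nat.card ↥N := Subgroup.card_map_of_injective M.subtype_injective
  have hd : Nat.card ↥N' ∣ 504 := by rw [hcardN, ← hM]; exact Subgroup.card_subgroup_dvd_card N
  have hnorm : ∀ g ∈ M, ∀ x ∈ N', g * x * g⁻¹ ∈ N' := by
    rintro g hg' _ ⟨x, hx, rfl⟩
    exact ⟨_, hN.conj_mem x hx ⟨g, hg'⟩, rfl⟩
  by_cases h7 : 7 ∣ Nat.card ↥N'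
  · -- contains all elements of order seven
    have hidx : ¬ 7 ∣ N.index := by
      intro h
      have h49 : 7 * 7 ∣ 504 := by
        rw [← hM, ← N.card_mul_index]; exact mul_dvd_mul (hcardN ▸ h7) h
      norm_num at h49
    have h7N : ∀ x : ↥(fixG θ), orderOf x = 7 → x ∈ N' := by
      intro x hx
      have hxM : x ∈ M := mem_M3 hθ hid hq3 (n := 7) (hx ▸ pow_orderOf_eq_one x) (by norm_num)
      obtain ⟨g, hg'⟩ := exists_conj_mem N hidx (x := (⟨x, hxM⟩ : ↥M)) (by rw [Subgroup.orderOf_mk, hx])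
      have := hN.conj_mem _ hg' g
      rw [show g * (g⁻¹ * ⟨x, hxM⟩ * g) * g⁻¹ = (⟨x, hxM⟩ : ↥M) by group] at this
      exact ⟨_, this, rfl⟩
    have hsub : {x : ↥(fixG θ) | HasBig (nq K) x} ⊆ (N' : Set ↥(fixG θ)) := by
      intro x hx
      obtain ⟨A, hA, hxA, hx1⟩ := rest_mem hθ hq8 hx
      refine h7N x ?_
      have h := (Subgroup.orderOf_dvd_natCard A hxA).trans (hA.card_dvd hθ hq8)
      rw [nq_three hθ hid hq3] at h
      exact ((Nat.dvd_prime (by norm_num)).1 h).resolve_left fun e => hx1 (orderOf_eq_one_iff.1 e)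
    have hR := card_rest hθ hq8
    rw [nq_three hθ hid hq3, card_fix_three hθ hid hq3, hq3, Nat.card_coe_set_eq] at hR
    have hins : (insert (1 : ↥(fixG θ)) {x : ↥(fixG θ) | HasBig (nq K) x}).ncard ≤ Nat.card ↥N' :=
      (Set.ncard_le_ncard (Set.insert_subset (one_mem _) hsub)).trans_eq
        (Nat.card_coe_set_eq (N' : Set ↥(fixG θ))).symm
    rw [Set.ncard_insert_of_notMem (by
      rintro ⟨l, hl, -, h, -⟩
      rw [orderOf_one, Nat.dvd_one] at h
      exact hl.ne_one h), nq_three hθ hid hq3] at hins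
    have hbig : Nat.card ↥N' = 252 ∨ Nat.card ↥N' = 504 := by
      obtain ⟨k, hk⟩ := hd
      have hk2 : k ≤ 2 := by nlinarith
      interval_cases k <;> omega
    rcases hbig with h | h
    · exfalso
      have hN2 : N.index = 2 := by
        have := N.card_mul_index
        rw [← hcardN, h, hM] at this
        omega
      -- an element of order seven normalising E0
      obtain ⟨⟨w, hwN⟩, hw⟩ := exists_prime_orderOf_dvd_card'
        (G := ↥(Subgroup.normalizer (E0 hθ : Set ↥(fixG θ)))) 7 (by rw [card_normalizer_E0 hθ hq8]; norm_num)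
      rw [Subgroup.orderOf_mk] at hw
      have hwM : w ∈ M := mem_M3 hθ hid hq3 (n := 7) (hw ▸ pow_orderOf_eq_one w) (by norm_num)
      have hEM : ∀ y ∈ E0 hθ, y ∈ M := fun y hy => hinv y (E0_sq hθ hy)
      let f : ↥(Subgroup.zpowers w) → {p : ↥(E0 hθ) // p ≠ 1} := fun x =>
        ⟨⟨x * a0 hθ * (x : ↥(fixG θ))⁻¹, (Subgroup.mem_normalizer_iff.1
          ((Subgroup.zpowers_le.2 hwN : Subgroup.zpowers w ≤ _) x.2) _).1 (a0_mem hθ)⟩,
          fun e => a0_ne_one hθ (conj_eq_one_iff.1 (congrArg Subtype.val e))⟩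
      have hfi : Function.Injective f := by
        intro x y hxy
        have e : (x : ↥(fixG θ)) * a0 hθ * (x : ↥(fixG θ))⁻¹ = y * a0 hθ * (y : ↥(fixG θ))⁻¹ :=
          congrArg (fun p : {p : ↥(E0 hθ) // p ≠ 1} => ((p : ↥(E0 hθ)) : ↥(fixG θ))) hxy
        have hc : (y : ↥(fixG θ))⁻¹ * x ∈ Subgroup.centralizer ({a0 hθ} : Set ↥(fixG θ)) := by
          rw [Subgroup.mem_centralizer_singleton_iff]
          calc (y : ↥(fixG θ))⁻¹ * x * a0 hθ = (y : ↥(fixG θ))⁻¹ * (x * a0 hθ * (x : ↥(fixG θ))⁻¹) * x := by group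
            _ = (y : ↥(fixG θ))⁻¹ * (y * a0 hθ * (y : ↥(fixG θ))⁻¹) * x := by rw [e]
            _ = _ := by group
        have h1 := Subgroup.orderOf_dvd_natCard _ hc
        rw [card_cent_a0 hθ, hq3] at h1
        have h2 := Subgroup.orderOf_dvd_natCard (Subgroup.zpowers w) (mul_mem (inv_mem y.2) x.2)
        rw [Nat.card_zpowers, hw] at h2
        exact Subtype.ext (inv_mul_eq_one.1 (orderOf_eq_one_iff.1
          (Nat.eq_one_of_dvd_coprimes (by norm_num) h1 h2))).symm
      have hfb : Function.Bijective f := (Nat.bijective_iff_injective_and_card f).2 ⟨hfi, by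
        haveI := Fintype.ofFinite ↥(E0 hθ)
        rw [Nat.card_zpowers, hw, Nat.card_eq_fintype_card, Fintype.card_subtype_compl, Fintype.card_subtype_eq,
          ← Nat.card_eq_fintype_card, card_E0]⟩
      have hall : ∀ y ∈ E0 hθ, y ≠ 1 → (y ∈ N' ↔ a0 hθ ∈ N') := by
        intro y hy hy1
        obtain ⟨⟨x, hx⟩, hxy⟩ := hfb.2 ⟨⟨y, hy⟩, fun e => hy1 (congrArg Subtype.val e)⟩
        have e : x * a0 hθ * x⁻¹ = y :=
          congrArg (fun p : {p : ↥(E0 hθ) // p ≠ 1} => ((p : ↥(E0 hθ)) : ↥(fixG θ))) hxy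
        have hxM : x ∈ M := Subgroup.zpowers_le.2 hwM hx
        refine ⟨fun hm => ?_, fun hm => e ▸ hnorm x hxM _ hm⟩
        have := hnorm x⁻¹ (inv_mem hxM) _ hm
        rwa [inv_inv, ← e, show x⁻¹ * (x * a0 hθ * x⁻¹) * x = a0 hθ by group] at this
      have ha : a0 hθ ∈ N' := by
        by_contra ha
        have hW : lamG hθ wS ∉ N' := fun hm => ha ((hall _ (W_mem hθ) (W_ne_one hθ hq8)).1 hm)
        have hne : a0 hθ * lamG hθ wS ≠ 1 := fun e => a0_ne_lamG hθ wS (by
          rw [eq_inv_of_mul_eq_one_left e, inv_eq_of_mul_eq_one_right (invol_W hθ)])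
        have hnot : a0 hθ * lamG hθ wS ∉ N' :=
          fun hm => ha ((hall _ (mul_mem (a0_mem hθ) (W_mem hθ)) hne).1 hm)
        have hmem : ∀ (y : ↥(fixG θ)) (hy : y ∈ M), y ∈ N' ↔ (⟨y, hy⟩ : ↥M) ∈ N := fun y hy =>
          ⟨fun ⟨x, hx, e⟩ => (show x = ⟨y, hy⟩ from Subtype.ext e) ▸ hx, fun h => ⟨_, h, rfl⟩⟩
        rw [hmem _ (hEM _ (a0_mem hθ))] at ha
        rw [hmem _ (hEM _ (W_mem hθ))] at hW
        rw [hmem _ (hEM _ (mul_mem (a0_mem hθ) (W_mem hθ)))] at hnot
        exact hnot ((Subgroup.mul_mem_iff_of_index_two hN2).2 (iff_of_false ha hW))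
      have hle : E0 hθ ≤ N' := fun y hy => by
        by_cases hy1 : y = 1
        · rw [hy1]; exact one_mem _
        · exact (hall y hy hy1).2 ha
      have := Subgroup.card_dvd_of_le hle
      rw [card_E0, h] at this
      norm_num at this
    · right
      exact Subgroup.eq_top_of_card_eq _ (by rw [← hcardN, h, hM])
  · -- prime to seven
    left
    have hmod := mod_seven hθ hid hq3 hz N' (hnorm z hzM) h7
    have hpos : 0 < Nat.card ↥N' := Nat.card_pos
    have hd72 : Nat.card ↥N' ∣ 72 :=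
      ((Nat.Prime.coprime_iff_not_dvd (by norm_num)).2 h7).symm.dvd_of_dvd_mul_left (show _ ∣ 7 * 72 by simpa using hd)
    have hle72 := Nat.le_of_dvd (by norm_num) hd72
    have hcases : Nat.card ↥N' = 1 ∨ Nat.card ↥N' = 8 ∨ Nat.card ↥N' = 36 := by
      generalize Nat.card ↥N' = n at hmod hpos hd72 hle72
      interval_cases n <;> omega
    rcases hcases with h | h | h
    · exact Subgroup.card_eq_one.1 (by rw [← hcardN, h])
    · exfalso
      let S : Sylow 2 ↥(fixG θ) := (IsPGroup.of_card (n := 3) (by rw [h]; norm_num)).toSylow (by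
        intro hd2
        have h1 := N'.card_mul_index
        rw [h, card_fix_three hθ hid hq3] at h1
        omega)
      have hle : M ≤ Subgroup.normalizer ((S : Subgroup ↥(fixG θ)) : Set ↥(fixG θ)) :=
        fun g hg' => mem_normalizer_of_conj (hnorm g hg')
      have := Subgroup.card_dvd_of_le hle
      rw [sylow_two_normalizer hθ hq8 S, hM] at this
      norm_num at this
    · exfalso
      have hzN : z ∈ Subgroup.normalizer (N' : Set ↥(fixG θ)) := mem_normalizer_of_conj (hnorm z hzM)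
      let φ : ↥(Subgroup.zpowers z) →* MulAut ↥N' :=
        (N'.normalizerMonoidHom).comp (Subgroup.inclusion (Subgroup.zpowers_le.2 hzN))
      let _ : MulDistribMulAction ↥(Subgroup.zpowers z) ↥N' := MulDistribMulAction.compHom _ φ
      obtain ⟨Q0⟩ : Nonempty (Sylow 3 ↥N') := inferInstance
      have hQ0 : Nat.card ↥(Q0 : Subgroup ↥N') = 9 := by
        obtain ⟨k, hk⟩ := IsPGroup.iff_card.1 Q0.isPGroup'
        have h9 : 3 ^ 2 ∣ Nat.card ↥(Q0 : Subgroup ↥N') := Q0.pow_dvd_card_of_pow_dvd_card (by rw [h]; norm_num)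
        have h36 : Nat.card ↥(Q0 : Subgroup ↥N') ∣ 36 := h ▸ Subgroup.card_subgroup_dvd_card _
        rw [hk] at h9 h36 ⊢
        have hk2 : 2 ≤ k := (Nat.pow_dvd_pow_iff_le_right (by norm_num)).1 h9
        have hk3 : k ≤ 2 := by
          by_contra hlt
          push Not at hlt
          have := (pow_dvd_pow 3 hlt).trans h36
          norm_num at this
        rw [show k = 2 by omega]
        norm_num
      have hn4 : ¬ 7 ∣ Nat.card (Sylow 3 ↥N') := by
        have h4 : Nat.card (Sylow 3 ↥N') ∣ 4 := by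
          have hi := (Q0 : Subgroup ↥N').card_mul_index
          rw [hQ0, h] at hi
          exact (show (Q0 : Subgroup ↥N').index = 4 by omega) ▸ Q0.card_dvd_index
        intro h'
        have := h'.trans h4
        norm_num at this
      obtain ⟨Q, hQ⟩ := (IsPGroup.of_card (G := ↥(Subgroup.zpowers z)) (p := 7) (n := 1)
        (by rw [Nat.card_zpowers, hz, pow_one])).nonempty_fixed_point_of_prime_not_dvd_card (Sylow 3 ↥N') hn4
      have hQ9 : Nat.card ↥(Q : Subgroup ↥N') = 9 := (Nat.card_congr (Sylow.equiv Q Q0).toEquiv).trans hQ0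
      set Q' := (Q : Subgroup ↥N').map N'.subtype
      have hQ' : Nat.card ↥Q' = 9 := by rw [Subgroup.card_map_of_injective N'.subtype_injective, hQ9]
      have hmod' := mod_seven hθ hid hq3 hz Q' (by
        rintro _ ⟨x, hx, rfl⟩
        have hfix := hQ ⟨z, Subgroup.mem_zpowers z⟩
        have hm : φ ⟨z, Subgroup.mem_zpowers z⟩ x ∈ (Q : Subgroup ↥N') := by
          have hh' := Subgroup.smul_mem_pointwise_smul x (⟨z, Subgroup.mem_zpowers z⟩ : ↥(Subgroup.zpowers z))
            (Q : Subgroup ↥N') hx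
          rw [← Sylow.pointwise_smul_def, hfix] at hh'
          exact hh'
        exact ⟨_, hm, rfl⟩) (by rw [hQ']; norm_num)
      rw [hQ'] at hmod'
      norm_num at hmod'

theorem commutator_eq_M3 : commutator ↥(fixG θ) = M3 hθ hid hq3 := by
  haveI := M3_simple hθ hid hq3
  set M := M3 hθ hid hq3
  have hle : commutator ↥(fixG θ) ≤ M := Abelianization.commutator_subset_ker (tau3 hθ hid hq3)
  rcases ((inferInstance : (commutator ↥(fixG θ)).Normal).subgroupOf M).eq_bot_or_eq_top with h | h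
  · exfalso
    have hbot : commutator ↥(fixG θ) = ⊥ := by
      rw [eq_bot_iff]
      intro x hx
      have : (⟨x, hle hx⟩ : ↥M) ∈ (commutator ↥(fixG θ)).subgroupOf M := Subgroup.mem_subgroupOf.2 hx
      rw [h, Subgroup.mem_bot] at this
      exact congrArg Subtype.val this
    have hcm : ∀ x y : ↥(fixG θ), x * y = y * x := fun x y => by
      have hm : ⁅x, y⁆ ∈ commutator ↥(fixG θ) := by
        rw [commutator_def]; exact Subgroup.commutator_mem_commutator (Subgroup.mem_top x) (Subgroup.mem_top y)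
      rw [hbot, Subgroup.mem_bot] at hm
      exact commutatorElement_eq_one_iff_mul_comm.1 hm
    exact W_ne_one hθ (hq8' hθ hid hq3) (by
      have h1 := hcm (lamG hθ jS) (lamG hθ cS)
      have h2 : lamG hθ cS * lamG hθ wS = lamG hθ jS * lamG hθ cS := by rw [← map_mul, cS_mul_wS, map_mul]
      have h3 : lamG hθ cS * lamG hθ jS = lamG hθ wS * lamG hθ jS * lamG hθ cS := by
        rw [← map_mul, cS_mul_jS, map_mul, map_mul]
      rw [h1] at h2
      have h4 := hcm (lamG hθ cS) (lamG hθ jS)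
      rw [h3, mul_assoc] at h4
      exact mul_eq_right.1 h4)
  · refine le_antisymm hle fun x hx => ?_
    have : (⟨x, hx⟩ : ↥M) ∈ (commutator ↥(fixG θ)).subgroupOf M := by rw [h]; trivial
    exact Subgroup.mem_subgroupOf.1 this

end CfsgLib.ReeG2
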