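import Cfsg.Agent.Lib.ReeG2.Model
import Cfsg.Agent.Lib.ReeG2.Struct

/-!
`²G₂(q)` is generated by a torus generator and one element of the big cell.
-/

set_option autoImplicit false

namespace CfsgLib.ReeG2

open Cfsg.Lie CfsgLib.Chev

variable {K : Type*} [Field K] [CharP K 3] [Fintype K] {θ : K ≃+* K}

theorem eq_top_of_big (p : AddSubgroup K) (h : Fintype.card K < 3 * Nat.card p) : p = ⊤ := by
  refine AddSubgroup.index_eq_one.1 ?_
  have h1 := AddSubgroup.card_mul_index p
  rw [Nat.card_eq_fintype_card (α := K)] at h1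
  obtain ⟨n, -, hn⟩ := FiniteField.card K 3
  have hd : p.index ∣ 3 ^ (n : ℕ) := ⟨Nat.card p, by rw [← hn, ← h1, mul_comm]⟩
  obtain ⟨k, -, hk⟩ := (Nat.dvd_prime_pow Nat.prime_three).1 hd
  rcases k with _ | k
  · simpa using hk
  · exfalso
    have h3 : 3 ≤ p.index := by
      rw [hk, pow_succ]
      exact Nat.le_mul_of_pos_left _ (Nat.pow_pos (by norm_num))
    have := Nat.mul_le_mul_left (Nat.card p) h3
    rw [h1] at this
    omega

/-- A torus stable layer is everything once it contains a non-zero element. -/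
theorem layer_full (p : AddSubgroup K) (f : Kˣ →* Kˣ) (ω : Kˣ) (hω : ∀ x : Kˣ, x ∈ Subgroup.zpowers ω)
    (hp : ∀ x ∈ p, (f ω : K) * x ∈ p) {c : K} (hc : c ∈ p) (hc0 : c ≠ 0)
    (hker : Nat.card f.ker ≤ 2) : p = ⊤ := by
  classical
  have hall : ∀ a : Kˣ, (f a : K) * c ∈ p := by
    intro a
    obtain ⟨k, rfl⟩ := Submonoid.mem_powers_iff _ _ |>.1 (mem_powers_iff_mem_zpowers.2 (hω a))
    induction k with
    | zero => simpa using hc
    | succ k ih =>
      rw [pow_succ', map_mul, Units.val_mul, mul_assoc]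
      exact hp _ ih
  have hinj : Nat.card (Option f.range) ≤ Nat.card p := by
    refine Nat.card_le_card_of_injective (fun o => o.elim 0 fun y => ⟨(y.1 : K) * c, by
      obtain ⟨a, ha⟩ := y.2
      rw [← ha]
      exact hall a⟩) ?_
    rintro (_ | y) (_ | z) h
    · rfl
    · exact absurd (congrArg Subtype.val h).symm (mul_ne_zero z.1.ne_zero hc0)
    · exact absurd (congrArg Subtype.val h) (mul_ne_zero y.1.ne_zero hc0)
    · exact congrArg some (Subtype.ext (Units.ext (mul_right_cancel₀ hc0 (congrArg Subtype.val h))))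
  rw [Finite.card_option] at hinj
  refine eq_top_of_big p ?_
  have h1 := f.ker.card_mul_index
  rw [Subgroup.index_ker, Nat.card_eq_fintype_card (α := Kˣ), Fintype.card_units] at h1
  have h2 : Nat.card f.ker * Nat.card f.range ≤ 2 * Nat.card f.range := Nat.mul_le_mul_right _ hker
  omega

variable (hθ : IsRee θ)

/-- The scaling of the middle layer. -/
noncomputable def uScale (θ : K ≃+* K) : Kˣ →* Kˣ :=
  MonoidHom.mk' (fun a => a ^ 3 * bb θ a) fun a b => by
    simp only [bb, map_mul, mul_pow]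
    ac_rfl

/-- The scaling of the top layer. -/
noncomputable def vScale (θ : K ≃+* K) : Kˣ →* Kˣ :=
  MonoidHom.mk' (fun a => a ^ 3 * bb θ a ^ 2) fun a b => by
    simp only [bb, map_mul, mul_pow]
    ac_rfl

/-- The scaling of the bottom layer. -/
noncomputable def tScale (θ : K ≃+* K) : Kˣ →* Kˣ :=
  MonoidHom.mk' (fun a => bb θ a) fun a b => by
    simp only [bb, map_mul, mul_pow]

include hθ in
theorem genG_le_closure (hq : 3 < Fintype.card K) (ω : Kˣ) (hω : ∀ x : Kˣ, x ∈ Subgroup.zpowers ω) :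
    genG θ ≤ Subgroup.closure ({hh θ ω, ru θ 1 0 0 * n0 K} : Set (GL chevG2.Idx K)) := by
  classical
  set S := Subgroup.closure ({hh θ ω, ru θ 1 0 0 * n0 K} : Set (GL chevG2.Idx K)) with hS
  have hh' : hh θ ω ∈ S := Subgroup.subset_closure (Or.inl rfl)
  have hb : ru θ 1 0 0 * n0 K ∈ S := Subgroup.subset_closure (Or.inr rfl)
  have hconj : ∀ t u v, ru θ t u v ∈ S →
      ru θ (tScale θ ω * t) (uScale θ ω * u) (vScale θ ω * v) ∈ S := fun t u v h => by
    have := mul_mem (mul_mem hh' h) (inv_mem hh')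
    rw [hh_conj_ru hθ] at this
    exact this
  have hβ : (tScale θ ω : K) ≠ 1 := fun h => by
    have h1 : ω = 1 := bb_eq_one (θ := θ) (Units.ext h)
    have h2 : Nat.card Kˣ ≤ 1 := by
      rw [h1] at hω
      exact (Finite.card_le_one_iff_subsingleton).2
        ⟨fun x y => by have hx := hω x; have hy := hω y; simp at hx hy; rw [hx, hy]⟩
    rw [Nat.card_eq_fintype_card, Fintype.card_units] at h2
    omega
  -- an element of the Sylow subgroup
  obtain ⟨c, x, y, hc0, hc⟩ : ∃ c x y, c ≠ 0 ∧ ru θ c x y ∈ S := by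
    have h := mul_mem hh' (mul_mem (mul_mem hb hh') (inv_mem hb))
    rw [mul_inv_rev, show ru θ 1 0 0 * n0 K * hh θ ω * ((n0 K)⁻¹ * (ru θ 1 0 0)⁻¹) =
      ru θ 1 0 0 * (n0 K * hh θ ω * (n0 K)⁻¹) * (ru θ 1 0 0)⁻¹ by group, n0_conj_hh, ← hh_inv,
      show hh θ ω * (ru θ 1 0 0 * (hh θ ω)⁻¹ * (ru θ 1 0 0)⁻¹) =
        hh θ ω * ru θ 1 0 0 * (hh θ ω)⁻¹ * (ru θ 1 0 0)⁻¹ by group, hh_conj_ru hθ, ru_inv hθ, ru_mul hθ] at h
    refine ⟨_, _, _, ?_, h⟩
    rw [mul_one, ← sub_eq_add_neg, sub_ne_zero]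
    exact hβ
  let T : AddSubgroup K :=
    { carrier := {t | ∃ u v, ru θ t u v ∈ S}
      add_mem' := fun {a b} ⟨u, v, h⟩ ⟨u', v', h'⟩ => ⟨_, _, by rw [← ru_mul hθ]; exact mul_mem h h'⟩
      zero_mem' := ⟨0, 0, by rw [ru_zero]; exact one_mem _⟩
      neg_mem' := fun {a} ⟨u, v, h⟩ => ⟨_, _, by rw [← ru_inv hθ]; exact inv_mem h⟩ }
  have hT : T = ⊤ := layer_full T (tScale θ) ω hω (fun t ⟨u, v, h⟩ => ⟨_, _, hconj t u v h⟩)
    (show c ∈ T from ⟨x, y, hc⟩) hc0 (by
      rw [show (tScale θ).ker = ⊥ from (Subgroup.eq_bot_iff_forall _).2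
        fun a ha => bb_eq_one (θ := θ) ha, Subgroup.card_bot]
      norm_num)
  have hTm : ∀ t, ∃ u v, ru θ t u v ∈ S := fun t => (hT ▸ AddSubgroup.mem_top t : t ∈ T)
  let U₂ : AddSubgroup K :=
    { carrier := {u | ∃ v, ru θ 0 u v ∈ S}
      add_mem' := fun {a b} ⟨v, h⟩ ⟨v', h'⟩ => ⟨_, by
        have := mul_mem h h'
        rw [ru_mul hθ] at this
        simpa using this⟩
      zero_mem' := ⟨0, by rw [ru_zero]; exact one_mem _⟩
      neg_mem' := fun {a} ⟨v, h⟩ => ⟨_, by
        have := inv_mem h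
        rw [ru_inv hθ] at this
        simpa using this⟩ }
  have hU : U₂ = ⊤ := by
    obtain ⟨t, ht⟩ : ∃ t : K, θ t ^ 3 ≠ t := by
      by_contra hall
      push Not at hall
      have h1 : ∀ t : K, θ t = t := fun t => by
        have h := hall (θ t)
        rw [hθ] at h
        exact h.symm
      classical
      have h2 : (Finset.univ : Finset K) ⊆
          (Polynomial.X ^ 3 - Polynomial.X : Polynomial K).roots.toFinset := fun t _ => by
        rw [Multiset.mem_toFinset,
          Polynomial.mem_roots (FiniteField.X_pow_card_sub_X_ne_zero K (by norm_num : 1 < 3))]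
        have := hall t
        rw [h1] at this
        simp [this]
      have h3 := Finset.card_le_card h2
      have h4 := Multiset.toFinset_card_le (Polynomial.X ^ 3 - Polynomial.X : Polynomial K).roots
      have h5 := Polynomial.card_roots' (Polynomial.X ^ 3 - Polynomial.X : Polynomial K)
      rw [FiniteField.X_pow_card_sub_X_natDegree_eq K (by norm_num : 1 < 3)] at h5
      rw [Finset.card_univ] at h3
      omega
    obtain ⟨u₁, v₁, h1⟩ := hTm 1
    obtain ⟨u₂, v₂, h2⟩ := hTm t
    have h := mul_mem (mul_mem h1 h2) (inv_mem (mul_mem h2 h1))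
    rw [ru_mul hθ, ru_mul hθ, ru_inv hθ, ru_mul hθ] at h
    obtain ⟨t', u', v', h', rfl, rfl⟩ : ∃ t' u' v', ru θ t' u' v' ∈ S ∧ t' = 0 ∧ u' = t - θ t ^ 3 := by
      refine ⟨_, _, _, h, ?_, ?_⟩
      · ring
      · simp only [map_add, map_neg, map_one]
        ring
    refine layer_full U₂ (uScale θ) ω hω (fun u ⟨v, h⟩ => ⟨_, by
      have := hconj _ _ _ h
      rwa [mul_zero] at this⟩) (c := t - θ t ^ 3) ⟨v', h'⟩ (sub_ne_zero.2 (Ne.symm ht)) ?_
    · refine (Nat.card_le_card_of_injective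
        (fun a : (uScale θ).ker => decide (a.1 = 1)) fun a b e => Subtype.ext ?_).trans (le_of_eq (by simp))
      rcases scale_u hθ (MonoidHom.mem_ker.1 a.2) with ha | ha <;>
        rcases scale_u hθ (MonoidHom.mem_ker.1 b.2) with hb | hb <;> simp only [ha, hb] at e ⊢ <;> simp_all
  let V : AddSubgroup K :=
    { carrier := {v | ru θ 0 0 v ∈ S}
      add_mem' := fun {a b} h h' => by
        have := mul_mem (show ru θ 0 0 a ∈ S from h) (show ru θ 0 0 b ∈ S from h')
        rw [ru_mul hθ] at this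
        simpa using this
      zero_mem' := by show ru θ 0 0 0 ∈ S; rw [ru_zero]; exact one_mem _
      neg_mem' := fun {a} h => by
        have := inv_mem (show ru θ 0 0 a ∈ S from h)
        rw [ru_inv hθ] at this
        simpa using this }
  have hV : V = ⊤ := by
    obtain ⟨u₁, v₁, h1⟩ := hTm 1
    have h := mul_mem (mul_mem h1 h1) h1
    rw [ru_mul hθ, ru_mul hθ] at h
    refine layer_full V (vScale θ) ω hω (fun v h => ?_) (c := -1) ?_ (neg_ne_zero.2 one_ne_zero)
      (by
        rw [show (vScale θ).ker = ⊥ from (Subgroup.eq_bot_iff_forall _).2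
          fun a ha => scale_v hθ ha, Subgroup.card_bot]
        norm_num)
    · have := hconj _ _ _ h
      rwa [mul_zero, mul_zero] at this
    · show ru θ 0 0 (-1) ∈ S
      obtain ⟨t', u', v', h', rfl, rfl, rfl⟩ :
          ∃ t' u' v', ru θ t' u' v' ∈ S ∧ t' = 0 ∧ u' = 0 ∧ v' = -1 := by
        refine ⟨_, _, _, h, ?_, ?_, ?_⟩
        · linear_combination three (K := K)
        · simp only [map_one]
          linear_combination (u₁ - 1) * three (K := K)
        · simp only [map_one]
          linear_combination (v₁ - u₁) * three (K := K)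
      exact h'
  have hVm : ∀ v, ru θ 0 0 v ∈ S := fun v => (hV ▸ AddSubgroup.mem_top v : v ∈ V)
  have hru : ∀ t u v, ru θ t u v ∈ S := fun t u v => by
    obtain ⟨a, b, h⟩ := hTm t
    obtain ⟨d, hd⟩ : u - a ∈ U₂ := hU ▸ AddSubgroup.mem_top _
    have h' := mul_mem h hd
    rw [ru_mul hθ] at h'
    simp only [map_zero, add_zero, ne_eq, OfNat.ofNat_ne_zero, not_false_eq_true, zero_pow, zero_mul,
      sub_zero, add_sub_cancel] at h'
    have h'' := mul_mem h' (hVm (v - (b + d)))
    rw [ru_mul hθ] at h''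
    simp only [map_zero, add_zero, ne_eq, OfNat.ofNat_ne_zero, not_false_eq_true, zero_pow, zero_mul,
      sub_zero, add_sub_cancel] at h''
    exact h''
  have hn : n0 K ∈ S := by simpa using mul_mem (inv_mem (hru 1 0 0)) hb
  rw [genG, Subgroup.closure_le]
  rintro g ⟨t, u, v, rfl | rfl⟩
  · exact hru t u v
  · exact mul_mem (mul_mem hn (hru t u v)) (inv_mem hn)

end CfsgLib.ReeG2
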