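import Cfsg.Agent.Lib.Chev.Borel
import Cfsg.Agent.Lib.Chev.Gen.CommG2
import Cfsg.Prelude.Def_ChevG2

/-!
The maximal unipotent subgroup of G₂ in characteristic three: coordinates and product law.
-/

set_option autoImplicit false
set_option linter.unusedSectionVars false
set_option linter.unusedSimpArgs false

namespace CfsgLib.ReeG2

open Cfsg.Lie CfsgLib.Chev

/-- coordinates on `U` at the roots a, b, a+b, 2a+b, 3a+b, 3a+2b -/
@[ext] structure Co (K : Type*) where
  p : K
  q : K
  r : K
  s : K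
  y : K
  z : K

variable {K : Type*} [Field K]

theorem hc : Checked chevG2 G2.tabs := G2.checked

theorem hcomm : CommOne chevG2 G2.tabs := commOne_of_wordCheck G2.checked G2.comm_ok

/-- the root element of G₂ -/
noncomputable abbrev X (r : ℕ) (t : K) : GL chevG2.Idx K := elX chevG2 K r t

theorem X_add {r : ℕ} (hr : r < 12) (s t : K) : X r s * X r t = X r (s + t) := elX_add hc K hr s t

theorem X_zero {r : ℕ} (hr : r < 12) : X r (0 : K) = 1 := elX_zero hc K hr

theorem X_inv {r : ℕ} (hr : r < 12) (t : K) : (X r t)⁻¹ = X r (-t) := elX_inv hc K hr t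

/-- the product x_a x_b x_{a+b} x_{2a+b} x_{3a+b} x_{3a+2b} -/
noncomputable def uu (c : Co K) : GL chevG2.Idx K :=
  X 7 c.p * X 6 c.q * X 8 c.r * X 9 c.s * X 10 c.y * X 11 c.z

theorem comm_word {r s : ℕ} (hr : r < 12) (hs : s < 12) (h1 : s ≠ r) (h2 : s ≠ chevG2.neg r) (t u : K) :
    X s u * X r t = X r t * X s u * wordGL chevG2 K (chevG2.commWord K r s t u) :=
  elX_comm hc hcomm hr hs h1 h2 t u

section Char3
variable [CharP K 3]

theorem three : (3 : K) = 0 := by exact_mod_cast CharP.cast_eq_zero K 3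

theorem neg_two : (-2 : K) = 1 := by linear_combination (-1 : K) * three (K := K)

theorem neg_three : (-3 : K) = 0 := by rw [three, neg_zero]

theorem comm_67 (t q : K) :
    X 6 q * X 7 t = X 7 t * X 6 q *
      (X 8 (t * q) * X 9 (t ^ 2 * q) * X 10 (-(t ^ 3 * q)) * X 11 (-(t ^ 3 * q ^ 2))) := by
  rw [comm_word (by omega) (by omega) (by omega) (by decide +kernel) t q,
    show chevG2.commWord K 7 6 t q =
      [(8, t * q), (9, t ^ 2 * q), (10, -(t ^ 3 * q)), (11, -(t ^ 3 * q ^ 2))] from ?_]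
  · simp [wordGL, mul_assoc]
  · rw [ChevalleyDatum.commWord,
      show chevG2.commTerms 7 6 = [(8, -1, 1, 1), (9, 1, 2, 1), (10, 1, 3, 1), (11, 1, 3, 2)] by decide +kernel]
    simp only [List.map_cons, List.map_nil, List.cons.injEq, Prod.mk.injEq, true_and, and_true]
    push_cast
    exact ⟨by ring, by ring, by ring, by ring⟩

theorem comm_78 (t r : K) : X 8 r * X 7 t = X 7 t * X 8 r * X 9 (-(t * r)) := by
  rw [comm_word (by omega) (by omega) (by omega) (by decide +kernel) t r,
    show chevG2.commWord K 7 8 t r = [(9, -(t * r)), (10, 0), (11, 0)] from ?_]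
  · simp [wordGL, X_zero, elX_zero hc K (show 10 < chevG2.nroots by decide),
      elX_zero hc K (show 11 < chevG2.nroots by decide)]
  · rw [ChevalleyDatum.commWord,
      show chevG2.commTerms 7 8 = [(9, -2, 1, 1), (10, -3, 2, 1), (11, 3, 1, 2)] by decide +kernel]
    simp only [List.map_cons, List.map_nil, List.cons.injEq, Prod.mk.injEq, true_and, and_true]
    push_cast
    simp [three]
    linear_combination (t * r) * three (K := K)

theorem comm_610 (q y : K) : X 10 y * X 6 q = X 6 q * X 10 y * X 11 (-(q * y)) := by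
  rw [comm_word (by omega) (by omega) (by omega) (by decide +kernel) q y,
    show chevG2.commWord K 6 10 q y = [(11, -(q * y))] from ?_]
  · simp [wordGL]
  · rw [ChevalleyDatum.commWord, show chevG2.commTerms 6 10 = [(11, 1, 1, 1)] by decide +kernel]
    simp

theorem comm_none {r s : ℕ} (hr : r < 12) (hs : s < 12) (h1 : s ≠ r) (h2 : s ≠ chevG2.neg r)
    (h : ∀ q ∈ chevG2.commTerms r s, (3 : ℤ) ∣ q.2.1) (h' : ∀ q ∈ chevG2.commTerms r s, q.1 < 12) (t u : K) :
    Commute (X r t) (X s u) := by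
  show _ = _
  rw [comm_word hr hs h1 h2 t u, show wordGL chevG2 K (chevG2.commWord K r s t u) = 1 from ?_, mul_one]
  rw [wordGL]
  refine List.prod_eq_one fun g hg => ?_
  simp only [ChevalleyDatum.commWord, List.map_map, List.mem_map, Function.comp_apply] at hg
  obtain ⟨q, hq, rfl⟩ := hg
  obtain ⟨k, hk⟩ := h q hq
  rw [hk, Int.cast_mul, Int.cast_ofNat, three, zero_mul, zero_mul, zero_mul]
  exact elX_zero hc K (h' q hq)

/-- the product law -/
def Co.mul (c d : Co K) : Co K where
  p := c.p + d.p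
  q := c.q + d.q
  r := c.r + d.r + d.p * c.q
  s := c.s + d.s - d.p * c.r + d.p ^ 2 * c.q
  y := c.y + d.y - d.p ^ 3 * c.q
  z := c.z + d.z - d.p ^ 3 * c.q ^ 2 - d.q * (c.y - d.p ^ 3 * c.q)

theorem uu_mul (c d : Co K) : uu c * uu d = uu (c.mul d) := by
  have k79 : ∀ t u : K, X 9 u * X 7 t = X 7 t * X 9 u := fun t u =>
    (comm_none (by omega) (by omega) (by omega) (by decide +kernel) (by decide +kernel) (by decide +kernel) t u).eq.symm
  have k710 : ∀ t u : K, X 10 u * X 7 t = X 7 t * X 10 u := fun t u =>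
    (comm_none (by omega) (by omega) (by omega) (by decide +kernel) (by decide +kernel) (by decide +kernel) t u).eq.symm
  have k711 : ∀ t u : K, X 11 u * X 7 t = X 7 t * X 11 u := fun t u =>
    (comm_none (by omega) (by omega) (by omega) (by decide +kernel) (by decide +kernel) (by decide +kernel) t u).eq.symm
  have k68 : ∀ t u : K, X 8 u * X 6 t = X 6 t * X 8 u := fun t u =>
    (comm_none (by omega) (by omega) (by omega) (by decide +kernel) (by decide +kernel) (by decide +kernel) t u).eq.symm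
  have k69 : ∀ t u : K, X 9 u * X 6 t = X 6 t * X 9 u := fun t u =>
    (comm_none (by omega) (by omega) (by omega) (by decide +kernel) (by decide +kernel) (by decide +kernel) t u).eq.symm
  have k611 : ∀ t u : K, X 11 u * X 6 t = X 6 t * X 11 u := fun t u =>
    (comm_none (by omega) (by omega) (by omega) (by decide +kernel) (by decide +kernel) (by decide +kernel) t u).eq.symm
  have k89 : ∀ t u : K, X 9 u * X 8 t = X 8 t * X 9 u := fun t u =>
    (comm_none (by omega) (by omega) (by omega) (by decide +kernel) (by decide +kernel) (by decide +kernel) t u).eq.symm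
  have k810 : ∀ t u : K, X 10 u * X 8 t = X 8 t * X 10 u := fun t u =>
    (comm_none (by omega) (by omega) (by omega) (by decide +kernel) (by decide +kernel) (by decide +kernel) t u).eq.symm
  have k811 : ∀ t u : K, X 11 u * X 8 t = X 8 t * X 11 u := fun t u =>
    (comm_none (by omega) (by omega) (by omega) (by decide +kernel) (by decide +kernel) (by decide +kernel) t u).eq.symm
  have k910 : ∀ t u : K, X 10 u * X 9 t = X 9 t * X 10 u := fun t u =>
    (comm_none (by omega) (by omega) (by omega) (by decide +kernel) (by decide +kernel) (by decide +kernel) t u).eq.symm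
  have k911 : ∀ t u : K, X 11 u * X 9 t = X 9 t * X 11 u := fun t u =>
    (comm_none (by omega) (by omega) (by omega) (by decide +kernel) (by decide +kernel) (by decide +kernel) t u).eq.symm
  have k1011 : ∀ t u : K, X 11 u * X 10 t = X 10 t * X 11 u := fun t u =>
    (comm_none (by omega) (by omega) (by omega) (by decide +kernel) (by decide +kernel) (by decide +kernel) t u).eq.symm
  -- the commutation rules in right-associated products
  have a79 : ∀ (t u : K) g, X 9 u * (X 7 t * g) = X 7 t * (X 9 u * g) := fun t u g => by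
    rw [← mul_assoc, k79, mul_assoc]
  have a710 : ∀ (t u : K) g, X 10 u * (X 7 t * g) = X 7 t * (X 10 u * g) := fun t u g => by
    rw [← mul_assoc, k710, mul_assoc]
  have a711 : ∀ (t u : K) g, X 11 u * (X 7 t * g) = X 7 t * (X 11 u * g) := fun t u g => by
    rw [← mul_assoc, k711, mul_assoc]
  have a68 : ∀ (t u : K) g, X 8 u * (X 6 t * g) = X 6 t * (X 8 u * g) := fun t u g => by
    rw [← mul_assoc, k68, mul_assoc]
  have a69 : ∀ (t u : K) g, X 9 u * (X 6 t * g) = X 6 t * (X 9 u * g) := fun t u g => by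
    rw [← mul_assoc, k69, mul_assoc]
  have a611 : ∀ (t u : K) g, X 11 u * (X 6 t * g) = X 6 t * (X 11 u * g) := fun t u g => by
    rw [← mul_assoc, k611, mul_assoc]
  have a89 : ∀ (t u : K) g, X 9 u * (X 8 t * g) = X 8 t * (X 9 u * g) := fun t u g => by
    rw [← mul_assoc, k89, mul_assoc]
  have a810 : ∀ (t u : K) g, X 10 u * (X 8 t * g) = X 8 t * (X 10 u * g) := fun t u g => by
    rw [← mul_assoc, k810, mul_assoc]
  have a811 : ∀ (t u : K) g, X 11 u * (X 8 t * g) = X 8 t * (X 11 u * g) := fun t u g => by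
    rw [← mul_assoc, k811, mul_assoc]
  have a910 : ∀ (t u : K) g, X 10 u * (X 9 t * g) = X 9 t * (X 10 u * g) := fun t u g => by
    rw [← mul_assoc, k910, mul_assoc]
  have a911 : ∀ (t u : K) g, X 11 u * (X 9 t * g) = X 9 t * (X 11 u * g) := fun t u g => by
    rw [← mul_assoc, k911, mul_assoc]
  have a1011 : ∀ (t u : K) g, X 11 u * (X 10 t * g) = X 10 t * (X 11 u * g) := fun t u g => by
    rw [← mul_assoc, k1011, mul_assoc]
  have a78 : ∀ (t u : K) g, X 8 u * (X 7 t * g) = X 7 t * (X 8 u * (X 9 (-(t * u)) * g)) := fun t u g => by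
    rw [← mul_assoc, comm_78]; simp only [mul_assoc]
  have a67 : ∀ (t u : K) g, X 6 u * (X 7 t * g) = X 7 t * (X 6 u * (X 8 (t * u) * (X 9 (t ^ 2 * u) *
      (X 10 (-(t ^ 3 * u)) * (X 11 (-(t ^ 3 * u ^ 2)) * g))))) := fun t u g => by
    rw [← mul_assoc, comm_67]; simp only [mul_assoc]
  have a610 : ∀ (t u : K) g, X 10 u * (X 6 t * g) = X 6 t * (X 10 u * (X 11 (-(t * u)) * g)) := fun t u g => by
    rw [← mul_assoc, comm_610]; simp only [mul_assoc]
  have m : ∀ {r : ℕ}, r < 12 → ∀ (t u : K) g, X r t * (X r u * g) = X r (t + u) * g := fun hr t u g => by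
    rw [← mul_assoc, X_add hr]
  simp only [uu, Co.mul, mul_assoc]
  simp only [a79, a710, a711, a78, a67, a68, a69, a611, a610, a89, a810, a811, a910, a911, a1011,
    m (show 6 < 12 by omega), m (show 7 < 12 by omega), m (show 8 < 12 by omega), m (show 9 < 12 by omega),
    m (show 10 < 12 by omega), m (show 11 < 12 by omega)]
  simp only [k811, k911, k1011, k810, k910, k89, a811, a911, a1011, a810, a910, a89, X_add (show 11 < 12 by omega),
    m (show 8 < 12 by omega), m (show 9 < 12 by omega), m (show 10 < 12 by omega), m (show 11 < 12 by omega)]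
  ring_nf

theorem uu_one : uu (⟨0, 0, 0, 0, 0, 0⟩ : Co K) = 1 := by
  simp [uu, X_zero]

/-- the inverse of coordinates -/
def Co.inv (c : Co K) : Co K where
  p := -c.p
  q := -c.q
  r := -c.r + c.p * c.q
  s := -c.s - c.p * c.r - c.p ^ 2 * c.q
  y := -c.y - c.p ^ 3 * c.q
  z := -c.z - c.p ^ 3 * c.q ^ 2 - c.q * (c.y + c.p ^ 3 * c.q)

theorem mul_inv' (c : Co K) : c.mul c.inv = ⟨0, 0, 0, 0, 0, 0⟩ := by
  ext <;> simp only [Co.mul, Co.inv] <;> ring

theorem uu_inv (c : Co K) : (uu c)⁻¹ = uu c.inv := by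
  rw [inv_eq_iff_mul_eq_one, uu_mul, mul_inv', uu_one]

/-- the positive unipotent subgroup as an ordered product in increasing order of roots -/
theorem uu_eq_uProd (c : Co K) :
    uu c = uProd chevG2 K (rootsFrom chevG2 (fun r => 6 ≤ r) 6)
      (fun i => ([0, 0, 0, 0, 0, 0, c.q, c.p, c.r - c.p * c.q, c.s - c.p ^ 2 * c.q, c.y + c.p ^ 3 * c.q,
        c.z + c.p ^ 3 * c.q ^ 2] : List K).getD i 0) := by
  have hl : rootsFrom chevG2 (fun r => 6 ≤ r) 6 = [6, 7, 8, 9, 10, 11] := by
    rw [rootsFrom, List.filter_eq_self.2]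
    · rfl
    · intro a ha; simp only [List.mem_range'_1] at ha; simpa using ha.1
  rw [hl]
  have e : c = Co.mul ⟨0, c.q, 0, 0, 0, 0⟩ ⟨c.p, 0, c.r - c.p * c.q, c.s - c.p ^ 2 * c.q,
      c.y + c.p ^ 3 * c.q, c.z + c.p ^ 3 * c.q ^ 2⟩ := by
    ext <;> simp only [Co.mul] <;> ring
  conv_lhs => rw [e, ← uu_mul]
  simp [uu, uProd, X_zero, mul_assoc]

theorem pos_eq : chevG2.posUnipotent K = uGen chevG2 K (fun r => 6 ≤ r) := posUnipotent_eq hc

theorem mem_pos {g : GL chevG2.Idx K} : g ∈ chevG2.posUnipotent K ↔ ∃ c, g = uu c := by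
  rw [pos_eq]
  constructor
  · intro h
    obtain ⟨t, rfl⟩ := uGen_normal_form hc hcomm (P := fun r => 6 ≤ r) (closedPos_pos hc) 6
      (uGen_mono (fun r _ h => ⟨h, h⟩) h)
    refine ⟨⟨t 7, t 6, t 8 + t 7 * t 6, t 9 + t 7 ^ 2 * t 6, t 10 - t 7 ^ 3 * t 6,
      t 11 - t 7 ^ 3 * t 6 ^ 2⟩, ?_⟩
    rw [uu_eq_uProd]
    refine uProd_congr fun r hr => ?_
    obtain ⟨h1, h2, -⟩ := mem_rootsFrom.1 hr
    change r < 12 at h2
    interval_cases r <;> simp
  · rintro ⟨c, rfl⟩
    unfold uu
    have m : ∀ r, r < 12 → 6 ≤ r → ∀ t : K, X r t ∈ uGen chevG2 K (fun r => 6 ≤ r) :=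
      fun r hr h t => elX_mem_uGen hr h t
    exact mul_mem (mul_mem (mul_mem (mul_mem (mul_mem (m 7 (by omega) (by omega) _) (m 6 (by omega) (by omega) _))
      (m 8 (by omega) (by omega) _)) (m 9 (by omega) (by omega) _)) (m 10 (by omega) (by omega) _))
      (m 11 (by omega) (by omega) _)

theorem uu_mem (c : Co K) : uu c ∈ chevG2.posUnipotent K := mem_pos.2 ⟨c, rfl⟩

theorem uu_injective : Function.Injective (uu : Co K → GL chevG2.Idx K) := by
  intro c d h
  rw [uu_eq_uProd, uu_eq_uProd] at h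
  have e := uProd_inj hc (P := fun r => 6 ≤ r) (fun r _ h => h) 6 h
  have e' : ∀ r, 6 ≤ r → r < 12 → _ := fun r h1 h2 => e r (mem_rootsFrom.2 ⟨h1, h2, h1⟩)
  have e6 := e' 6 (by omega) (by omega)
  have e7 := e' 7 (by omega) (by omega)
  have e8 := e' 8 (by omega) (by omega)
  have e9 := e' 9 (by omega) (by omega)
  have e10 := e' 10 (by omega) (by omega)
  have e11 := e' 11 (by omega) (by omega)
  simp only [List.getD_cons_succ, List.getD_cons_zero] at e6 e7 e8 e9 e10 e11
  rw [e6, e7] at e8 e9 e10 e11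
  ext <;> first | exact e6 | exact e7 | simpa using e8 | simpa using e9 | simpa using e10 | simpa using e11

end Char3

end CfsgLib.ReeG2
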