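import Cfsg.Agent.Lib.ReeG2.Inj
import Cfsg.Agent.Lib.Twisted.Commute

/-!
The element n₀ of order two inducing -1 on the roots, the torus action, and the double cosets of G₂
invariant under the exceptional endomorphism.
-/

set_option autoImplicit false
set_option linter.unusedSectionVars false

namespace CfsgLib.ReeG2

open Cfsg.Lie CfsgLib.Chev
open scoped Matrix

variable {K : Type*} [Field K]

/-- n_{a+b}(1) n_{3a+b}(1) -/
noncomputable def n0 (K : Type*) [Field K] : GL chevG2.Idx K := elN chevG2 K 8 1 * elN chevG2 K 10 1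

/-- the fundamental root a -/
abbrev i0 : Fin chevG2.rank := ⟨0, by decide⟩

/-- the fundamental root b -/
abbrev i1 : Fin chevG2.rank := ⟨1, by decide⟩

/-- the action of n_p(1) -/
noncomputable abbrev sg (i : Fin chevG2.rank) (s : ℕ) : ℕ := sig chevG2 G2.tabs i s

/-- the sign of n_p(1) -/
noncomputable abbrev et (i : Fin chevG2.rank) (s : ℕ) : ℤ := eta chevG2 G2.tabs i s

theorem conj_step (i : Fin chevG2.rank) {s : ℕ} (hs : s < 12) (t : K) :
    elN chevG2 K (chevG2.simple i) 1 * X s t * (elN chevG2 K (chevG2.simple i) 1)⁻¹ =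
      X (sg i s) ((et i s : K) * t) := nOne_conj_elX hc i hs t

theorem conj_step' (i : Fin chevG2.rank) {s : ℕ} (hs : s < 12) (t : K) :
    (elN chevG2 K (chevG2.simple i) 1)⁻¹ * X s t * elN chevG2 K (chevG2.simple i) 1 =
      X (sg i s) ((et i (sg i s) : K) * t) := by
  have hu : sg i s < 12 := sig_lt hc i hs
  have h := conj_step (K := K) i hu ((et i (sg i s) : K) * t)
  rw [show sg i (sg i s) = s from sig_sig hc i hs, ← mul_assoc] at h
  have h1 : (et i (sg i s) : K) * (et i (sg i s) : K) = 1 := by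
    rcases eta_cast hc (F := K) i hu with e | e <;> simp only [et, e] <;> ring
  rw [h1, one_mul] at h
  rw [← h]; group

theorem n0_expand :
    n0 K = elN chevG2 K (chevG2.simple i1) 1 * elN chevG2 K (chevG2.simple i0) 1 *
      (elN chevG2 K (chevG2.simple i1) 1)⁻¹ * (elN chevG2 K (chevG2.simple i0) 1 *
      elN chevG2 K (chevG2.simple i1) 1 * (elN chevG2 K (chevG2.simple i0) 1)⁻¹) := by
  have e : sg i1 (chevG2.simple i0) = 8 ∧ et i1 (chevG2.simple i0) = 1 ∧
      sg i0 (chevG2.simple i1) = 10 ∧ et i0 (chevG2.simple i1) = 1 := by decide +kernel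
  rw [nOne_conj_elN hc i1 (simple_lt hc i0.2), nOne_conj_elN hc i0 (simple_lt hc i1.2)]
  simp only [sg, et] at e
  rw [e.1, e.2.1, e.2.2.1, e.2.2.2]
  simp [n0]

theorem n0_chk : ∀ r : Fin 12,
    let a := sg i0 r.val; let ea := et i0 a
    let b := sg i1 a; let eb := et i1 b
    let c := sg i0 b; let ec := et i0 b
    let d := sg i1 c; let ed := et i1 d
    let e := sg i0 d; let ee := et i0 d
    let f := sg i1 e; let ef := et i1 e
    a < 12 ∧ et i0 r.val ≠ 0 ∧ f = 11 - r.val ∧ True ∧ b < 12 ∧ c < 12 ∧ d < 12 ∧ e < 12 ∧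
      ef * ee * ed * ec * et i1 a * ea = -1 ∧ eb * eb = 1 := by decide +kernel

theorem n0_conj {r : ℕ} (hr : r < 12) (t : K) : n0 K * X r t * (n0 K)⁻¹ = X (11 - r) (-t) := by
  obtain ⟨ha, -, hf, -, hb, hc', hd, he, hsign, -⟩ := n0_chk ⟨r, hr⟩
  set A := elN chevG2 K (chevG2.simple i0) (1 : K) with hA
  set B := elN chevG2 K (chevG2.simple i1) (1 : K) with hB
  rw [n0_expand]
  calc _ = B * (A * (B⁻¹ * (A * (B * (A⁻¹ * X r t * A) * B⁻¹) * A⁻¹) * B) * A⁻¹) * B⁻¹ := by
        rw [← hA, ← hB]; group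
    _ = _ := by
        simp only at hb hc' hd he ha
        rw [hA, hB, conj_step' i0 hr, conj_step i1 ha, conj_step i0 hb, conj_step' i1 hc', conj_step i0 hd,
          conj_step i1 he, hf]
        congr 1
        have := congrArg (Int.cast (R := K)) hsign
        push_cast at this
        linear_combination t * this

theorem n0_commute (s u : K) : Commute (elN chevG2 K 8 s) (elN chevG2 K 10 u) := by
  have h : ∀ z ∈ ([(8, 10), (8, 1), (3, 10), (3, 1)] : List (ℕ × ℕ)), z.1 < 12 ∧ z.2 < 12 ∧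
      z.2 ≠ chevG2.neg z.1 ∧ chevG2.chainEntry z.1 z.2 = [] := by decide +kernel
  have c : ∀ p q : ℕ, (p, q) ∈ [(8, 10), (8, 1), (3, 10), (3, 1)] → ∀ a b : K, Commute (X p a) (X q b) := by
    intro p q hm a b
    obtain ⟨hp, hq, h1, h2⟩ := h (p, q) hm
    exact CfsgLib.Twisted.commute_elX hc hp hq h1 h2 a b
  have e8 : chevG2.neg 8 = 3 := by decide +kernel
  have e10 : chevG2.neg 10 = 1 := by decide +kernel
  simp only [elN, e8, e10]
  have k1 := c 8 10 (by simp)
  have k2 := c 8 1 (by simp)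
  have k3 := c 3 10 (by simp)
  have k4 := c 3 1 (by simp)
  exact (((k1 s u).mul_right (k2 s _)).mul_right (k1 s u)).mul_left
    (((k3 _ u).mul_right (k4 _ _)).mul_right (k3 _ u)) |>.mul_left
    (((k1 s u).mul_right (k2 s _)).mul_right (k1 s u))

theorem tor_cor (r : ℕ) (t : Kˣ) :
    torus chevG2 G2.tabs K (corChar chevG2 G2.tabs r t) =
      tor (corChar chevG2 G2.tabs r t i0) (corChar chevG2 G2.tabs r t i1) := congrArg _ (chr_eq _)

theorem elN_pair (s u : Kˣ) :
    elN chevG2 K 8 s * elN chevG2 K 10 u = tor (s⁻¹ * u) (s ^ 3 * u⁻¹) * n0 K := by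
  rw [elN_eq_mul hc (show 8 < chevG2.nroots by decide), elN_eq_mul hc (show 10 < chevG2.nroots by decide)]
  have hcomm : elN chevG2 K 8 1 * torus chevG2 G2.tabs K (corChar chevG2 G2.tabs 10 u) =
      torus chevG2 G2.tabs K (corChar chevG2 G2.tabs 10 u) * elN chevG2 K 8 1 := by
    rw [eq_mul_inv_iff_mul_eq.2 (elN_eq_mul hc (show 10 < chevG2.nroots by decide) u).symm]
    exact ((n0_commute (1 : K) u).mul_right (n0_commute (1 : K) 1).inv_right).eq
  rw [show ∀ A B C D : GL chevG2.Idx K, A * B * (C * D) = A * (B * C) * D from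
      fun A B C D => by group, hcomm, n0,
    show ∀ A B C D : GL chevG2.Idx K, A * (B * C) * D = A * B * (C * D) from fun A B C D => by group,
    ← map_mul]
  congr 1
  rw [tor]
  congr 1
  funext j
  have e : ∀ j : Fin chevG2.rank,
      (∑ k : Fin chevG2.rank, cv G2.tabs 8 k * cm chevG2 k j) = (if j.val = 0 then -1 else 3) ∧
      (∑ k : Fin chevG2.rank, cv G2.tabs 10 k * cm chevG2 k j) = (if j.val = 0 then 1 else -1) := by decide +kernel
  simp only [Pi.mul_apply, corChar, (e j).1, (e j).2, chr]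
  split_ifs <;> simp [zpow_ofNat]

theorem n0_mem_monomial : n0 K ∈ chevG2.monomialSubgroup K :=
  mul_mem (elN_mem_monomial hc (show 8 < chevG2.nroots by decide))
    (elN_mem_monomial hc (show 10 < chevG2.nroots by decide))

theorem n0_mem_group : n0 K ∈ chevG2.group K := monomial_le_group hc n0_mem_monomial

theorem n0_sq : n0 K * n0 K = 1 := by
  have h1 : elN chevG2 K 8 (1 : K) = (elN chevG2 K 8 ((-1 : Kˣ) : K))⁻¹ := by
    rw [elN_inv hc (show 8 < chevG2.nroots by decide)]; simp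
  have h2 : elN chevG2 K 10 (1 : K) = (elN chevG2 K 10 ((-1 : Kˣ) : K))⁻¹ := by
    rw [elN_inv hc (show 10 < chevG2.nroots by decide)]; simp
  have h3 : n0 K = (elN chevG2 K 8 ((-1 : Kˣ) : K) * elN chevG2 K 10 ((-1 : Kˣ) : K))⁻¹ := by
    rw [n0, h1, h2, ← mul_inv_rev, (n0_commute _ _).eq]
  rw [elN_pair] at h3
  have e : tor ((-1 : Kˣ)⁻¹ * -1) ((-1) ^ 3 * (-1 : Kˣ)⁻¹) = 1 := by
    rw [tor, show chr ((-1 : Kˣ)⁻¹ * -1) ((-1) ^ 3 * (-1 : Kˣ)⁻¹) = 1 by funext j; simp [chr, pow_succ], map_one]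
  rw [e, one_mul] at h3
  nth_rw 1 [h3]
  exact inv_mul_cancel _

theorem n0_inv : (n0 K)⁻¹ = n0 K := inv_eq_of_mul_eq_one_right n0_sq

/-- the values at the six positive roots -/
theorem tor_conj_X (a b : Kˣ) {r : ℕ} (hr : r < 12) (t : K) :
    tor a b * X r t * (tor a b)⁻¹ = X r ((chi (chr a b) (rv chevG2 G2.tabs r) : K) * t) :=
  torus_conj_elX hc _ hr t

theorem tor_mul (a b c d : Kˣ) : tor a b * tor c d = tor (a * c) (b * d) := by
  rw [tor, tor, tor, ← map_mul]; congr 1; funext j; by_cases h : j.val = 0 <;> simp [chr, h]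

theorem tor_one : tor (1 : Kˣ) 1 = 1 := by
  rw [tor, show chr (1 : Kˣ) 1 = 1 by funext j; simp [chr], map_one]

theorem tor_inv (a b : Kˣ) : (tor a b)⁻¹ = tor a⁻¹ b⁻¹ := by
  rw [inv_eq_iff_mul_eq_one, tor_mul, mul_inv_cancel, mul_inv_cancel, tor_one]

theorem tor_injective {a b c d : Kˣ} (h : tor a b = tor c d) : a = c ∧ b = d := by
  have e := torus_injective hc h
  exact ⟨congrFun e i0, congrFun e i1⟩

theorem n0_conj_tor (a b : Kˣ) : n0 K * tor a b * (n0 K)⁻¹ = tor a⁻¹ b⁻¹ := by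
  obtain ⟨c, d, e⟩ := mem_diag.1 (monomial_conj_diagonal hc n0_mem_monomial (tor_mem a b))
  have hsimple : ∀ i : Fin chevG2.rank, chi (chr a b) (rv chevG2 G2.tabs (chevG2.simple i)) =
      (chi (chr c d) (rv chevG2 G2.tabs (chevG2.simple i)))⁻¹ := by
    intro i
    have hp : chevG2.simple i < 12 := simple_lt hc i.2
    have hn : chevG2.neg (chevG2.simple i) = 11 - chevG2.simple i := by
      rw [neg_eq hc hp]; change 12 - _ = _; omega
    have h1 : (tor c d : GL chevG2.Idx K) * X (11 - chevG2.simple i) (-1 : K) * (tor c d)⁻¹ =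
        X (11 - chevG2.simple i) (-(chi (chr a b) (rv chevG2 G2.tabs (chevG2.simple i)) : K)) := by
      rw [← e, ← n0_conj hp 1, ← n0_conj hp, ← mul_one (chi (chr a b) _ : K), ← tor_conj_X a b hp]
      group
    rw [tor_conj_X c d (by omega)] at h1
    rw [← hn, rv_neg hc hp, chi_neg] at h1
    have h3 : ((chi (chr c d) (rv chevG2 G2.tabs (chevG2.simple i)))⁻¹ : Kˣ) =
        chi (chr a b) (rv chevG2 G2.tabs (chevG2.simple i)) := by
      have h4 := h1
      have : ∀ x y : K, X (chevG2.neg (chevG2.simple i)) x = X (chevG2.neg (chevG2.simple i)) y → x = y := by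
        intro x y hxy
        have hz : X (chevG2.neg (chevG2.simple i)) (x + -y) = 1 := by
          rw [← X_add (by omega), hxy, X_add (by omega), add_neg_cancel, X_zero (by omega)]
        exact add_neg_eq_zero.1 ((elX_eq_one_iff hc (neg_lt hc hp) _).1 hz)
      have h5 := this _ _ h4
      apply Units.ext
      rw [mul_neg, mul_one, neg_inj] at h5
      exact h5
    exact h3.symm
  have h0 := hsimple i0
  have h1 := hsimple i1
  have r0 : rv chevG2 G2.tabs (chevG2.simple i0) = fun j : Fin chevG2.rank => if j.val = 0 then 1 else 0 := by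
    decide +kernel
  have r1 : rv chevG2 G2.tabs (chevG2.simple i1) = fun j : Fin chevG2.rank => if j.val = 0 then 0 else 1 := by
    decide +kernel
  rw [rv_chr _ _ r0, rv_chr _ _ r0] at h0
  rw [rv_chr _ _ r1, rv_chr _ _ r1] at h1
  simp only [zpow_one, zpow_zero, one_mul, mul_one] at h0 h1
  rw [e, h0, h1, inv_inv, inv_inv]

theorem monomial_of_fix {n : GL chevG2.Idx K} (hn : n ∈ chevG2.monomialSubgroup K)
    (h : ∀ r, r < 12 → ∃ c : K, n * X r 1 * n⁻¹ = X r c) : n ∈ chevG2.diagonalSubgroup K := by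
  obtain ⟨k, hk, L, rfl⟩ := monomial_cases hc hn
  refine mul_mem hk (monomial_fix hc fun r hr => ?_)
  obtain ⟨c, hc1, hL⟩ := nProd_conj_elX hc (F := K) L hr
  obtain ⟨d, hd⟩ := diagonal_conj_elX hc hk (sigs_lt hc L hr)
  obtain ⟨e, he⟩ := h r hr
  refine elX_root_unique hc (sigs_lt hc L hr) hr (F := K) (s := (d : K) * ((c : K) * 1)) (u := e) (by simp) ?_
  change _ = X r e
  rw [← hd, ← hL 1, ← he]; group

/-- representatives of the Weyl group -/
def canon : List (List (Fin chevG2.rank)) :=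
  [[], [i0], [i1], [i0, i1], [i1, i0], [i0, i1, i0], [i1, i0, i1], [i0, i1, i0, i1], [i1, i0, i1, i0],
    [i0, i1, i0, i1, i0], [i1, i0, i1, i0, i1], [i0, i1, i0, i1, i0, i1]]

/-- exchanging the two fundamental roots -/
def swapN (i : Fin chevG2.rank) : Fin chevG2.rank := if i.val = 0 then i1 else i0

theorem canon_step : ∀ i : Fin chevG2.rank, ∀ C ∈ canon, ∃ C' ∈ canon, ∀ r : Fin 12,
    sg i (sigs chevG2 G2.tabs C r.val) = sigs chevG2 G2.tabs C' r.val := by decide +kernel

theorem canon_fixed : ∀ C ∈ canon,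
    (∀ r : Fin 12, bar (sigs chevG2 G2.tabs C r.val) = sigs chevG2 G2.tabs C (bar r.val)) →
    (∀ r : Fin 12, sigs chevG2 G2.tabs C r.val = r.val) ∨
    (∀ r : Fin 12, sigs chevG2 G2.tabs C r.val = 11 - r.val) := by decide +kernel

theorem exists_canon (L : List (Fin chevG2.rank)) :
    ∃ C ∈ canon, ∀ r : Fin 12, sigs chevG2 G2.tabs L r.val = sigs chevG2 G2.tabs C r.val := by
  induction L with
  | nil => exact ⟨[], by simp [canon], fun r => rfl⟩
  | cons i L ih =>
      obtain ⟨C, hC, h⟩ := ih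
      obtain ⟨C', hC', h'⟩ := canon_step i C hC
      exact ⟨C', hC', fun r => by rw [sigs_cons, h r]; exact h' r⟩

theorem bar_sig : ∀ i : Fin chevG2.rank, ∀ r : Fin 12, bar (sg i r.val) = sg (swapN i) (bar r.val) := by
  decide +kernel

theorem bar_sigs (L : List (Fin chevG2.rank)) {r : ℕ} (hr : r < 12) :
    bar (sigs chevG2 G2.tabs L r) = sigs chevG2 G2.tabs (L.map swapN) (bar r) := by
  induction L with
  | nil => rfl
  | cons i L ih =>
      rw [List.map_cons, sigs_cons, sigs_cons, ← ih]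
      exact bar_sig i ⟨_, sigs_lt hc L hr⟩

section Twist
variable [CharP K 3] {θ : K ≃+* K} (hθ : ∀ x, θ (θ x) ^ 3 = x)
include hθ

theorem img_simpleN (i : Fin chevG2.rank) :
    Img θ (elN chevG2 K (chevG2.simple i) 1) (elN chevG2 K (chevG2.simple (swapN i)) 1) := by
  have hi : i = i0 ∨ i = i1 := by
    have : i.val < 2 := i.2
    rcases (show i.val = 0 ∨ i.val = 1 by omega) with e | e
    · exact Or.inl (Fin.ext e)
    · exact Or.inr (Fin.ext e)
  have key : ∀ p q : ℕ, p < 12 → chevG2.neg p < 12 → bar p = q → bar (chevG2.neg p) = chevG2.neg q →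
      Img θ (elN chevG2 K p 1) (elN chevG2 K q 1) := by
    intro p q hp hn e1 e2
    have h := ((img_X hθ hp (1 : K)).mul (img_X hθ hn (-(1 : K)⁻¹))).mul (img_X hθ hp (1 : K))
    have hb : ∀ r, barPar θ r (1 : K) = 1 ∧ barPar θ r (-(1 : K)⁻¹) = -(1 : K)⁻¹ := fun r => by
      unfold barPar; split_ifs <;> simp [Odd.neg_pow (by decide : Odd 3)]
    rw [(hb p).1, (hb _).2, e1, e2] at h
    exact h
  rcases hi with rfl | rfl
  · exact key 7 6 (by omega) (by decide +kernel) (by decide +kernel) (by decide +kernel)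
  · exact key 6 7 (by omega) (by decide +kernel) (by decide +kernel) (by decide +kernel)

theorem img_nProd (L : List (Fin chevG2.rank)) :
    Img θ (nProd chevG2 K L) (nProd chevG2 K (L.map swapN)) := by
  induction L with
  | nil => exact Img.one θ
  | cons i L ih => rw [List.map_cons, nProd_cons, nProd_cons]; exact (img_simpleN hθ i).mul ih

theorem img_borel {b : GL chevG2.Idx K} (hb : b ∈ chevG2.borelSubgroup K) :
    ∃ b' ∈ chevG2.borelSubgroup K, Img θ b b' := by
  obtain ⟨u, hu, t, ht, rfl⟩ := (mem_borel hc).1 hb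
  rw [← posUnipotent_eq hc] at hu
  obtain ⟨c, rfl⟩ := mem_pos.1 hu
  obtain ⟨x, y, rfl⟩ := mem_diag.1 ht
  exact ⟨_, mul_mem (Subgroup.mem_sup_left (uu_mem _)) (Subgroup.mem_sup_right (tor_mem _ _)),
    (img_uu hθ c).mul (img_tor hθ x y)⟩

/-- an element fixed by the endomorphism lies in B or in U H n₀ U -/
theorem fixed_cases {g : GL chevG2.Idx K} (hg : g ∈ chevG2.group K) (hfix : Img θ g g) :
    g ∈ chevG2.borelSubgroup K ∨ ∃ c d : Co K, ∃ a b : Kˣ, g = uu c * tor a b * n0 K * uu d := by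
  obtain ⟨P, hB, hN, -⟩ := exists_bnPair hc hcomm (F := K)
  obtain ⟨w, hw⟩ := CfsgLib.BN.exists_cell P ⟨g, hg⟩
  obtain ⟨n, hn, rfl⟩ := CfsgLib.BN.exists_rep P w
  obtain ⟨b₁, hb₁, b₂, hb₂, he⟩ := (CfsgLib.BN.mem_cell_wk P hn).1 hw
  have hn' : (n : GL chevG2.Idx K) ∈ chevG2.monomialSubgroup K := by
    rwa [hN, Subgroup.mem_subgroupOf] at hn
  rw [hB, Subgroup.mem_subgroupOf] at hb₁ hb₂
  obtain ⟨k, hk, L, hkL⟩ := monomial_cases hc hn'
  have eg : g = (b₁ : GL chevG2.Idx K) * (k * nProd chevG2 K L) * b₂ := by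
    rw [← hkL]; exact congrArg Subtype.val he
  obtain ⟨c₁, hc₁, i₁⟩ := img_borel hθ (mul_mem hb₁ (diagonal_le_borel hc hk))
  obtain ⟨c₂, hc₂, i₂⟩ := img_borel hθ hb₂
  have iL := img_nProd hθ L
  have eg' : g = (b₁ : GL chevG2.Idx K) * k * nProd chevG2 K L * b₂ := by rw [eg]; group
  have hNg : ∀ M : List (Fin chevG2.rank), nProd chevG2 K M ∈ chevG2.group K := fun M =>
    monomial_le_group hc (nProd_mem_monomial hc M)
  have hσ : g = c₁ * nProd chevG2 K (L.map swapN) * c₂ := by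
    refine Img.unique hθ hg (mul_mem (mul_mem (borel_le_group hc hc₁) (hNg _)) (borel_le_group hc hc₂))
      hfix ?_
    rw [eg']; exact (i₁.mul iL).mul i₂
  -- the two cells coincide
  let nn : List (Fin chevG2.rank) → ↥(chevG2.group K) := fun M => ⟨_, hNg M⟩
  have hnn : ∀ M, nn M ∈ P.N := fun M => by
    rw [hN, Subgroup.mem_subgroupOf]; exact nProd_mem_monomial hc M
  have m1 : (⟨g, hg⟩ : ↥(chevG2.group K)) ∈ CfsgLib.BN.cell P (CfsgLib.BN.wk P (nn L) (hnn L)) :=
    (CfsgLib.BN.mem_cell_wk P _).2 ⟨⟨_, borel_le_group hc (mul_mem hb₁ (diagonal_le_borel hc hk))⟩,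
      by rw [hB, Subgroup.mem_subgroupOf]; exact mul_mem hb₁ (diagonal_le_borel hc hk), b₂,
      by rw [hB, Subgroup.mem_subgroupOf]; exact hb₂, Subtype.ext eg'⟩
  have m2 : (⟨g, hg⟩ : ↥(chevG2.group K)) ∈
      CfsgLib.BN.cell P (CfsgLib.BN.wk P (nn (L.map swapN)) (hnn _)) :=
    (CfsgLib.BN.mem_cell_wk P _).2 ⟨⟨c₁, borel_le_group hc hc₁⟩, by rw [hB, Subgroup.mem_subgroupOf]; exact hc₁,
      ⟨c₂, borel_le_group hc hc₂⟩, by rw [hB, Subgroup.mem_subgroupOf]; exact hc₂, Subtype.ext hσ⟩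
  have hwk := CfsgLib.BN.eq_of_mem_cell P m2 m1
  rw [CfsgLib.BN.wk_eq_iff, hB, Subgroup.mem_subgroupOf] at hwk
  simp only [nn, Subgroup.coe_mul, Subgroup.coe_inv] at hwk
  have hH := borel_inf_monomial hc hwk
    (mul_mem (inv_mem (nProd_mem_monomial hc _)) (nProd_mem_monomial hc _))
  have hd : nProd chevG2 K L * (nProd chevG2 K (L.map swapN))⁻¹ ∈ chevG2.diagonalSubgroup K := by
    have := nProd_conj_diagonal hc (L.map swapN) hH
    rwa [mul_inv_cancel_left] at this
  obtain ⟨C, hC, hCL⟩ := exists_canon L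
  have hcases := canon_fixed C hC fun r => by
    rw [← hCL r, bar_sigs L r.2, ← hCL ⟨bar r.val, bar_lt r.2⟩]
    exact (sigs_eq_of_mem hc hd (bar_lt r.2)).symm
  rcases hcases with hid | hneg
  · left
    rw [eg']
    refine mul_mem (mul_mem (mul_mem hb₁ (diagonal_le_borel hc hk)) (diagonal_le_borel hc ?_)) hb₂
    exact monomial_fix hc fun r hr => (hCL ⟨r, hr⟩).trans (hid ⟨r, hr⟩)
  · right
    have hm : nProd chevG2 K L * n0 K ∈ chevG2.diagonalSubgroup K := by
      refine monomial_of_fix (mul_mem (nProd_mem_monomial hc L) n0_mem_monomial) fun r hr => ?_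
      obtain ⟨c, -, hL⟩ := nProd_conj_elX hc (F := K) L (show 11 - r < chevG2.nroots by change _ < 12; omega)
      refine ⟨(c : K) * (-1), ?_⟩
      have e : sigs chevG2 G2.tabs L (11 - r) = r := by
        rw [show sigs chevG2 G2.tabs L (11 - r) = _ from hCL ⟨11 - r, by omega⟩, hneg]
        simp; omega
      have := hL (-1 : K)
      rw [e] at this
      change _ = X r _ at this
      rw [← this, show elX chevG2 K (11 - r) (-1 : K) = n0 K * X r 1 * (n0 K)⁻¹ from (n0_conj hr 1).symm]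
      group
    have hdiag := mul_mem hk hm
    obtain ⟨u, hu, t, ht, e1⟩ := (mem_borel hc).1 hb₁
    obtain ⟨u', hu', t', ht', e2⟩ := (mem_borel hc).1 hb₂
    rw [← posUnipotent_eq hc] at hu hu'
    obtain ⟨c, rfl⟩ := mem_pos.1 hu
    have hu'' : t'⁻¹ * u' * t' ∈ chevG2.posUnipotent K := by
      rw [posUnipotent_eq hc] at hu' ⊢; exact diag_conj_mem' hc _ ht' hu'
    obtain ⟨d, hd'⟩ := mem_pos.1 hu''
    obtain ⟨x, y, hxy⟩ := mem_diag.1 (mul_mem (mul_mem ht hdiag)
      (monomial_conj_diagonal hc n0_mem_monomial ht'))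
    refine ⟨c, d, x, y, ?_⟩
    rw [← hxy, ← hd', eg', e1, e2, n0_inv]
    calc _ = uu c * t * k * nProd chevG2 K L * (u' * t') := by group
      _ = uu c * (t * (k * (nProd chevG2 K L * n0 K))) * (n0 K)⁻¹ * (u' * t') := by group
      _ = uu c * (t * (k * (nProd chevG2 K L * n0 K))) * n0 K * (u' * t') := by rw [n0_inv]
      _ = _ := by
        calc _ = uu c * (t * (k * (nProd chevG2 K L * n0 K)) * (n0 K * t' * (n0 K)⁻¹)) * n0 K *
              (t'⁻¹ * u' * t') := by group
          _ = _ := by rw [n0_inv]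

end Twist

end CfsgLib.ReeG2
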